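import Groth.Agent.PP16Lib.CompletionEquiv
import Groth.Agent.CohenStruct.PowerSeries

/-!
# Dimension of power series rings over fields
-/

set_option autoImplicit false

universe u

namespace Groth.Agent.WildQuot

open IsLocalRing

theorem span_X_eq_maximalIdeal (n : ℕ) (K : Type u) [Field K] :
    Ideal.span (Set.range (MvPowerSeries.X : Fin n → MvPowerSeries (Fin n) K)) =
      maximalIdeal (MvPowerSeries (Fin n) K) := by
  refine le_antisymm (Ideal.span_le.mpr ?_) ((CohenStruct.maximalIdeal_mvPowerSeries_le (Λ := K) n).trans ?_)
  · rintro _ ⟨i, rfl⟩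
    rw [SetLike.mem_coe, IsLocalRing.mem_maximalIdeal, mem_nonunits_iff, MvPowerSeries.isUnit_iff_constantCoeff]
    simp
  · rw [IsLocalRing.maximalIdeal_eq_bot, Ideal.map_bot, bot_sup_eq]

theorem coeff_single_mul {n : ℕ} {K : Type u} [Field K] (a x : MvPowerSeries (Fin n) K)
    (hx : MvPowerSeries.constantCoeff x = 0) (i : Fin n) :
    MvPowerSeries.coeff (Finsupp.single i 1) (a * x) =
      MvPowerSeries.constantCoeff a * MvPowerSeries.coeff (Finsupp.single i 1) x := by
  classical
  rw [MvPowerSeries.coeff_mul, Finset.sum_eq_single ((0 : Fin n →₀ ℕ), Finsupp.single i 1)]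
  · rw [MvPowerSeries.coeff_zero_eq_constantCoeff_apply]
  · rintro ⟨u, v⟩ huv hne
    rw [Finset.HasAntidiagonal.mem_antidiagonal] at huv
    have hu : u + v = Finsupp.single i 1 := huv
    have : v = 0 ∨ u = 0 := by
      by_contra h
      push Not at h
      have h1 : 0 < Finsupp.degree v := Nat.pos_of_ne_zero fun h' => h.1 ((Finsupp.degree_eq_zero_iff v).mp h')
      have h2 : 0 < Finsupp.degree u := Nat.pos_of_ne_zero fun h' => h.2 ((Finsupp.degree_eq_zero_iff u).mp h')
      have := congrArg Finsupp.degree hu
      rw [map_add, Finsupp.degree_single] at this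
      omega
    rcases this with rfl | rfl
    · rw [MvPowerSeries.coeff_zero_eq_constantCoeff_apply, hx, mul_zero]
    · rw [zero_add] at hu
      exact absurd (by rw [hu]) hne
  · intro h
    exact absurd (Finset.HasAntidiagonal.mem_antidiagonal.mpr (zero_add _)) h

theorem ringKrullDim_mvPowerSeries (n : ℕ) (K : Type u) [Field K] :
    ringKrullDim (MvPowerSeries (Fin n) K) = n := by
  classical
  haveI := PP16Lib.isRegularLocalRing_mvPowerSeries n K
  rw [← IsRegularLocalRing.spanFinrank_maximalIdeal]
  refine congrArg _ (le_antisymm ?_ ?_)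
  · rw [← span_X_eq_maximalIdeal]
    exact (Submodule.spanFinrank_span_le_ncard_of_finite (Set.finite_range _)).trans
      (by rw [← Set.image_univ]; exact (Set.ncard_image_le Set.finite_univ).trans (by simp))
  · let R := MvPowerSeries (Fin n) K
    have hfg : (maximalIdeal R).FG := IsNoetherian.noetherian _
    let s := (maximalIdeal R).generators
    let φ : R → (Fin n → K) := fun x i => MvPowerSeries.coeff (Finsupp.single i 1) x
    have hsub : ∀ x ∈ maximalIdeal R, φ x ∈ Submodule.span K (φ '' s) := fun x hx => by
      rw [← Submodule.span_generators (maximalIdeal R)] at hx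
      induction hx using Submodule.span_induction with
      | mem z hz => exact Submodule.subset_span ⟨z, hz, rfl⟩
      | zero =>
        rw [show φ 0 = 0 from funext fun i => map_zero _]
        exact Submodule.zero_mem _
      | add a b _ _ ha hb =>
        rw [show φ (a + b) = φ a + φ b from funext fun i => map_add _ _ _]
        exact Submodule.add_mem _ ha hb
      | smul a z hz ih =>
        have hzm : z ∈ maximalIdeal R := by rw [← Submodule.span_generators (maximalIdeal R)]; exact hz
        have hz0 : MvPowerSeries.constantCoeff z = 0 := by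
          by_contra h
          exact (IsLocalRing.mem_maximalIdeal _).mp hzm (MvPowerSeries.isUnit_iff_constantCoeff.mpr (isUnit_iff_ne_zero.mpr h))
        rw [show φ (a • z) = MvPowerSeries.constantCoeff a • φ z from funext fun i => coeff_single_mul a z hz0 i]
        exact Submodule.smul_mem _ _ ih
    have htop : Submodule.span K (φ '' s) = ⊤ := by
      rw [eq_top_iff, ← (Pi.basisFun K (Fin n)).span_eq, Submodule.span_le]
      rintro _ ⟨j, rfl⟩
      have : φ (MvPowerSeries.X j) = Pi.basisFun K (Fin n) j := funext fun i => by
        rw [Pi.basisFun_apply, Pi.single_apply]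
        show MvPowerSeries.coeff (Finsupp.single i 1) (MvPowerSeries.X j : R) = _
        rw [MvPowerSeries.coeff_X]
        simp [Finsupp.single_left_inj, eq_comm]
      rw [← this]
      exact hsub _ (by rw [← span_X_eq_maximalIdeal]; exact Ideal.subset_span ⟨j, rfl⟩)
    have hfin : s.Finite := Submodule.FG.finite_generators hfg
    have h1 : Module.finrank K (Submodule.span K (φ '' s)) ≤ (φ '' s).ncard := by
      haveI := (hfin.image φ).fintype
      rw [Set.ncard_eq_toFinset_card']
      exact finrank_span_le_card _
    rw [htop, finrank_top, Module.finrank_fin_fun] at h1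
    exact h1.trans ((Set.ncard_image_le hfin).trans (Submodule.FG.generators_ncard hfg).le)

end Groth.Agent.WildQuot
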