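import Groth.Agent.WildQuot.SplitMonic
import Groth.Agent.WildQuot.PowerSeriesDim
import Groth.Agent.AdicLim.Noetherian
import Groth.Agent.DimTrdeg.Basic
import Groth.Agent.DepthLib.RegularLocal

/-!
# The Artin–Schreier family over a power series ring
-/

set_option autoImplicit false
set_option linter.unusedSectionVars false

universe u

namespace Groth.Agent.WildQuot

open MvPolynomial IsLocalRing

section general
variable {R : Type u} [CommRing R] {σ : Type} [Fintype σ] [DecidableEq σ] (p : ℕ) (b x : σ → R)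

/-- The one variable polynomials. -/
noncomputable def asPoly (i : σ) : Polynomial R :=
  Polynomial.X ^ p - Polynomial.C (b i) * Polynomial.X - Polynomial.C (x i)

/-- The ideal of the family. -/
noncomputable def asIdeal : Ideal (MvPolynomial σ R) :=
  Ideal.span (Set.range fun i : σ => X i ^ p - C (b i) * X i - C (x i))

lemma asIdeal_eq : asIdeal p b x = sepIdeal (asPoly p b x) := by
  unfold asIdeal sepIdeal asPoly
  congr 2
  funext i
  simp [map_sub, MvPolynomial.algebraMap_eq]

lemma asPoly_monic [Fact p.Prime] (i : σ) : (asPoly p b x i).Monic := by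
  have h2 : 1 < p := (Fact.out : p.Prime).one_lt
  unfold asPoly
  rw [sub_sub]
  refine Polynomial.monic_X_pow_sub ((Polynomial.degree_linear_le (a := b i) (b := x i)).trans_lt ?_)
  exact_mod_cast h2

lemma asPoly_natDegree [Fact p.Prime] [Nontrivial R] (i : σ) : (asPoly p b x i).natDegree = p := by
  have h2 : 1 < p := (Fact.out : p.Prime).one_lt
  have : Polynomial.degree (asPoly p b x i) = p := by
    unfold asPoly
    rw [sub_sub, Polynomial.degree_sub_eq_left_of_degree_lt]
    · exact Polynomial.degree_X_pow p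
    · rw [Polynomial.degree_X_pow]
      exact (Polynomial.degree_linear_le (a := b i) (b := x i)).trans_lt (by exact_mod_cast h2)
  exact Polynomial.natDegree_eq_of_degree_eq_some this

/-- The class of a variable. -/
noncomputable def asVar (i : σ) : MvPolynomial σ R ⧸ asIdeal p b x := Ideal.Quotient.mk _ (X i)

/-- The monomial basis. -/
noncomputable def asBasis [Fact p.Prime] [Nontrivial R] :
    Module.Basis (σ → Fin p) R (MvPolynomial σ R ⧸ asIdeal p b x) :=
  (sepBasis (asPoly_monic p b x) (asPoly_natDegree p b x) (Fact.out : p.Prime).pos).map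
    (Ideal.quotientEquivAlgOfEq R (asIdeal_eq p b x).symm).toLinearEquiv

lemma asBasis_apply [Fact p.Prime] [Nontrivial R] (e : σ → Fin p) :
    asBasis p b x e = ∏ i, asVar p b x i ^ (e i : ℕ) := by
  rw [asBasis, Module.Basis.map_apply, sepBasis, Module.Basis.mk_apply, boundedMon, monomial_eq, C_1, one_mul,
    Finsupp.prod_fintype _ _ (fun i => pow_zero _), map_prod]
  show Ideal.quotientEquivAlgOfEq R (asIdeal_eq p b x).symm _ = _
  rw [map_prod]
  refine Finset.prod_congr rfl fun i _ => ?_
  rw [map_pow, map_pow, Finsupp.coe_equivFunOnFinite_symm]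
  rfl

lemma asVar_pow (i : σ) : asVar p b x i ^ p =
    algebraMap R _ (b i) * asVar p b x i + algebraMap R _ (x i) := by
  rw [← sub_eq_zero, ← sub_sub]
  exact Ideal.Quotient.eq_zero_iff_mem.mpr (Ideal.subset_span ⟨i, rfl⟩)

/-- The map to the quotient of the base. -/
noncomputable def asEvalZero (K : Ideal R) (hx : ∀ i, x i ∈ K) (hp : p ≠ 0) :
    (MvPolynomial σ R ⧸ asIdeal p b x) →ₐ[R] R ⧸ K :=
  Ideal.Quotient.liftₐ _ (MvPolynomial.aeval fun _ => 0) fun a ha => by
    suffices asIdeal p b x ≤ RingHom.ker (MvPolynomial.aeval fun _ : σ => (0 : R ⧸ K)).toRingHom from this ha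
    refine Ideal.span_le.mpr ?_
    rintro _ ⟨i, rfl⟩
    show MvPolynomial.aeval (fun _ : σ => (0 : R ⧸ K)) _ = 0
    rw [map_sub, map_sub, map_pow, map_mul, aeval_X, aeval_C, aeval_C, zero_pow hp, mul_zero, sub_zero, zero_sub,
      neg_eq_zero]
    exact Ideal.Quotient.eq_zero_iff_mem.mpr (hx i)

end general

/-- Completeness for an equivalent adic topology. -/
theorem isAdicComplete_of_pow_le {A : Type u} [CommRing A] {I J : Ideal A} [IsAdicComplete I A] (hIJ : I ≤ J)
    {N : ℕ} (hN : 0 < N) (hJI : J ^ N ≤ I) : IsAdicComplete J A := by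
  haveI : IsHausdorff J A := ⟨fun a ha => IsHausdorff.haus (inferInstance : IsHausdorff I A) a fun n => by
    have h := ha (N * n)
    rw [SModEq.sub_mem, smul_eq_mul, Ideal.mul_top] at h ⊢
    exact Ideal.pow_right_mono hJI n (by rwa [← pow_mul])⟩
  refine { prec' := fun f hf => ?_ }
  obtain ⟨L, hL⟩ := IsPrecomplete.prec (inferInstance : IsPrecomplete I A) (f := fun n => f (N * n)) fun {m n} hmn => by
    have h := hf (Nat.mul_le_mul_left N hmn)
    rw [SModEq.sub_mem, smul_eq_mul, Ideal.mul_top] at h ⊢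
    exact Ideal.pow_right_mono hJI m (by rwa [← pow_mul])
  refine ⟨L, fun n => ?_⟩
  have h1 := hL n
  have h2 := hf (Nat.le_mul_of_pos_left n hN)
  rw [SModEq.sub_mem, smul_eq_mul, Ideal.mul_top] at h1 h2 ⊢
  rw [← sub_add_sub_cancel]
  exact add_mem h2 (Ideal.pow_right_mono hIJ n h1)

section powerSeries
variable (p : ℕ) [Fact p.Prime] (k : Type u) [Field k] (n : ℕ) (b : Fin n → MvPowerSeries (Fin n) k)
  (hb : ∀ i, MvPowerSeries.constantCoeff (b i) = 0)

local notation "Rk" => MvPowerSeries (Fin n) k
local notation "Jk" => asIdeal p b (fun i : Fin n => (MvPowerSeries.X i : MvPowerSeries (Fin n) k))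
local notation "Ak" => MvPolynomial (Fin n) (MvPowerSeries (Fin n) k) ⧸ asIdeal p b (fun i : Fin n => (MvPowerSeries.X i : MvPowerSeries (Fin n) k))
local notation "Uk" => Ideal.map (Ideal.Quotient.mk (asIdeal p b (fun i : Fin n => (MvPowerSeries.X i : MvPowerSeries (Fin n) k)))) (Ideal.span (Set.range (X : Fin n → MvPolynomial (Fin n) (MvPowerSeries (Fin n) k))))

theorem as_free_finrank : Module.Free Rk Ak ∧ Module.Finite Rk Ak ∧ Module.finrank Rk Ak = p ^ n := by
  let B := asBasis p b (fun i : Fin n => (MvPowerSeries.X i : Rk))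
  exact ⟨Module.Free.of_basis B, Module.Finite.of_basis B, by rw [Module.finrank_eq_card_basis B]; simp⟩

theorem as_algebraMap_injective : Function.Injective (algebraMap Rk Ak) := by
  obtain ⟨hfree, -, hrk⟩ := as_free_finrank p k n b
  haveI := hfree
  haveI : Nontrivial Ak := Module.nontrivial_of_finrank_pos (R := Rk) (by rw [hrk]; exact pow_pos (Fact.out : p.Prime).pos n)
  exact FaithfulSMul.algebraMap_injective Rk Ak

lemma as_U_eq : Uk = Ideal.span (Set.range (asVar p b (fun i : Fin n => (MvPowerSeries.X i : Rk)))) := by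
  rw [Ideal.map_span, ← Set.range_comp]
  rfl

include hb in
lemma as_map_maximal_le : (maximalIdeal Rk).map (algebraMap Rk Ak) ≤ Uk := by
  rw [as_U_eq, ← span_X_eq_maximalIdeal, Ideal.map_span, Ideal.span_le]
  rintro _ ⟨_, ⟨i, rfl⟩, rfl⟩
  have h := asVar_pow p b (fun i : Fin n => (MvPowerSeries.X i : Rk)) i
  rw [SetLike.mem_coe, show algebraMap Rk Ak (MvPowerSeries.X i) =
    asVar p b (fun i : Fin n => (MvPowerSeries.X i : Rk)) i ^ p - algebraMap Rk Ak (b i) * asVar p b _ i by rw [h]; ring]
  exact sub_mem (Ideal.pow_mem_of_mem _ (Ideal.subset_span (Set.mem_range_self i)) _ (Fact.out : p.Prime).pos)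
    (Ideal.mul_mem_left _ _ (Ideal.subset_span (Set.mem_range_self i)))

include hb in
lemma as_var_pow_mem (i : Fin n) :
    asVar p b (fun i : Fin n => (MvPowerSeries.X i : Rk)) i ^ p ∈ (maximalIdeal Rk).map (algebraMap Rk Ak) := by
  rw [asVar_pow]
  refine add_mem (Ideal.mul_mem_right _ _ (Ideal.mem_map_of_mem _ ?_)) (Ideal.mem_map_of_mem _ ?_)
  · rw [mem_maximalIdeal, mem_nonunits_iff, MvPowerSeries.isUnit_iff_constantCoeff, hb i]
    simp
  · rw [← span_X_eq_maximalIdeal]
    exact Ideal.subset_span ⟨i, rfl⟩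

include hb in
theorem as_regular : IsRegularLocalRing Ak ∧ Ideal.IsMaximal Uk := by
  obtain ⟨hfree, hfin, hrk⟩ := as_free_finrank p k n b
  haveI := hfree
  haveI := hfin
  haveI : IsLocalHom (MvPowerSeries.constantCoeff (σ := Fin n) (R := k)) :=
    ⟨fun a h => MvPowerSeries.isUnit_iff_constantCoeff.mpr h⟩
  have hU : Ideal.IsMaximal Uk := by
    let f : Ak →ₐ[Rk] Rk ⧸ maximalIdeal Rk := asEvalZero p b _ (maximalIdeal Rk)
      (fun i => by rw [← span_X_eq_maximalIdeal]; exact Ideal.subset_span ⟨i, rfl⟩) (Fact.out : p.Prime).ne_zero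
    have hf : Function.Surjective f := fun c => by
      obtain ⟨r, rfl⟩ := Ideal.Quotient.mk_surjective c
      exact ⟨algebraMap Rk Ak r, f.commutes r⟩
    have hker : RingHom.ker f.toRingHom = Uk := by
      refine le_antisymm (fun a ha => ?_) ?_
      · obtain ⟨q, rfl⟩ := Ideal.Quotient.mk_surjective a
        have hq : q - C (constantCoeff q) ∈ Ideal.span (Set.range (X : Fin n → MvPolynomial (Fin n) Rk)) := by
          have := MvPolynomial.mem_ideal_span_X_image (s := (Set.univ : Set (Fin n))) (x := q - C (constantCoeff q))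
          rw [Set.image_univ] at this
          refine this.mpr fun m hm => ?_
          by_contra h
          push Not at h
          obtain rfl : m = 0 := Finsupp.ext fun i => h i (Set.mem_univ i)
          rw [MvPolynomial.mem_support_iff] at hm
          simp [← constantCoeff_eq] at hm
        have hc : constantCoeff q ∈ maximalIdeal Rk := by
          rw [← Ideal.Quotient.eq_zero_iff_mem]
          have e : f (Ideal.Quotient.mk Jk q) = Ideal.Quotient.mk (maximalIdeal Rk) (constantCoeff q) := by
            show MvPolynomial.aeval (fun _ : Fin n => (0 : Rk ⧸ maximalIdeal Rk)) q = _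
            exact (MvPolynomial.aeval_zero q)
          rw [← e]
          exact ha
        have h1 := Ideal.mem_map_of_mem (Ideal.Quotient.mk Jk) hq
        have h2 := as_map_maximal_le p k n b hb (Ideal.mem_map_of_mem (algebraMap Rk Ak) hc)
        have := add_mem h1 h2
        rwa [map_sub, show algebraMap Rk Ak (constantCoeff q) = Ideal.Quotient.mk Jk (C (constantCoeff q)) from rfl,
          sub_add_cancel] at this
      · rw [as_U_eq, Ideal.span_le]
        rintro _ ⟨i, rfl⟩
        show MvPolynomial.aeval (fun _ : Fin n => (0 : Rk ⧸ maximalIdeal Rk)) (X i) = 0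
        rw [aeval_X]
    haveI : (maximalIdeal Rk).IsMaximal := maximalIdeal.isMaximal Rk
    letI := Ideal.Quotient.field (maximalIdeal Rk)
    rw [← hker]
    exact RingHom.ker_isMaximal_of_surjective _ hf
  have huniq : ∀ M : Ideal Ak, M.IsMaximal → M = Uk := fun M hM => by
    refine (hU.eq_of_le hM.ne_top ?_).symm
    rw [as_U_eq, Ideal.span_le]
    rintro _ ⟨i, rfl⟩
    haveI := hM
    have hc : (M.comap (algebraMap Rk Ak)).IsMaximal := Ideal.isMaximal_comap_of_isIntegral_of_isMaximal M
    exact hM.isPrime.mem_of_pow_mem p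
      (Ideal.map_le_iff_le_comap.mpr (IsLocalRing.eq_maximalIdeal hc).ge (as_var_pow_mem p k n b hb i))
  haveI : IsLocalRing Ak := IsLocalRing.of_unique_max_ideal ⟨Uk, hU, huniq⟩
  haveI : IsNoetherianRing Ak := isNoetherianRing_of_surjective _ _ (Ideal.Quotient.mk Jk) Ideal.Quotient.mk_surjective
  refine ⟨?_, hU⟩
  refine IsRegularLocalRing.of_spanFinrank_maximalIdeal_le Ak ?_
  have hdim : ringKrullDim Ak = n :=
    (Groth.Agent.DimTrdeg.ringKrullDim_eq_of_isIntegral Rk Ak (as_algebraMap_injective p k n b)).trans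
      (ringKrullDim_mvPowerSeries n k)
  rw [hdim, ← IsLocalRing.eq_maximalIdeal hU, as_U_eq]
  exact_mod_cast (Submodule.spanFinrank_span_le_ncard_of_finite (Set.finite_range _)).trans
    (by rw [← Set.image_univ]; exact (Set.ncard_image_le Set.finite_univ).trans (by simp))

include hb in
theorem as_complete_domain : IsAdicComplete Uk Ak ∧ IsDomain Ak := by
  obtain ⟨hfree, hfin, hrk⟩ := as_free_finrank p k n b
  haveI := hfree
  haveI := hfin
  obtain ⟨hreg, hU⟩ := as_regular p k n b hb
  haveI := hreg
  haveI : IsAdicComplete (maximalIdeal Rk) Rk := by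
    rw [← span_X_eq_maximalIdeal]
    infer_instance
  haveI : IsAdicComplete ((maximalIdeal Rk).map (algebraMap Rk Ak)) Ak :=
    (IsAdicComplete.map_algebraMap_iff (maximalIdeal Rk) Ak).2 (Groth.Agent.AdicLim.isAdicComplete_of_finite Ak)
  refine ⟨?_, Groth.Agent.DepthLib.isDomain_of_isRegularLocalRing Ak⟩
  have hrad : Uk ≤ ((maximalIdeal Rk).map (algebraMap Rk Ak)).radical := by
    rw [as_U_eq, Ideal.span_le]
    rintro _ ⟨i, rfl⟩
    exact ⟨p, as_var_pow_mem p k n b hb i⟩
  obtain ⟨N, hN⟩ := Ideal.exists_pow_le_of_le_radical_of_fg hrad (IsNoetherian.noetherian _)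
  exact isAdicComplete_of_pow_le (as_map_maximal_le p k n b hb) (Nat.succ_pos N) ((Ideal.pow_le_pow_right N.le_succ).trans hN)

end powerSeries

end Groth.Agent.WildQuot
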