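import Groth.Agent.WildQuot.Origin
import Groth.Agent.Miracle.Basic

/-!
# Artin–Schreier purity on regular local rings
-/

set_option autoImplicit false
set_option linter.unusedSectionVars false

universe u v

namespace Groth.Agent.WildQuot

open IsLocalRing

/-- The Frobenius of a regular local ring is flat. -/
theorem frobenius_flat_of_regular {A : Type u} [CommRing A] [IsRegularLocalRing A] (p : ℕ) [Fact p.Prime] [CharP A p] :
    (frobenius A p).Flat := by
  have hp := (Fact.out : p.Prime)
  haveI := DepthLib.isCohenMacaulayLocalRing_of_isRegularLocalRing A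
  have hmem : ∀ a ∈ maximalIdeal A, frobenius A p a ∈ maximalIdeal A := fun a ha => by
    rw [frobenius_def]; exact Ideal.pow_mem_of_mem _ ha _ hp.pos
  have hloc : IsLocalHom (frobenius A p) := ⟨fun a ha => (isUnit_pow_iff hp.ne_zero).mp (by rwa [← frobenius_def])⟩
  have hne : (maximalIdeal A).map (frobenius A p) ≠ ⊤ := fun h =>
    (maximalIdeal.isMaximal A).ne_top (top_le_iff.mp (h ▸ Ideal.map_le_iff_le_comap.mpr hmem))
  have hsub : Subsingleton (PrimeSpectrum.zeroLocus (((maximalIdeal A).map (frobenius A p) : Ideal A) : Set A)) :=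
    ⟨fun P Q => Subtype.ext (PrimeSpectrum.ext (by
      have hmax : ∀ P : PrimeSpectrum.zeroLocus (((maximalIdeal A).map (frobenius A p) : Ideal A) : Set A),
          P.1.asIdeal = maximalIdeal A := fun P =>
        le_antisymm (le_maximalIdeal P.1.isPrime.ne_top) fun a ha =>
          P.1.isPrime.mem_of_pow_mem p (P.2 (Ideal.mem_map_of_mem (frobenius A p) ha))
      rw [hmax P, hmax Q]))⟩
  haveI : Nontrivial (A ⧸ (maximalIdeal A).map (frobenius A p)) := Ideal.Quotient.nontrivial_iff.mpr hne
  have h0 : ringKrullDim (A ⧸ (maximalIdeal A).map (frobenius A p)) = 0 := by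
    refine le_antisymm ?_ ringKrullDim_nonneg_of_nontrivial
    rw [ringKrullDim_quotient]
    exact Order.krullDim_nonpos_of_subsingleton
  exact @Miracle.flat (maximalIdeal A).spanFinrank A A _ _ _ _ (frobenius A p).toAlgebra hloc rfl
    (by
      show ringKrullDim A = ringKrullDim A + ringKrullDim (A ⧸ (maximalIdeal A).map (frobenius A p))
      rw [h0, add_zero])

/-- The Artin–Schreier operator is injective on the second local cohomology of a regular local ring. -/
theorem mem_span_pair_of_frobenius_eq {A : Type u} [CommRing A] [IsRegularLocalRing A] (p : ℕ) [Fact p.Prime]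
    [CharP A p] {a b : A} (ha : a ≠ 0) (C g₁ g₂ : A)
    (h : C ^ p = g₁ * b ^ p - g₂ * a ^ p + a ^ (p - 1) * b ^ (p - 1) * C) : ∃ P Q, C = P * b - Q * a := by
  have hp := (Fact.out : p.Prime)
  let J : Ideal A := Submodule.colon (Ideal.span {a, b}) {C}
  have hJ : ∀ r, r ∈ J ↔ r * C ∈ Ideal.span {a, b} := fun r => by
    simp only [J, Submodule.mem_colon_singleton, smul_eq_mul]
  by_cases htop : (1 : A) ∈ J
  · obtain ⟨α, β, hαβ⟩ := Ideal.mem_span_pair.mp (show C ∈ Ideal.span {a, b} by simpa using (hJ 1).mp htop)
    exact ⟨β, -α, by rw [← hαβ]; ring⟩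
  exfalso
  have hJm : J ≤ maximalIdeal A := le_maximalIdeal fun h => htop (h ▸ Submodule.mem_top)
  have hle : J ≤ maximalIdeal A • J := by
    intro r hr
    obtain ⟨α, β, hαβ⟩ := Ideal.mem_span_pair.mp ((hJ r).mp hr)
    have e0 : a ^ p = a ^ (p - 1) * a := (pow_sub_one_mul hp.ne_zero a).symm
    have e1 : b ^ p = b ^ (p - 1) * b := (pow_sub_one_mul hp.ne_zero b).symm
    have hrel : C ^ p * r + a ^ p * (r * g₂ - b ^ (p - 1) * α) + b ^ p * (-(r * g₁) - a ^ (p - 1) * β) = 0 := by
      rw [h, e0, e1]
      linear_combination (-(a ^ (p - 1) * b ^ (p - 1))) * hαβ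
    let f : Fin 3 → A := ![C, a, b]
    let y : Fin 3 → A := ![r, r * g₂ - b ^ (p - 1) * α, -(r * g₁) - a ^ (p - 1) * β]
    have hsum : ∑ i, f i ^ p * y i = 0 := by
      rw [Fin.sum_univ_three]
      simpa [f, y] using hrel
    obtain ⟨l, c, z, hz, hc⟩ := @Module.Flat.isTrivialRelation_of_sum_smul_eq_zero A A _ _
      (frobenius A p).toAlgebra.toModule (frobenius_flat_of_regular p) (Fin 3) _ f y
      (by
        show ∑ i, frobenius A p (f i) * y i = 0
        simpa only [frobenius_def] using hsum)
    have hr' : r = ∑ j, c 0 j ^ p * z j := by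
      have := hz 0
      simpa [y] using this.trans (Finset.sum_congr rfl fun j _ => show frobenius A p (c 0 j) * z j = _ by rw [frobenius_def])
    rw [hr']
    refine Submodule.sum_mem _ fun j _ => ?_
    have hcj := hc j
    rw [Fin.sum_univ_three] at hcj
    have hmemJ : c 0 j ∈ J := (hJ _).mpr (Ideal.mem_span_pair.mpr ⟨-c 1 j, -c 2 j, by
      simp only [f, Matrix.cons_val_zero, Matrix.cons_val_one, Matrix.cons_val] at hcj
      linear_combination -hcj⟩)
    rw [smul_eq_mul, ← mul_pow_sub_one hp.ne_zero (c 0 j), mul_comm (c 0 j), mul_assoc, mul_comm (c 0 j)]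
    refine Ideal.mul_mem_mul (Ideal.pow_mem_of_mem _ (hJm hmemJ) _ (Nat.sub_pos_of_lt hp.one_lt)) ?_
    exact Ideal.mul_mem_left _ _ hmemJ
  have hbot : J = ⊥ := Submodule.eq_bot_of_le_smul_of_le_jacobson_bot (maximalIdeal A) J (IsNoetherian.noetherian _) hle
    (jacobson_eq_maximalIdeal ⊥ bot_ne_top).ge
  have haJ : a ∈ J := (hJ a).mpr (Ideal.mul_mem_right _ _ (Ideal.subset_span (Set.mem_insert a {b})))
  rw [hbot, Ideal.mem_bot] at haJ
  exact ha haJ

/-- Roots of `T ^ p - a ^ (p-1) T` in a domain of characteristic `p`. -/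
theorem exists_eq_natCast_mul {A : Type u} [CommRing A] [IsDomain A] (p : ℕ) [Fact p.Prime] [CharP A p] {D a : A}
    (h : D ^ p = a ^ (p - 1) * D) : ∃ j : ℕ, D = j * a := by
  have hp := (Fact.out : p.Prime)
  rcases eq_or_ne a 0 with rfl | ha
  · rw [zero_pow (Nat.sub_ne_zero_of_lt hp.one_lt), zero_mul] at h
    exact ⟨0, by rw [(pow_eq_zero_iff hp.ne_zero).mp h]; simp⟩
  by_contra hne
  push Not at hne
  let P : Polynomial A := Polynomial.X ^ p - Polynomial.C (a ^ (p - 1)) * Polynomial.X
  have hdeg : P.natDegree = p := by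
    refine Polynomial.natDegree_eq_of_degree_eq_some ?_
    rw [Polynomial.degree_sub_eq_left_of_degree_lt, Polynomial.degree_X_pow]
    rw [Polynomial.degree_X_pow]
    refine lt_of_le_of_lt (Polynomial.degree_C_mul_X_le _) ?_
    exact_mod_cast hp.one_lt
  have hP : P ≠ 0 := fun h0 => by rw [h0, Polynomial.natDegree_zero] at hdeg; exact hp.ne_zero hdeg.symm
  let f : ZMod p → A := fun j => ZMod.castHom (dvd_refl p) A j * a
  have hfinj : Function.Injective f := fun i j hij =>
    (ZMod.castHom (dvd_refl p) A).injective (mul_right_cancel₀ ha hij)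
  classical
  have hsub : insert D (Finset.univ.image f) ⊆ P.roots.toFinset := by
    intro w hw
    rw [Multiset.mem_toFinset, Polynomial.mem_roots hP, Polynomial.IsRoot, Polynomial.eval_sub, Polynomial.eval_pow,
      Polynomial.eval_X, Polynomial.eval_mul, Polynomial.eval_C, Polynomial.eval_X, sub_eq_zero]
    rcases Finset.mem_insert.mp hw with rfl | hw
    · exact h
    · obtain ⟨j, -, rfl⟩ := Finset.mem_image.mp hw
      rw [mul_pow, ← map_pow, ZMod.pow_card, ← pow_sub_one_mul hp.ne_zero a]
      ring
  have hcard := (Finset.card_le_card hsub).trans ((Multiset.toFinset_card_le _).trans (Polynomial.card_roots' P))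
  rw [Finset.card_insert_of_notMem (fun h' => by
      obtain ⟨j, -, hj⟩ := Finset.mem_image.mp h'
      exact hne j.val (by rw [← hj]; simp [f, ZMod.natCast_val])),
    Finset.card_image_of_injective _ hfinj, Finset.card_univ, ZMod.card, hdeg] at hcard
  omega

/-- A field without Galois extensions of degree `p` is closed under Artin–Schreier roots. -/
theorem exists_artinSchreier_root_field {k : Type v} [Field k] (p : ℕ) [Fact p.Prime] [CharP k p]
    (hkp : ∀ (L : Type v) [Field L] [Algebra k L], IsGalois k L → Module.finrank k L ≠ p) (c : k) :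
    ∃ a : k, a ^ p - a = c := by
  classical
  have hp := (Fact.out : p.Prime)
  let f : Polynomial k := Polynomial.X ^ p - Polynomial.X - Polynomial.C c
  have hdeg : f.natDegree = p := by
    refine Polynomial.natDegree_eq_of_degree_eq_some ?_
    show (Polynomial.X ^ p - Polynomial.X - Polynomial.C c).degree = _
    rw [sub_sub, Polynomial.degree_sub_eq_left_of_degree_lt, Polynomial.degree_X_pow]
    rw [Polynomial.degree_X_pow, Polynomial.degree_X_add_C]
    exact_mod_cast hp.one_lt
  have hsep : f.Separable := by
    rw [Polynomial.separable_def, show Polynomial.derivative f = -1 by simp [f, Polynomial.derivative_X_pow]]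
    exact isCoprime_one_right.neg_right
  haveI : IsGalois k f.SplittingField := IsGalois.of_separable_splitting_field hsep
  have hspl := Polynomial.SplittingField.splits f
  obtain ⟨r, hr⟩ : ∃ r : f.SplittingField, Polynomial.aeval r f = 0 := by
    have hne : (f.map (algebraMap k f.SplittingField)).degree ≠ 0 := by
      rw [Polynomial.degree_map]
      intro h0
      have := Polynomial.natDegree_eq_of_degree_eq_some h0
      rw [hdeg] at this
      exact hp.ne_zero this
    obtain ⟨r, hr⟩ := hspl.exists_eval_eq_zero hne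
    exact ⟨r, by rw [Polynomial.aeval_def, Polynomial.eval₂_eq_eval_map]; exact hr⟩
  haveI : CharP f.SplittingField p := charP_of_injective_algebraMap (algebraMap k f.SplittingField).injective p
  have hroot : ∀ w : f.SplittingField, Polynomial.aeval w f = 0 → ∃ j : ℕ, w = r + j := fun w hw => by
    obtain ⟨j, hj⟩ := exists_eq_natCast_mul (A := f.SplittingField) p (D := w - r) (a := 1) (by
      simp only [f, map_sub, map_pow, Polynomial.aeval_X, Polynomial.aeval_C] at hr hw
      rw [sub_pow_char, one_pow, one_mul]
      linear_combination hw - hr)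
    exact ⟨j, by rw [← sub_eq_iff_eq_add', hj, mul_one]⟩
  have hjex : ∀ σ : Gal(f.SplittingField/k), ∃ j : ZMod p, σ r = r + ZMod.castHom (dvd_refl p) _ j := fun σ => by
    obtain ⟨j, hj⟩ := hroot (σ r) (by rw [Polynomial.aeval_algHom_apply, hr, map_zero])
    exact ⟨j, by rw [hj, map_natCast]⟩
  choose j hj using hjex
  have hcast : ∀ (σ : Gal(f.SplittingField/k)) (i : ZMod p),
      σ (ZMod.castHom (dvd_refl p) _ i) = ZMod.castHom (dvd_refl p) _ i := fun σ i =>
    RingHom.congr_fun (Subsingleton.elim ((σ : f.SplittingField →+* f.SplittingField).comp (ZMod.castHom (dvd_refl p) _))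
      (ZMod.castHom (dvd_refl p) _)) i
  let J : Gal(f.SplittingField/k) →* Multiplicative (ZMod p) := MonoidHom.mk' (fun σ => Multiplicative.ofAdd (j σ)) fun σ τ => by
    refine congrArg Multiplicative.ofAdd ((ZMod.castHom (dvd_refl p) f.SplittingField).injective ?_)
    have h1 := hj (σ * τ)
    rw [AlgEquiv.mul_apply, hj τ, map_add, hcast, hj σ] at h1
    rw [map_add]
    exact add_left_cancel (a := r) (h1.symm.trans (add_assoc _ _ _))
  have hJ : Function.Injective J := fun σ τ h => by
    have h' : j σ = j τ := h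
    refine AlgEquiv.coe_toAlgHom_injective ?_
    refine AlgHom.ext_of_adjoin_eq_top (Polynomial.SplittingField.adjoin_rootSet f) fun w hw => ?_
    obtain ⟨i, rfl⟩ := hroot w ((Polynomial.mem_rootSet.mp hw).2)
    show σ (r + i) = τ (r + i)
    rw [map_add, map_add, map_natCast, map_natCast, hj, hj, h']
  have hcard : Nat.card Gal(f.SplittingField/k) ∣ p := by
    have := Subgroup.card_dvd_of_injective J hJ
    simpa using this
  rw [IsGalois.card_aut_eq_finrank] at hcard
  rcases (Nat.dvd_prime hp).mp hcard with h1 | h1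
  · have hr' : r ∈ (⊥ : Subalgebra k f.SplittingField) := by
      rw [Subalgebra.bot_eq_top_of_finrank_eq_one h1]; exact Algebra.mem_top
    obtain ⟨a, rfl⟩ := Algebra.mem_bot.mp hr'
    refine ⟨a, (algebraMap k f.SplittingField).injective ?_⟩
    simp only [f, map_sub, map_pow, Polynomial.aeval_X, Polynomial.aeval_C] at hr
    rw [map_sub, map_pow]
    linear_combination hr
  · exact absurd h1 (hkp _ inferInstance)

/-- Artin–Schreier equations are soluble over a complete local ring with such a residue field. -/
theorem exists_artinSchreier_root {A : Type u} [CommRing A] [IsLocalRing A] [IsAdicComplete (maximalIdeal A) A]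
    (p : ℕ) [Fact p.Prime] [CharP A p] {k : Type v} [Field k] [Algebra k A]
    (hk : Function.Surjective (residue A ∘ algebraMap k A))
    (hkp : ∀ (L : Type v) [Field L] [Algebra k L], IsGalois k L → Module.finrank k L ≠ p) (h : A) :
    ∃ v : A, v ^ p - v = h := by
  have hp := (Fact.out : p.Prime)
  haveI : CharP k p := (RingHom.charP_iff_charP (algebraMap k A) p).mpr inferInstance
  obtain ⟨c, hc⟩ := hk (residue A h)
  obtain ⟨a, ha⟩ := exists_artinSchreier_root_field p hkp c
  haveI := IsAdicComplete.henselianRing A (maximalIdeal A)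
  let P : Polynomial A := Polynomial.X ^ p - (Polynomial.X + Polynomial.C h)
  obtain ⟨v, hv, -⟩ := HenselianRing.is_henselian (R := A) (I := maximalIdeal A) P
    (Polynomial.monic_X_pow_sub (by rw [Polynomial.degree_X_add_C]; exact_mod_cast hp.one_lt)) (algebraMap k A a)
    (by
      rw [← residue_eq_zero_iff]
      simp only [P, Polynomial.eval_sub, Polynomial.eval_pow, Polynomial.eval_X, Polynomial.eval_add, Polynomial.eval_C,
        map_sub, map_add]
      rw [← hc, Function.comp_apply, ← ha]
      simp only [map_sub, map_pow]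
      ring)
    (by
      refine IsUnit.map _ ?_
      have : P.derivative = -1 := by simp [P, Polynomial.derivative_X_pow]
      rw [this]; simp)
  refine ⟨v, ?_⟩
  simp only [P, Polynomial.IsRoot, Polynomial.eval_sub, Polynomial.eval_pow, Polynomial.eval_X, Polynomial.eval_add,
    Polynomial.eval_C] at hv
  linear_combination hv

end Groth.Agent.WildQuot
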