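import Groth.Agent.WildQuot.Auts

/-!
# The Artin–Schreier family over power series: packaged results
-/

set_option autoImplicit false
set_option linter.unusedSectionVars false

universe u

namespace Groth.Agent.WildQuot

open MvPolynomial

variable (p : ℕ) [Fact p.Prime] (k : Type u) [Field k] (n : ℕ) (a : Fin n → MvPowerSeries (Fin n) k)

lemma constantCoeff_pow_eq_zero (ham : ∀ i, MvPowerSeries.constantCoeff (a i) = 0) (i : Fin n) :
    MvPowerSeries.constantCoeff ((fun i => a i ^ (p - 1)) i) = 0 := by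
  show MvPowerSeries.constantCoeff (a i ^ (p - 1)) = 0
  rw [map_pow, ham i, zero_pow]
  have := (Fact.out : p.Prime).two_le
  omega

/-- Automorphisms and invariants over power series. -/
theorem powerSeries_galois [CharP k p] (ha0 : ∀ i, a i ≠ 0) (ham : ∀ i, MvPowerSeries.constantCoeff (a i) = 0) :
    let R := MvPowerSeries (Fin n) k
    let J : Ideal (MvPolynomial (Fin n) R) := asIdeal p (fun i => a i ^ (p - 1)) (fun i => MvPowerSeries.X i)
    Nat.card ((MvPolynomial (Fin n) R ⧸ J) ≃ₐ[R] (MvPolynomial (Fin n) R ⧸ J)) = p ^ n ∧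
      (∀ σ τ : (MvPolynomial (Fin n) R ⧸ J) ≃ₐ[R] (MvPolynomial (Fin n) R ⧸ J), σ * τ = τ * σ) ∧
      (∀ σ : (MvPolynomial (Fin n) R ⧸ J) ≃ₐ[R] (MvPolynomial (Fin n) R ⧸ J), σ ^ p = 1) ∧
      (∀ t : MvPolynomial (Fin n) R ⧸ J,
        (∀ σ : (MvPolynomial (Fin n) R ⧸ J) ≃ₐ[R] (MvPolynomial (Fin n) R ⧸ J), σ t = t) ↔
          t ∈ Set.range (algebraMap R (MvPolynomial (Fin n) R ⧸ J))) := by
  intro R J
  haveI : CharP R p := charP_of_injective_algebraMap (algebraMap k R).injective p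
  haveI := PP16Lib.isRegularLocalRing_mvPowerSeries n k
  haveI : IsDomain (MvPowerSeries (Fin n) k) := Groth.Agent.DepthLib.isDomain_of_isRegularLocalRing _
  haveI := (as_complete_domain p k n (fun i => a i ^ (p - 1)) (constantCoeff_pow_eq_zero p k n a ham)).2
  have hinj := as_algebraMap_injective p k n (fun i => a i ^ (p - 1))
  obtain ⟨h1, h2, h3⟩ := card_algEquiv p (fun i => a i ^ (p - 1)) (fun i => MvPowerSeries.X i) a (fun _ => rfl) hinj ha0
  refine ⟨by rwa [Fintype.card_fin] at h1, h2, h3, fun t => ⟨fun h => ?_, ?_⟩⟩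
  · exact mem_range_of_fixed p _ _ a (fun _ => rfl) ha0 t fun c => h _
  · rintro ⟨r, rfl⟩ σ
    exact σ.commutes r

end Groth.Agent.WildQuot
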