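import Groth.Agent.DepthLib.RegularLocal
import Groth.Agent.DepthLib.CMModule

/-!
# Norms of systems of parameters and upper triangular actions
-/

set_option autoImplicit false
set_option linter.unusedSectionVars false

universe u v

namespace Groth.Agent.WildQuot

open IsLocalRing RingTheory.Sequence
open Groth.Agent.DepthLib

section norms
variable {A : Type u} [CommRing A] [IsLocalRing A] {G : Type v} [Group G] [MulSemiringAction G A] {n : ℕ}
  (u : Fin n → A)

theorem smul_mem_maximalIdeal {a : A} (ha : a ∈ maximalIdeal A) (σ : G) : σ • a ∈ maximalIdeal A := by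
  rw [mem_maximalIdeal, mem_nonunits_iff] at ha ⊢
  intro h
  apply ha
  simpa using h.map (MulSemiringAction.toRingHom G A σ⁻¹)

theorem le_radical_span_prod (hwa : ∀ τ : Fin n → G, maximalIdeal A ≤ (Ideal.span (Set.range fun i => τ i • u i)).radical)
    (S : Fin n → Finset G) :
    maximalIdeal A ≤ (Ideal.span (Set.range fun i => ∏ σ ∈ S i, σ • u i)).radical := by
  rw [Ideal.radical_eq_sInf]
  refine le_sInf ?_
  rintro P ⟨hP, hPp⟩
  haveI : P.IsPrime := hPp
  have h : ∀ i, ∃ σ : G, σ • u i ∈ P := fun i => by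
    obtain ⟨σ, _, hσ⟩ := (Ideal.IsPrime.prod_mem_iff).mp (hP (Ideal.subset_span ⟨i, rfl⟩))
    exact ⟨σ, hσ⟩
  choose τ hτ using h
  refine (hwa τ).trans (hPp.radical_le_iff.mpr (Ideal.span_le.mpr ?_))
  rintro _ ⟨i, rfl⟩
  exact hτ i

theorem le_radical_span_norm_iff [Fintype G] :
    maximalIdeal A ≤ (Ideal.span (Set.range fun i => ∏ σ : G, σ • u i)).radical ↔
      ∀ τ : Fin n → G, maximalIdeal A ≤ (Ideal.span (Set.range fun i => τ i • u i)).radical := by
  refine ⟨fun h τ => h.trans (Ideal.radical_mono (Ideal.span_le.mpr ?_)),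
    fun h => le_radical_span_prod u h fun _ => Finset.univ⟩
  rintro _ ⟨i, rfl⟩
  exact Ideal.mem_of_dvd _ (Finset.dvd_prod_of_mem (fun σ : G => σ • u i) (Finset.mem_univ (τ i)))
    (Ideal.subset_span ⟨i, rfl⟩)

end norms

section sop
variable {A : Type u} [CommRing A] [IsRegularLocalRing A] {n : ℕ}

theorem sop_mem_of_mul_mem (hn : ringKrullDim A = n) (z : Fin n → A) (hz : ∀ i, z i ∈ maximalIdeal A)
    (hrad : maximalIdeal A ≤ (Ideal.span (Set.range z)).radical) (i : Fin n) {a : A}
    (h : a * z i ∈ Ideal.span (z '' {i}ᶜ)) : a ∈ Ideal.span (z '' {i}ᶜ) := by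
  classical
  haveI := isCohenMacaulayLocalRing_of_isRegularLocalRing A
  let rest : List A := ((Finset.univ.erase i).toList).map z
  have hrest : Ideal.ofList rest = Ideal.span (z '' {i}ᶜ) := by
    refine congrArg Ideal.span (Set.ext fun r => ?_)
    simp [rest]
  have hlist : Ideal.ofList (rest ++ [z i]) = Ideal.span (Set.range z) := by
    rw [Ideal.ofList_append, hrest, Ideal.ofList_singleton, ← Ideal.span_union]
    refine congrArg Ideal.span ?_
    rw [← Set.image_singleton, ← Set.image_union, Set.compl_union_self, Set.image_univ]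
  have hlen : (rest ++ [z i]).length = n := by
    have := i.pos
    simp [rest]
    omega
  have hmem : ∀ r ∈ rest ++ [z i], r ∈ maximalIdeal A := fun r hr => by
    rcases List.mem_append.mp hr with hr | hr
    · obtain ⟨j, _, rfl⟩ := List.mem_map.mp hr
      exact hz j
    · rw [List.mem_singleton.mp hr]
      exact hz i
  have hreg := isWeaklyRegular_of_supportDim_drop (R := A) (rest ++ [z i]) A isCohenMacaulayModule_self hmem (by
    rw [hlen, Module.supportDim_self_eq_ringKrullDim, hn, smul_eq_mul, Ideal.mul_top, hlist,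
      Module.supportDim_quotient_eq_ringKrullDim, ringKrullDim_quotient]
    have hsub : Subsingleton (PrimeSpectrum.zeroLocus ((Ideal.span (Set.range z) : Ideal A) : Set A)) :=
      ⟨fun P Q => Subtype.ext (PrimeSpectrum.ext (by
        have hmax : ∀ P : PrimeSpectrum.zeroLocus ((Ideal.span (Set.range z) : Ideal A) : Set A),
            P.1.asIdeal = maximalIdeal A := fun P =>
          le_antisymm (le_maximalIdeal P.1.isPrime.ne_top) (hrad.trans (P.1.isPrime.radical_le_iff.mpr P.2))
        rw [hmax P, hmax Q]))⟩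
    exact (add_le_add Order.krullDim_nonpos_of_subsingleton le_rfl).trans (zero_add _).le)
  rw [isWeaklyRegular_append_iff] at hreg
  have h2 := ((isWeaklyRegular_singleton_iff _ _).mp hreg.2).right_eq_zero_of_smul (x := Submodule.Quotient.mk a)
  rw [smul_eq_mul, Ideal.mul_top, hrest] at h2
  rw [← Submodule.Quotient.mk_eq_zero]
  refine h2 ?_
  rw [← Submodule.Quotient.mk_smul, Submodule.Quotient.mk_eq_zero, smul_eq_mul, mul_comm]
  exact h

omit [IsRegularLocalRing A] in
theorem length_add_length_le (J : Ideal A) (x y : A) (hx : ∀ a, a * x ∈ J → a ∈ J) :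
    Module.length A (A ⧸ (J ⊔ Ideal.span {x})) + Module.length A (A ⧸ (J ⊔ Ideal.span {y})) ≤
      Module.length A (A ⧸ (J ⊔ Ideal.span {x * y})) := by
  have h1 : J ⊔ Ideal.span {x * y} ≤ J ⊔ Ideal.span {x} :=
    sup_le_sup le_rfl (Ideal.span_singleton_le_span_singleton.mpr (dvd_mul_right x y))
  let f : (A ⧸ (J ⊔ Ideal.span {y})) →ₗ[A] A ⧸ (J ⊔ Ideal.span {x * y}) :=
    Submodule.mapQ _ _ (LinearMap.mul A A x) (by
      refine sup_le (fun j hj => Submodule.mem_sup_left (J.mul_mem_left x hj)) ?_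
      rw [Ideal.span_le, Set.singleton_subset_iff]
      exact Submodule.mem_sup_right (Ideal.subset_span rfl))
  let g : (A ⧸ (J ⊔ Ideal.span {x * y})) →ₗ[A] A ⧸ (J ⊔ Ideal.span {x}) :=
    Submodule.mapQ _ _ LinearMap.id h1
  have hf : Function.Injective f := (injective_iff_map_eq_zero f).mpr fun q hq => by
    obtain ⟨a, rfl⟩ := Submodule.Quotient.mk_surjective _ q
    rw [Submodule.mapQ_apply, Submodule.Quotient.mk_eq_zero, LinearMap.mul_apply_apply, Submodule.mem_sup] at hq
    obtain ⟨j, hj, w, hw, hjw⟩ := hq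
    obtain ⟨c, rfl⟩ := Ideal.mem_span_singleton'.mp hw
    rw [Submodule.Quotient.mk_eq_zero, Submodule.mem_sup]
    refine ⟨a - c * y, hx _ ?_, c * y, Ideal.mem_span_singleton'.mpr ⟨c, rfl⟩, sub_add_cancel _ _⟩
    convert hj using 1
    linear_combination -hjw
  have hg : Function.Surjective g := fun q => by
    obtain ⟨a, rfl⟩ := Submodule.Quotient.mk_surjective _ q
    exact ⟨Submodule.Quotient.mk a, rfl⟩
  have hfg : Function.Exact f g := fun q => by
    obtain ⟨a, rfl⟩ := Submodule.Quotient.mk_surjective _ q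
    constructor
    · intro h
      rw [Submodule.mapQ_apply, Submodule.Quotient.mk_eq_zero, LinearMap.id_apply, Submodule.mem_sup] at h
      obtain ⟨j, hj, w, hw, rfl⟩ := h
      obtain ⟨c, rfl⟩ := Ideal.mem_span_singleton'.mp hw
      refine ⟨Submodule.Quotient.mk c, ?_⟩
      rw [Submodule.mapQ_apply, Submodule.Quotient.eq, LinearMap.mul_apply_apply]
      rw [show x * c - (j + c * x) = -j by ring]
      exact neg_mem (Submodule.mem_sup_left hj)
    · rintro ⟨q, hq⟩
      obtain ⟨c, rfl⟩ := Submodule.Quotient.mk_surjective _ q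
      rw [← hq, Submodule.mapQ_apply, Submodule.mapQ_apply, Submodule.Quotient.mk_eq_zero, LinearMap.id_apply,
        LinearMap.mul_apply_apply]
      exact Submodule.mem_sup_right (Ideal.mem_span_singleton'.mpr ⟨c, mul_comm _ _⟩)
  rw [Module.length_eq_add_of_exact f g hf hg hfg, add_comm]

variable {G : Type v} [Group G] [MulSemiringAction G A] (u : Fin n → A)

theorem prod_card_le_length (hn : ringKrullDim A = n) (hu : ∀ i, u i ∈ maximalIdeal A)
    (hwa : ∀ τ : Fin n → G, maximalIdeal A ≤ (Ideal.span (Set.range fun i => τ i • u i)).radical)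
    (S : Fin n → Finset G) (hS : ∀ i, (S i).Nonempty) :
    ((∏ i, (S i).card : ℕ) : ℕ∞) ≤ Module.length A (A ⧸ Ideal.span (Set.range fun i => ∏ σ ∈ S i, σ • u i)) := by
  classical
  have hm : ∀ (T : Fin n → Finset G), (∀ i, (T i).Nonempty) → ∀ i, ∏ σ ∈ T i, σ • u i ∈ maximalIdeal A :=
    fun T hT i => by
      obtain ⟨σ, hσ⟩ := hT i
      exact Ideal.mem_of_dvd _ (Finset.dvd_prod_of_mem _ hσ) (smul_mem_maximalIdeal (hu i) σ)
  induction hN : ∑ i, (S i).card using Nat.strong_induction_on generalizing S with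
  | _ N ih =>
    by_cases h1 : ∀ i, (S i).card = 1
    · rw [Finset.prod_eq_one fun i _ => h1 i, Nat.cast_one, Order.one_le_iff_pos, Module.length_pos_iff]
      refine Ideal.Quotient.nontrivial_iff.mpr fun htop => (maximalIdeal.isMaximal A).ne_top (top_le_iff.mp ?_)
      rw [← htop, Ideal.span_le]
      rintro _ ⟨i, rfl⟩
      exact hm S hS i
    push Not at h1
    obtain ⟨i, hi⟩ := h1
    have hi2 : 1 < (S i).card := lt_of_le_of_ne (hS i).card_pos (Ne.symm hi)
    obtain ⟨s, hs⟩ := hS i
    let T₁ := Function.update S i {s}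
    let T₂ := Function.update S i ((S i).erase s)
    have hc : ((S i).erase s).card + 1 = (S i).card := Finset.card_erase_add_one hs
    have hT₁ : ∀ j, (T₁ j).Nonempty := fun j => by
      rcases eq_or_ne j i with rfl | hj
      · simp [T₁]
      · simp [T₁, hj, hS]
    have hT₂ : ∀ j, (T₂ j).Nonempty := fun j => by
      rcases eq_or_ne j i with rfl | hj
      · simp only [T₂, Function.update_self]
        exact Finset.card_pos.mp (by omega)
      · simp [T₂, hj, hS]
    have hsum : ∀ X : Finset G, X.card < (S i).card → ∑ j, (Function.update S i X j).card < N := fun X hX => by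
      rw [← hN]
      exact Finset.sum_lt_sum (fun j _ => by rcases eq_or_ne j i with rfl | hj <;> simp [*, hX.le])
        ⟨i, Finset.mem_univ i, by simpa using hX⟩
    have e₁ := ih _ (hsum {s} (by simpa using hi2)) T₁ hT₁ rfl
    have e₂ := ih _ (hsum ((S i).erase s) (by omega)) T₂ hT₂ rfl
    let z : (Fin n → Finset G) → Fin n → A := fun T j => ∏ σ ∈ T j, σ • u j
    have hspan : ∀ X : Finset G, Ideal.span (Set.range (z (Function.update S i X))) =
        Ideal.span (z S '' {i}ᶜ) ⊔ Ideal.span {∏ σ ∈ X, σ • u i} := fun X => by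
      rw [← Ideal.span_union]
      refine congrArg Ideal.span ?_
      ext r
      constructor
      · rintro ⟨j, rfl⟩
        rcases eq_or_ne j i with rfl | hj
        · exact Or.inr (by simp [z])
        · exact Or.inl ⟨j, hj, by simp [z, hj]⟩
      · rintro (⟨j, hj, rfl⟩ | rfl)
        · exact ⟨j, by simp [z, (show j ≠ i from hj)]⟩
        · exact ⟨i, by simp [z]⟩
    have hreg : ∀ a, a * (∏ σ ∈ ({s} : Finset G), σ • u i) ∈ Ideal.span (z S '' {i}ᶜ) →
        a ∈ Ideal.span (z S '' {i}ᶜ) := fun a ha => by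
      have himg : z T₁ '' {i}ᶜ = z S '' {i}ᶜ := Set.image_congr fun j hj => by simp [z, T₁, (show j ≠ i from hj)]
      rw [← himg] at ha ⊢
      refine sop_mem_of_mul_mem hn (z T₁) (hm T₁ hT₁) (le_radical_span_prod u hwa T₁) i ?_
      simpa [z, T₁] using ha
    have key := length_add_length_le (Ideal.span (z S '' {i}ᶜ)) (∏ σ ∈ ({s} : Finset G), σ • u i)
      (∏ σ ∈ (S i).erase s, σ • u i) hreg
    rw [Finset.prod_singleton, Finset.mul_prod_erase _ (fun σ : G => σ • u i) hs, ← hspan (S i),
      Function.update_eq_self] at key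
    refine le_trans ?_ key
    rw [← Finset.prod_singleton (fun σ : G => σ • u i) s, ← hspan, ← hspan]
    refine le_trans (le_of_eq ?_) (add_le_add e₁ e₂)
    rw [← Nat.cast_add]
    congr 1
    simp only [T₁, T₂, fun j X => Function.apply_update (fun _ (Y : Finset G) => Y.card) S i X j]
    rw [Finset.prod_update_of_mem (Finset.mem_univ i), Finset.prod_update_of_mem (Finset.mem_univ i),
      ← add_mul, Finset.card_singleton, add_comm 1, hc, Finset.sdiff_singleton_eq_erase,
      Finset.mul_prod_erase Finset.univ (fun j => (S j).card) (Finset.mem_univ i)]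

theorem span_smul_eq_of_triangular (hn : ringKrullDim A = n) (hu : Ideal.span (Set.range u) = maximalIdeal A)
    (htri : ∀ (σ : G) (i : Fin n), σ • u i ∈ Ideal.span (u '' {j | j ≤ i}) ⊔ maximalIdeal A ^ 2)
    (τ : Fin n → G) : Ideal.span (Set.range fun i => τ i • u i) = maximalIdeal A := by
  classical
  have hum : ∀ i, u i ∈ maximalIdeal A := fun i => hu ▸ Ideal.subset_span ⟨i, rfl⟩
  have hrad : maximalIdeal A ≤ Ideal.jacobson (⊥ : Ideal A) := (jacobson_eq_maximalIdeal ⊥ bot_ne_top).ge
  have hfg : (maximalIdeal A).FG := IsNoetherian.noetherian _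
  have nak : ∀ J : Ideal A, maximalIdeal A ≤ J ⊔ maximalIdeal A ^ 2 → maximalIdeal A ≤ J := fun J hJ =>
    Submodule.le_of_le_smul_of_le_jacobson_bot hfg hrad (by rwa [smul_eq_mul, ← pow_two])
  have hind : ∀ i : Fin n, u i ∉ Ideal.span (u '' {i}ᶜ) ⊔ maximalIdeal A ^ 2 := fun i hi => by
    have hle : maximalIdeal A ≤ Ideal.span (u '' {i}ᶜ) := nak _ (by
      conv_lhs => rw [← hu]
      rw [Ideal.span_le]
      rintro _ ⟨j, rfl⟩
      rcases eq_or_ne j i with rfl | hj
      · exact hi
      · exact Submodule.mem_sup_left (Ideal.subset_span ⟨j, hj, rfl⟩))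
    have heq : Ideal.span (u '' {i}ᶜ) = maximalIdeal A := le_antisymm (Ideal.span_le.mpr (by
      rintro _ ⟨j, _, rfl⟩
      exact hum j)) hle
    have h1 : ((maximalIdeal A).spanFinrank : WithBot ℕ∞) = n := by
      rw [← hn]; exact IsRegularLocalRing.spanFinrank_maximalIdeal
    have h2 : (maximalIdeal A).spanFinrank < n := by
      rw [← heq]
      refine lt_of_le_of_lt (Submodule.spanFinrank_span_le_ncard_of_finite (Set.toFinite _)) ?_
      refine lt_of_le_of_lt (Set.ncard_image_le (Set.toFinite _)) ?_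
      rw [Set.ncard_compl, Set.ncard_singleton, Nat.card_eq_fintype_card, Fintype.card_fin]
      have := i.pos
      omega
    exact h2.ne (by exact_mod_cast h1)
  have hlt : ∀ (σ : G) (i : Fin n) (a : A), a ∈ Ideal.span (u '' {j | j < i}) ⊔ maximalIdeal A ^ 2 →
      σ • a ∈ Ideal.span (u '' {j | j < i}) ⊔ maximalIdeal A ^ 2 := fun σ i => by
    show Ideal.span (u '' {j | j < i}) ⊔ maximalIdeal A ^ 2 ≤
      (Ideal.span (u '' {j | j < i}) ⊔ maximalIdeal A ^ 2).comap (MulSemiringAction.toRingHom G A σ)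
    rw [sup_le_iff]
    constructor
    · rw [Ideal.span_le]
      rintro _ ⟨j, hj, rfl⟩
      have hmono : Ideal.span (u '' {k | k ≤ j}) ⊔ maximalIdeal A ^ 2 ≤
          Ideal.span (u '' {k | k < i}) ⊔ maximalIdeal A ^ 2 :=
        sup_le_sup_right (Ideal.span_mono (Set.image_mono (show {k : Fin n | k ≤ j} ⊆ {k | k < i} from fun k (hk : k ≤ j) => (lt_of_le_of_lt hk (show j < i from hj) : k < i)))) _
      rw [SetLike.mem_coe, Ideal.mem_comap, MulSemiringAction.toRingHom_apply]
      exact hmono (htri σ j)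
    · refine le_trans ?_ (Ideal.comap_mono le_sup_right)
      rw [← Ideal.map_le_iff_le_comap, Ideal.map_pow]
      refine Ideal.pow_right_mono ?_ 2
      rw [Ideal.map_le_iff_le_comap]
      exact fun a ha => smul_mem_maximalIdeal ha σ
  refine le_antisymm (Ideal.span_le.mpr (by rintro _ ⟨i, rfl⟩; exact smul_mem_maximalIdeal (hum i) _)) (nak _ ?_)
  conv_lhs => rw [← hu]
  rw [Ideal.span_le]
  rintro _ ⟨i, rfl⟩
  induction i using WellFoundedLT.induction with
  | _ i ih =>
    have h := htri (τ i) i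
    rw [show {j | j ≤ i} = insert i {j | j < i} from Set.ext fun j => by simp [le_iff_eq_or_lt],
      Set.image_insert_eq, Ideal.span_insert, sup_assoc, Submodule.mem_sup] at h
    obtain ⟨w, hw, v, hv, hwv⟩ := h
    obtain ⟨c, rfl⟩ := Ideal.mem_span_singleton'.mp hw
    have hc : IsUnit c := by
      by_contra hc
      have h1 : τ i • u i ∈ Ideal.span (u '' {j | j < i}) ⊔ maximalIdeal A ^ 2 := hwv ▸ add_mem
        (Submodule.mem_sup_right (by rw [pow_two]; exact Ideal.mul_mem_mul hc (hum i))) hv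
      have h2 := hlt (τ i)⁻¹ i _ h1
      rw [inv_smul_smul] at h2
      have hmono : Ideal.span (u '' {j | j < i}) ⊔ maximalIdeal A ^ 2 ≤
          Ideal.span (u '' {i}ᶜ) ⊔ maximalIdeal A ^ 2 :=
        sup_le_sup_right (Ideal.span_mono (Set.image_mono (show {j : Fin n | j < i} ⊆ {i}ᶜ from fun j (hj : j < i) => (ne_of_lt hj : j ≠ i)))) _
      exact hind i (hmono h2)
    refine (Ideal.unit_mul_mem_iff_mem _ hc).mp ?_
    rw [eq_sub_of_add_eq hwv]
    refine sub_mem (Submodule.mem_sup_left (Ideal.subset_span ⟨i, rfl⟩)) ?_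
    have hJ : Ideal.span (u '' {j | j < i}) ⊔ maximalIdeal A ^ 2 ≤
        Ideal.span (Set.range fun i => τ i • u i) ⊔ maximalIdeal A ^ 2 := sup_le (Ideal.span_le.mpr (by
      rintro _ ⟨j, hj, rfl⟩
      exact ih j hj)) le_sup_right
    exact hJ hv

end sop

end Groth.Agent.WildQuot
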