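import Groth.Agent.WildQuot.Norms

/-!
# Triangular regular systems for `p`-groups
-/

set_option autoImplicit false

universe u v

namespace Groth.Agent.WildQuot

open IsLocalRing

variable {A : Type u} [CommRing A] [IsRegularLocalRing A]
  {G : Type v} [Group G] [Finite G] [MulSemiringAction G A]

theorem toCotangent_mem_span_iff {j : ℕ} (u : Fin j → maximalIdeal A) (y : maximalIdeal A) :
    (maximalIdeal A).toCotangent y ∈
        Submodule.span (ResidueField A) (Set.range ((maximalIdeal A).toCotangent ∘ u)) ↔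
      (y : A) ∈ Ideal.span (Set.range fun i => (u i : A)) ⊔ maximalIdeal A ^ 2 := by
  have h1 : Submodule.map (maximalIdeal A).subtype (Submodule.span A (Set.range u)) =
      Ideal.span (Set.range fun i => (u i : A)) := by
    rw [Submodule.map_span, ← Set.range_comp]
    rfl
  rw [← Submodule.restrictScalars_mem A,
    Submodule.restrictScalars_span A (ResidueField A) residue_surjective,
    Set.range_comp, ← Submodule.map_span, ← h1]
  constructor
  · intro h
    obtain ⟨s, hs, hsy⟩ := Submodule.mem_map.mp h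
    rw [← (sub_add_cancel (y : A) s)]
    refine add_mem (Submodule.mem_sup_right ?_) (Submodule.mem_sup_left (Submodule.mem_map_of_mem hs))
    exact (Ideal.toCotangent_eq _).mp hsy.symm
  · intro h
    obtain ⟨a, ha, b, hb, hab⟩ := Submodule.mem_sup.mp h
    obtain ⟨s, hs, rfl⟩ := Submodule.mem_map.mp ha
    refine Submodule.mem_map.mpr ⟨s, hs, (Ideal.toCotangent_eq _).mpr ?_⟩
    rw [← hab, Submodule.subtype_apply, sub_add_cancel_left]
    exact neg_mem hb

omit [IsRegularLocalRing A] in
theorem exists_fixed_mod (p : ℕ) [Fact p.Prime] [CharP A p] (hG : IsPGroup p G) (m J : Ideal A)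
    (hm : ∀ (σ : G), ∀ a ∈ m, σ • a ∈ m) (hJ : ∀ (σ : G), ∀ a ∈ J, σ • a ∈ J) {x : A} (hx : x ∈ m)
    (hxJ : x ∉ J) : ∃ y ∈ m, y ∉ J ∧ ∀ σ : G, σ • y - y ∈ J := by
  classical
  haveI := Fintype.ofFinite G
  haveI : NeZero p := ⟨(Fact.out : p.Prime).ne_zero⟩
  let c : ZMod p →+* A := ZMod.castHom dvd_rfl A
  let Φ : (G → ZMod p) →+ A ⧸ J :=
    { toFun := fun f => Ideal.Quotient.mk J (∑ ρ : G, c (f ρ) * ρ • x)
      map_zero' := by simp
      map_add' := fun f g => by rw [← map_add, ← Finset.sum_add_distrib]; simp [add_mul] }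
  let S := Φ.range
  let bar : G → A ⧸ J →+* A ⧸ J := fun σ =>
    Ideal.quotientMap J (MulSemiringAction.toRingHom G A σ) fun a ha => hJ σ a ha
  have hbar : ∀ (σ : G) (a : A), bar σ (Ideal.Quotient.mk J a) = Ideal.Quotient.mk J (σ • a) := fun σ a => rfl
  have hc : ∀ (σ : G) (z : ZMod p), σ • c z = c z := fun σ z => by
    obtain ⟨n, rfl⟩ := ZMod.natCast_zmod_surjective z
    rw [map_natCast]
    exact map_natCast (MulSemiringAction.toRingHom G A σ) n
  have hstab : ∀ (σ : G) (s : S), bar σ s ∈ S := by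
    rintro σ ⟨_, f, rfl⟩
    refine ⟨fun ρ => f (σ⁻¹ * ρ), ?_⟩
    show Ideal.Quotient.mk J _ = bar σ (Ideal.Quotient.mk J _)
    rw [hbar, Finset.smul_sum, ← Equiv.sum_comp (Equiv.mulLeft σ)]
    simp [smul_mul', hc, mul_smul]
  letI : MulAction G S :=
    { smul := fun σ s => ⟨bar σ s, hstab σ s⟩
      one_smul := fun s => Subtype.ext (by
        obtain ⟨a, ha⟩ := Ideal.Quotient.mk_surjective (s : A ⧸ J)
        show bar 1 s = s
        rw [← ha, hbar, one_smul])
      mul_smul := fun σ τ s => Subtype.ext (by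
        obtain ⟨a, ha⟩ := Ideal.Quotient.mk_surjective (s : A ⧸ J)
        show bar (σ * τ) s = bar σ (bar τ s)
        rw [← ha, hbar, hbar, hbar, mul_smul]) }
  haveI : Finite S := Finite.of_surjective _ Φ.rangeRestrict_surjective
  let x₀ : S := ⟨Ideal.Quotient.mk J x, Pi.single 1 1, by
    show Ideal.Quotient.mk J _ = _
    rw [Finset.sum_eq_single (1 : G) (fun ρ _ hρ => by rw [Pi.single_eq_of_ne hρ, map_zero, zero_mul])
      (fun h => absurd (Finset.mem_univ _) h), Pi.single_eq_same, map_one, one_mul, one_smul]⟩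
  have hx₀ : x₀ ≠ 0 := fun h => hxJ (Ideal.Quotient.eq_zero_iff_mem.mp (congrArg Subtype.val h))
  have hord : addOrderOf x₀ = p := addOrderOf_eq_prime (Subtype.ext (by
    show p • Ideal.Quotient.mk J x = 0
    rw [← map_nsmul, nsmul_eq_mul, CharP.cast_eq_zero, zero_mul, map_zero])) hx₀
  have h0 : (0 : S) ∈ MulAction.fixedPoints G S := fun σ => Subtype.ext (map_zero (bar σ))
  obtain ⟨b, hb, hb0⟩ := hG.exists_fixed_point_of_prime_dvd_card_of_fixed_point S
    (hord ▸ addOrderOf_dvd_natCard x₀) h0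
  obtain ⟨_, f, rfl⟩ := b
  refine ⟨∑ ρ : G, c (f ρ) * ρ • x, Submodule.sum_mem _ fun ρ _ => m.mul_mem_left _ (hm ρ x hx), fun h => ?_, fun σ => ?_⟩
  · exact hb0 (Subtype.ext (Ideal.Quotient.eq_zero_iff_mem.mpr h).symm)
  · exact Ideal.Quotient.eq.mp (congrArg Subtype.val (hb σ))

theorem exists_triangular (p : ℕ) [Fact p.Prime] [CharP A p] (hG : IsPGroup p G) {n : ℕ}
    (hn : ringKrullDim A = n) :
    ∃ u : Fin n → A, Ideal.span (Set.range u) = maximalIdeal A ∧
      ∀ (σ : G) (i : Fin n), σ • u i ∈ Ideal.span (u '' {j | j ≤ i}) ⊔ maximalIdeal A ^ 2 := by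
  classical
  have hfr : Module.finrank (ResidueField A) (CotangentSpace A) = n := by
    have h1 : ((maximalIdeal A).spanFinrank : WithBot ℕ∞) = n := by
      rw [← hn]; exact IsRegularLocalRing.spanFinrank_maximalIdeal
    rw [← spanFinrank_maximalIdeal_eq_finrank_cotangentSpace]
    exact_mod_cast h1
  have hsq : ∀ (σ : G), ∀ a ∈ maximalIdeal A ^ 2, σ • a ∈ maximalIdeal A ^ 2 := fun σ a ha => by
    have h := Ideal.mem_map_of_mem (MulSemiringAction.toRingHom G A σ) ha
    rw [Ideal.map_pow] at h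
    refine Ideal.pow_right_mono (Ideal.map_le_iff_le_comap.mpr fun b hb => ?_) 2 h
    exact smul_mem_maximalIdeal hb σ
  have main : ∀ j, j ≤ n → ∃ u : Fin j → maximalIdeal A,
      LinearIndependent (ResidueField A) ((maximalIdeal A).toCotangent ∘ u) ∧
      ∀ (σ : G) (i : Fin j),
        σ • (u i : A) ∈ Ideal.span ((fun i => (u i : A)) '' {l | l ≤ i}) ⊔ maximalIdeal A ^ 2 := by
    intro j
    induction j with
    | zero => exact fun _ => ⟨Fin.elim0, linearIndependent_empty_type, fun _ i => i.elim0⟩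
    | succ j ih =>
      intro hj
      obtain ⟨u, hli, htri⟩ := ih (by omega)
      let J := Ideal.span (Set.range fun i => (u i : A)) ⊔ maximalIdeal A ^ 2
      have hJ : ∀ (σ : G), ∀ a ∈ J, σ • a ∈ J := fun σ => by
        have : J ≤ J.comap (MulSemiringAction.toRingHom G A σ) := by
          refine sup_le (Ideal.span_le.mpr ?_) fun a ha => Submodule.mem_sup_right (hsq σ a ha)
          rintro _ ⟨i, rfl⟩
          exact (sup_le_sup_right (Ideal.span_mono (Set.image_subset_range _ _)) _ : _ ≤ J) (htri σ i)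
        exact fun a ha => this ha
      obtain ⟨x, hx, hxJ⟩ : ∃ x ∈ maximalIdeal A, x ∉ J := by
        by_contra! hall
        have htop : Submodule.span (ResidueField A) (Set.range ((maximalIdeal A).toCotangent ∘ u)) = ⊤ := by
          refine eq_top_iff.mpr fun v _ => ?_
          obtain ⟨y, rfl⟩ := (maximalIdeal A).toCotangent_surjective v
          exact (toCotangent_mem_span_iff u y).mpr (hall y y.2)
        have h := finrank_span_eq_card hli
        rw [htop, finrank_top, hfr, Fintype.card_fin] at h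
        omega
      obtain ⟨y, hy, hyJ, hfix⟩ := exists_fixed_mod p hG _ J (fun σ a ha => smul_mem_maximalIdeal ha σ) hJ hx hxJ
      refine ⟨Fin.snoc u ⟨y, hy⟩, ?_, fun σ i => ?_⟩
      · rw [Fin.comp_snoc]
        exact hli.finSnoc fun h => hyJ ((toCotangent_mem_span_iff u ⟨y, hy⟩).mp h)
      · induction i using Fin.lastCases with
        | last =>
          rw [Fin.snoc_last, ← sub_add_cancel (σ • (⟨y, hy⟩ : maximalIdeal A).1) y]
          refine add_mem ?_ (Submodule.mem_sup_left (Ideal.subset_span ⟨Fin.last j, Fin.le_last _, by simp⟩))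
          refine (sup_le_sup_right (Ideal.span_mono ?_) _ : J ≤ _) (hfix σ)
          rintro _ ⟨l, rfl⟩
          exact ⟨l.castSucc, Fin.le_last _, by simp⟩
        | cast i =>
          rw [Fin.snoc_castSucc]
          have hmono : ∀ {I I' : Ideal A}, I ≤ I' → I ⊔ maximalIdeal A ^ 2 ≤ I' ⊔ maximalIdeal A ^ 2 := fun h => sup_le_sup_right h _
          refine hmono (Ideal.span_mono ?_) (htri σ i)
          rintro _ ⟨l, hl, rfl⟩
          exact ⟨l.castSucc, Fin.castSucc_le_castSucc_iff.mpr hl, by simp⟩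
  obtain ⟨u, hli, htri⟩ := main n le_rfl
  refine ⟨fun i => u i, ?_, htri⟩
  refine le_antisymm (Ideal.span_le.mpr ?_) ?_
  · rintro _ ⟨i, rfl⟩
    exact (u i).2
  · refine Submodule.le_of_le_smul_of_le_jacobson_bot (IsNoetherian.noetherian _)
      (jacobson_eq_maximalIdeal ⊥ bot_ne_top).ge ?_
    rw [smul_eq_mul, ← pow_two]
    intro a ha
    refine (toCotangent_mem_span_iff u ⟨a, ha⟩).mp ?_
    rw [hli.span_eq_top_of_card_eq_finrank' (by rw [Fintype.card_fin, hfr])]
    trivial

end Groth.Agent.WildQuot
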