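import Groth.Agent.WildQuot.PowerSeriesDim
import Groth.Agent.CohenStruct.PowerSeries
import Groth.Agent.RegCoprod.Basic
import Groth.Agent.PP16Lib.CompletionEquiv

/-!
# Complete regular local rings over parameter power series rings
-/

set_option autoImplicit false
set_option linter.unusedSectionVars false

universe u v

namespace Groth.Agent.WildQuot

open IsLocalRing

variable {A : Type u} [CommRing A] [IsRegularLocalRing A] [IsAdicComplete (maximalIdeal A) A] {n : ℕ}
  {k : Type v} [Field k] [Algebra k A] {x : Fin n → A} (φ : MvPowerSeries (Fin n) k →ₐ[k] A)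

theorem param_map_maximalIdeal (hφ : ∀ i, φ (MvPowerSeries.X i) = x i) :
    (maximalIdeal (MvPowerSeries (Fin n) k)).map φ.toRingHom = Ideal.span (Set.range x) := by
  rw [← span_X_eq_maximalIdeal, Ideal.map_span, ← Set.range_comp]
  congr 2
  exact _root_.funext hφ

theorem param_finite (hk : Function.Surjective (residue A ∘ algebraMap k A))
    (hx : (Ideal.span (Set.range x)).radical = maximalIdeal A)
    (hφ : ∀ i, φ (MvPowerSeries.X i) = x i) : φ.toRingHom.Finite := by
  haveI : IsAdicComplete (maximalIdeal (MvPowerSeries (Fin n) k)) (MvPowerSeries (Fin n) k) := by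
    rw [← span_X_eq_maximalIdeal]; infer_instance
  have hI := param_map_maximalIdeal φ hφ
  have hle : Ideal.span (Set.range x) ≤ maximalIdeal A := Ideal.le_radical.trans hx.le
  have hne : Ideal.span (Set.range x) ≠ ⊤ := fun h => (maximalIdeal.isMaximal A).ne_top (top_le_iff.mp (h ▸ hle))
  haveI : IsHausdorff ((maximalIdeal (MvPowerSeries (Fin n) k)).map φ.toRingHom) A :=
    IsHausdorff.of_isLocalRing _ _ (by rw [hI]; exact hne)
  refine CohenStruct.finite_of_complete (maximalIdeal (MvPowerSeries (Fin n) k)) φ.toRingHom ?_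
  rw [hI]
  haveI : Nontrivial (A ⧸ Ideal.span (Set.range x)) := Ideal.Quotient.nontrivial_iff.mpr hne
  haveI : IsLocalRing (A ⧸ Ideal.span (Set.range x)) :=
    IsLocalRing.of_surjective' _ Ideal.Quotient.mk_surjective
  obtain ⟨N, hN⟩ := Ideal.exists_radical_pow_le_of_fg (Ideal.span (Set.range x)) (IsNoetherian.noetherian _)
  rw [hx] at hN
  have hmax : maximalIdeal (A ⧸ Ideal.span (Set.range x)) = (maximalIdeal A).map (Ideal.Quotient.mk _) :=
    (IsLocalRing.map_maximalIdeal_of_surjective _ Ideal.Quotient.mk_surjective).symm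
  refine CohenStruct.finite_of_pow_maximalIdeal_eq_bot (IsNoetherian.noetherian _) _ ?_ (N := N) ?_
  · intro r
    obtain ⟨q, rfl⟩ := residue_surjective r
    obtain ⟨a, rfl⟩ := Ideal.Quotient.mk_surjective q
    obtain ⟨c, hc⟩ := hk (residue A a)
    refine ⟨algebraMap k (MvPowerSeries (Fin n) k) c, ?_⟩
    show residue _ (Ideal.Quotient.mk _ (φ (algebraMap k _ c))) = _
    rw [φ.commutes, ← sub_eq_zero, ← map_sub, ← map_sub, residue_eq_zero_iff, hmax]
    exact Ideal.mem_map_of_mem _ ((residue_eq_zero_iff _).mp (by rw [map_sub, sub_eq_zero]; exact hc))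
  · rw [hmax, ← Ideal.map_pow, eq_bot_iff, Ideal.map_le_iff_le_comap, ← RingHom.ker_eq_comap_bot,
      Ideal.mk_ker]
    exact hN

theorem param_injective (hn : ringKrullDim A = n) (hk : Function.Surjective (residue A ∘ algebraMap k A))
    (hx : (Ideal.span (Set.range x)).radical = maximalIdeal A)
    (hφ : ∀ i, φ (MvPowerSeries.X i) = x i) : Function.Injective φ := by
  by_contra hinj
  obtain ⟨c, hc, hc0⟩ : ∃ c, φ c = 0 ∧ c ≠ 0 := by
    simp only [injective_iff_map_eq_zero φ, not_forall] at hinj
    obtain ⟨c, h1, h2⟩ := hinj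
    exact ⟨c, h1, h2⟩
  have hker : Ideal.span {c} ≤ RingHom.ker φ.toRingHom := (Ideal.span_singleton_le_iff_mem _).mpr hc
  let e := RingHom.kerLift φ.toRingHom
  letI := e.toAlgebra
  haveI : Algebra.IsIntegral (MvPowerSeries (Fin n) k ⧸ RingHom.ker φ.toRingHom) A :=
    algebraMap_isIntegral_iff.mp (RingHom.IsIntegral.tower_top (Ideal.Quotient.mk _) e (by
      rw [show e.comp (Ideal.Quotient.mk _) = φ.toRingHom from RingHom.ext fun r => RingHom.kerLift_mk _ r]
      exact (param_finite φ hk hx hφ).to_isIntegral))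
  have h1 := RegCoprod.ringKrullDim_eq_of_integral (R := MvPowerSeries (Fin n) k ⧸ RingHom.ker φ.toRingHom) (A := A)
    (RingHom.kerLift_injective _)
  have h2 : ringKrullDim (MvPowerSeries (Fin n) k ⧸ RingHom.ker φ.toRingHom) ≤
      ringKrullDim (MvPowerSeries (Fin n) k ⧸ Ideal.span {c}) :=
    ringKrullDim_le_of_surjective (Ideal.Quotient.factor hker) (Ideal.Quotient.factor_surjective hker)
  have h3 := ringKrullDim_quotient_succ_le_of_nonZeroDivisor (mem_nonZeroDivisors_of_ne_zero hc0)
  rw [← h1, hn] at h2
  rw [ringKrullDim_mvPowerSeries] at h3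
  have h4 : (n : WithBot ℕ∞) + 1 ≤ n := (add_le_add h2 le_rfl).trans h3
  norm_cast at h4
  omega

/-- A complete regular local ring is free over a parameter power series ring, of rank the length of the quotient. -/
theorem param_free (hn : ringKrullDim A = n) (hk : Function.Surjective (residue A ∘ algebraMap k A))
    (hx : (Ideal.span (Set.range x)).radical = maximalIdeal A) (hφ : ∀ i, φ (MvPowerSeries.X i) = x i) :
    letI := φ.toRingHom.toAlgebra
    Module.Free (MvPowerSeries (Fin n) k) A ∧ Module.Finite (MvPowerSeries (Fin n) k) A ∧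
      (Module.finrank (MvPowerSeries (Fin n) k) A : ℕ∞) = Module.length A (A ⧸ Ideal.span (Set.range x)) := by
  letI := φ.toRingHom.toAlgebra
  haveI : Module.Finite (MvPowerSeries (Fin n) k) A := param_finite φ hk hx hφ
  haveI := PP16Lib.isRegularLocalRing_mvPowerSeries n k
  haveI : Module.Free (MvPowerSeries (Fin n) k) A :=
    RegCoprod.free_of_regular _ A (param_injective φ hn hk hx hφ)
  refine ⟨inferInstance, inferInstance, ?_⟩
  have hI : (maximalIdeal (MvPowerSeries (Fin n) k)).map (algebraMap (MvPowerSeries (Fin n) k) A) =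
      Ideal.span (Set.range x) := param_map_maximalIdeal φ hφ
  haveI : IsLocalHom (algebraMap (MvPowerSeries (Fin n) k) A) :=
    ((local_hom_TFAE _).out 0 2).mpr (hI.le.trans (Ideal.le_radical.trans hx.le))
  have hres : Function.Surjective (algebraMap (ResidueField (MvPowerSeries (Fin n) k)) (ResidueField A)) := fun r => by
    obtain ⟨c, hc⟩ := hk r
    refine ⟨residue _ (algebraMap k (MvPowerSeries (Fin n) k) c), ?_⟩
    rw [← hc, Function.comp_apply, ← φ.commutes c]
    rfl
  rw [← hI]
  set M := A ⧸ (maximalIdeal (MvPowerSeries (Fin n) k)).map (algebraMap (MvPowerSeries (Fin n) k) A)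
  have hone : Module.length (ResidueField (MvPowerSeries (Fin n) k)) (ResidueField A) = 1 :=
    (Module.length_eq_of_surjective (R := ResidueField A) (M := ResidueField A) hres).trans (Module.length_eq_one _ _)
  have h1 : Module.length (MvPowerSeries (Fin n) k) M = Module.length A M := by
    rw [IsLocalRing.length_restrictScalars (MvPowerSeries (Fin n) k) A M, hone, mul_one]
  rw [← h1]
  letI := Ideal.Quotient.field (maximalIdeal (MvPowerSeries (Fin n) k))
  haveI : Module.Finite (MvPowerSeries (Fin n) k ⧸ maximalIdeal (MvPowerSeries (Fin n) k)) M :=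
    Module.Finite.of_restrictScalars_finite (MvPowerSeries (Fin n) k) _ _
  rw [Module.length_eq_of_surjective (R := MvPowerSeries (Fin n) k ⧸ maximalIdeal (MvPowerSeries (Fin n) k))
      (M := M) Ideal.Quotient.mk_surjective, Module.length_eq_finrank]
  exact congrArg _ IsLocalRing.finrank_quotient_map.symm

end Groth.Agent.WildQuot
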