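import Groth.Agent.WildQuot.Discr
import Groth.Agent.WildQuot.Param
import Groth.Agent.WildQuot.Family
import Groth.Agent.DepthLib.RegularNormal
import Groth.Agent.J2Lib.Descent
import Groth.Agent.RegularSerre.Localization

/-!
# Cyclic quotients of complete regular local rings ramified precisely at the origin
-/

set_option autoImplicit false
set_option linter.unusedSectionVars false

universe u v w

namespace Groth.Agent.WildQuot

open IsLocalRing

/-- Ring maps agreeing on enough elements agree modulo an ideal. -/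
theorem sub_mem_of_decomp {S : Type*} [CommRing S] {B : Type u} [CommRing B] [IsLocalRing B] [IsNoetherianRing B]
    (f f' : S →+* B) (I : Ideal B) {ι : Type*} [Fintype ι] (t : ι → S) (ht : ∀ i, f (t i) - f' (t i) ∈ I)
    (htm : ∀ i, f (t i) ∈ maximalIdeal B)
    (hdec : ∀ s : S, ∃ (s₀ : S) (c : ι → S), f s₀ - f' s₀ ∈ I ∧ s = s₀ + ∑ i, c i * t i) (s : S) :
    f s - f' s ∈ I := by
  have h : ∀ (N : ℕ) (s : S), f s - f' s ∈ I ⊔ maximalIdeal B ^ N := fun N => by
    induction N with
    | zero => intro s; rw [pow_zero, Ideal.one_eq_top, sup_top_eq]; exact Submodule.mem_top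
    | succ N ih =>
      intro s
      obtain ⟨s₀, c, h₀, rfl⟩ := hdec s
      rw [map_add, map_add, map_sum, map_sum, add_sub_add_comm, ← Finset.sum_sub_distrib]
      refine add_mem (Submodule.mem_sup_left h₀) (Ideal.sum_mem _ fun i _ => ?_)
      rw [map_mul, map_mul, show f (c i) * f (t i) - f' (c i) * f' (t i) =
        (f (c i) - f' (c i)) * f (t i) + f' (c i) * (f (t i) - f' (t i)) by ring]
      refine add_mem ?_ (Submodule.mem_sup_left (I.mul_mem_left _ (ht i)))
      have h1 := Ideal.mul_mem_mul (ih (c i)) (htm i)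
      rw [Ideal.sup_mul, ← pow_succ] at h1
      have hle : I * maximalIdeal B ⊔ maximalIdeal B ^ (N + 1) ≤ I ⊔ maximalIdeal B ^ (N + 1) :=
        sup_le_sup_right Ideal.mul_le_left _
      exact hle h1
  rcases eq_or_ne I ⊤ with rfl | hI
  · exact Submodule.mem_top
  haveI : IsHausdorff (maximalIdeal B) (B ⧸ I) := IsHausdorff.of_isLocalRing _ _ (maximalIdeal.isMaximal B).ne_top
  refine Ideal.Quotient.eq_zero_iff_mem.mp (IsHausdorff.haus ‹IsHausdorff (maximalIdeal B) (B ⧸ I)› _ fun N => ?_)
  obtain ⟨i, hi, j, hj, hij⟩ := Submodule.mem_sup.mp (h N s)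
  rw [SModEq.zero, ← hij, map_add, Ideal.Quotient.eq_zero_iff_mem.mpr hi, zero_add]
  have h2 : j • (1 : B ⧸ I) ∈ maximalIdeal B ^ N • (⊤ : Submodule B (B ⧸ I)) :=
    Submodule.smul_mem_smul hj Submodule.mem_top
  rwa [Algebra.smul_def, mul_one] at h2

variable {A : Type u} [CommRing A] [IsRegularLocalRing A] {k : Type v} [Field k] [Algebra k A]
  (hk : Function.Surjective (residue A ∘ algebraMap k A))
  {G : Type w} [Group G] [MulSemiringAction G A]
  (hGk : ∀ (σ : G) (c : k), σ • algebraMap k A c = algebraMap k A c)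

local notation "𝔽" => FixedPoints.subring A G

include hk hGk in
theorem smul_sub_mem_maximalIdeal (σ : G) (a : A) : σ • a - a ∈ maximalIdeal A := by
  obtain ⟨c, hc⟩ := hk (residue A a)
  have h1 : a - algebraMap k A c ∈ maximalIdeal A := by
    rw [← residue_eq_zero_iff, map_sub, sub_eq_zero]; exact hc.symm
  have h2 : σ • (a - algebraMap k A c) ∈ maximalIdeal A := by
    rw [mem_maximalIdeal, mem_nonunits_iff] at h1 ⊢
    intro h
    apply h1
    simpa using h.map (MulSemiringAction.toRingHom G A σ⁻¹)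
  rw [smul_sub, hGk] at h2
  simpa using sub_mem h2 h1

include hk hGk in
theorem smul_mem_maximalIdeal' (σ : G) {a : A} (ha : a ∈ maximalIdeal A) : σ • a ∈ maximalIdeal A := by
  simpa using add_mem (smul_sub_mem_maximalIdeal hk hGk σ a) ha

include hk hGk in
theorem exists_invariant_params [Finite G] :
    ∃ (N : ℕ) (x : Fin N → A), (∀ i, x i ∈ 𝔽) ∧ (Ideal.span (Set.range x)).radical = maximalIdeal A := by
  classical
  haveI := Fintype.ofFinite G
  let s : Set A := {a | a ∈ 𝔽 ∧ a ∈ maximalIdeal A}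
  obtain ⟨t, hts, ht⟩ := Submodule.fg_span_iff_fg_span_finset_subset s |>.mp (IsNoetherian.noetherian (Ideal.span s))
  refine ⟨t.card, fun i => (t.equivFin.symm i : A), fun i => (hts (t.equivFin.symm i).2).1, ?_⟩
  have hrange : Ideal.span (Set.range fun i : Fin t.card => (t.equivFin.symm i : A)) = Ideal.span s := by
    rw [show Set.range (fun i : Fin t.card => (t.equivFin.symm i : A)) = (t : Set A) from Set.ext fun a =>
      ⟨fun ⟨i, hi⟩ => hi ▸ (t.equivFin.symm i).2, fun h => ⟨t.equivFin ⟨a, h⟩, by simp⟩⟩]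
    exact ht.symm
  rw [hrange]
  refine le_antisymm ((maximalIdeal.isMaximal A).isPrime.radical_le_iff.mpr (Ideal.span_le.mpr fun a ha => ha.2))
    fun a ha => ?_
  refine ⟨(MulSemiringAction.charpoly G a).natDegree, ?_⟩
  have h0 := MulSemiringAction.eval_charpoly G a
  rw [Polynomial.eval_eq_sum_range, Finset.sum_range_succ, (MulSemiringAction.monic_charpoly G a).coeff_natDegree,
    one_mul] at h0
  rw [eq_neg_of_add_eq_zero_right h0]
  refine neg_mem (Ideal.sum_mem _ fun j hj => Ideal.mul_mem_right _ _ (Ideal.subset_span ?_))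
  refine ⟨fun σ => MulSemiringAction.smul_coeff_charpoly a j σ, ?_⟩
  have hmap : (MulSemiringAction.charpoly G a).map (residue A) = Polynomial.X ^ Fintype.card G := by
    rw [MulSemiringAction.charpoly_eq, Polynomial.map_prod,
      Finset.prod_congr rfl fun σ _ => show (Polynomial.X - Polynomial.C (σ • a)).map (residue A) = Polynomial.X by
        rw [Polynomial.map_sub, Polynomial.map_X, Polynomial.map_C,
          (residue_eq_zero_iff _).mpr (smul_mem_maximalIdeal' hk hGk σ ha), map_zero, sub_zero],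
      Finset.prod_const, Finset.card_univ]
  rw [← residue_eq_zero_iff, ← Polynomial.coeff_map, hmap, Polynomial.coeff_X_pow, if_neg]
  have hdeg : (MulSemiringAction.charpoly G a).natDegree = Fintype.card G := by
    rw [← (MulSemiringAction.monic_charpoly G a).natDegree_map (residue A), hmap, Polynomial.natDegree_X_pow]
  have hjlt := Finset.mem_range.mp hj
  omega

variable [IsAdicComplete (maximalIdeal A) A]

include hk hGk in
theorem exists_param_map [Finite G] :
    ∃ (N : ℕ) (ψ : MvPowerSeries (Fin N) k →ₐ[k] A), ψ.toRingHom.Finite ∧ (∀ q, ψ q ∈ 𝔽) ∧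
      ((maximalIdeal (MvPowerSeries (Fin N) k)).map ψ.toRingHom).radical = maximalIdeal A := by
  obtain ⟨N, x, hxF, hx⟩ := exists_invariant_params hk hGk
  have ha : ∀ i, x i ∈ maximalIdeal A := fun i => hx.le (Ideal.le_radical (Ideal.subset_span ⟨i, rfl⟩))
  let ψ : MvPowerSeries (Fin N) k →ₐ[k] A :=
    { CohenStruct.evalPS (maximalIdeal A) (algebraMap k A) x ha with
      commutes' := fun c => CohenStruct.evalPS_C (maximalIdeal A) (algebraMap k A) x ha c }
  have hX : ∀ i, ψ (MvPowerSeries.X i) = x i := fun i => CohenStruct.evalPS_X (maximalIdeal A) _ x ha i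
  refine ⟨N, ψ, param_finite ψ hk hx hX, fun q σ => ?_, by rw [param_map_maximalIdeal ψ hX]; exact hx⟩
  rw [← sub_eq_zero, ← Ideal.mem_bot]
  refine sub_mem_of_decomp ((MulSemiringAction.toRingHom G A σ).comp ψ.toRingHom) ψ.toRingHom ⊥
    (fun i => MvPowerSeries.X i) (fun i => ?_) (fun i => ?_) (fun s => ?_) q
  · show σ • ψ (MvPowerSeries.X i) - ψ (MvPowerSeries.X i) ∈ (⊥ : Ideal A)
    rw [hX, hxF i σ, sub_self]
    exact zero_mem _
  · show σ • ψ (MvPowerSeries.X i) ∈ maximalIdeal A
    rw [hX, hxF i σ]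
    exact ha i
  · obtain ⟨c, hc⟩ := Ideal.mem_span_range_iff_exists_fun.mp (CohenStruct.mem_span_X_of_constantCoeff N
      (s - MvPowerSeries.C (MvPowerSeries.constantCoeff s)) (by simp))
    refine ⟨MvPowerSeries.C (MvPowerSeries.constantCoeff s), c, ?_, by rw [hc]; ring⟩
    show σ • ψ (algebraMap k (MvPowerSeries (Fin N) k) (MvPowerSeries.constantCoeff s)) -
      ψ (algebraMap k (MvPowerSeries (Fin N) k) (MvPowerSeries.constantCoeff s)) ∈ (⊥ : Ideal A)
    rw [ψ.commutes, hGk, sub_self]
    exact zero_mem _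

include hk hGk in
/-- The invariants are a complete Noetherian local ring over which the ring is finite. -/
theorem fixed_local_finite [Finite G] :
    IsNoetherianRing 𝔽 ∧ Module.Finite 𝔽 A ∧ IsLocalRing 𝔽 ∧
      IsAdicComplete (Ideal.comap (FixedPoints.subring A G).subtype (maximalIdeal A)) 𝔽 := by
  haveI := DepthLib.isDomain_of_isRegularLocalRing A
  obtain ⟨N, ψ, hfin, hF, hrad⟩ := exists_param_map hk hGk (G := G)
  let ψF : MvPowerSeries (Fin N) k →+* 𝔽 := ψ.toRingHom.codRestrict 𝔽 hF
  letI := ψF.toAlgebra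
  letI := ψ.toRingHom.toAlgebra
  haveI : IsScalarTower (MvPowerSeries (Fin N) k) 𝔽 A := IsScalarTower.of_algebraMap_eq fun _ => rfl
  haveI : Module.Finite (MvPowerSeries (Fin N) k) A := hfin
  haveI := PP16Lib.isRegularLocalRing_mvPowerSeries N k
  haveI hPc : IsAdicComplete (maximalIdeal (MvPowerSeries (Fin N) k)) (MvPowerSeries (Fin N) k) := by
    rw [← span_X_eq_maximalIdeal]; infer_instance
  haveI : Module.Finite (MvPowerSeries (Fin N) k) 𝔽 :=
    Module.Finite.of_injective ((IsScalarTower.toAlgHom (MvPowerSeries (Fin N) k) 𝔽 A).toLinearMap) Subtype.val_injective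
  haveI hNF : IsNoetherianRing 𝔽 := isNoetherian_of_tower (MvPowerSeries (Fin N) k) inferInstance
  haveI hfinA : Module.Finite 𝔽 A := Module.Finite.of_restrictScalars_finite (MvPowerSeries (Fin N) k) 𝔽 A
  haveI : Algebra.IsIntegral 𝔽 A := Algebra.IsIntegral.of_finite _ _
  haveI hloc : IsLocalHom (algebraMap 𝔽 A) :=
    (algebraMap_isIntegral_iff.mpr ‹_› : (algebraMap 𝔽 A).IsIntegral).isLocalHom Subtype.val_injective
  haveI : IsLocalRing 𝔽 := RingHom.domain_isLocalRing (algebraMap 𝔽 A)
  refine ⟨hNF, hfinA, inferInstance, ?_⟩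
  let I := (maximalIdeal (MvPowerSeries (Fin N) k)).map (algebraMap (MvPowerSeries (Fin N) k) 𝔽)
  let J : Ideal 𝔽 := Ideal.comap (FixedPoints.subring A G).subtype (maximalIdeal A)
  show IsAdicComplete J 𝔽
  haveI : IsAdicComplete I 𝔽 :=
    (IsAdicComplete.map_algebraMap_iff (maximalIdeal (MvPowerSeries (Fin N) k)) 𝔽).2 (AdicLim.isAdicComplete_of_finite 𝔽)
  have hIJ : I ≤ J := by
    rw [← Ideal.map_le_iff_le_comap, Ideal.map_map]
    exact Ideal.le_radical.trans hrad.le
  have hJrad : J ≤ I.radical := by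
    rw [Ideal.radical_eq_sInf]
    refine le_sInf ?_
    rintro Q ⟨hIQ, hQp⟩
    haveI : Q.IsPrime := hQp
    obtain ⟨P, hP, hPQ⟩ := Ideal.exists_ideal_over_prime_of_isIntegral_of_isDomain (S := A) Q
      (by rw [(RingHom.injective_iff_ker_eq_bot _).mp Subtype.val_injective]; exact bot_le)
    have hmP : maximalIdeal A ≤ P := by
      rw [← hrad]
      refine hP.radical_le_iff.mpr ?_
      rw [show ψ.toRingHom = (algebraMap 𝔽 A).comp ψF from rfl, ← Ideal.map_map, Ideal.map_le_iff_le_comap]
      exact hIQ.trans hPQ.ge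
    exact (Ideal.comap_mono hmP).trans hPQ.le
  obtain ⟨M, hM⟩ := Ideal.exists_radical_pow_le_of_fg I (IsNoetherian.noetherian _)
  exact isAdicComplete_of_pow_le hIJ M.succ_pos
    ((Ideal.pow_le_pow_right M.le_succ).trans ((Ideal.pow_right_mono hJrad M).trans hM))

theorem fixed_isIntegrallyClosed [Finite G] : IsIntegrallyClosed 𝔽 := by
  haveI := DepthLib.isDomain_of_isRegularLocalRing A
  haveI := DepthLib.isIntegrallyClosed_of_isRegularLocalRing A
  let g : FractionRing 𝔽 →+* FractionRing A :=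
    IsFractionRing.map (A := 𝔽) (B := A) (K := FractionRing 𝔽) (L := FractionRing A)
      (j := (FixedPoints.subring A G).subtype) Subtype.val_injective
  have hg : ∀ r : 𝔽, g (algebraMap 𝔽 (FractionRing 𝔽) r) = algebraMap A (FractionRing A) (r : A) := fun r =>
    IsLocalization.map_eq (S := FractionRing 𝔽) _ r
  refine (isIntegrallyClosed_iff (FractionRing 𝔽)).mpr fun {x} hx => ?_
  obtain ⟨q, hqm, hq⟩ := hx
  have hint : IsIntegral A (g x) := ⟨q.map (FixedPoints.subring A G).subtype, hqm.map _, by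
    rw [Polynomial.eval₂_map,
      show (algebraMap A (FractionRing A)).comp (FixedPoints.subring A G).subtype = g.comp (algebraMap 𝔽 _) from
        RingHom.ext fun r => (hg r).symm,
      ← Polynomial.hom_eval₂, hq, map_zero]⟩
  obtain ⟨c, hc⟩ := IsIntegrallyClosed.isIntegral_iff.mp hint
  obtain ⟨a, b, hb, rfl⟩ := IsFractionRing.div_surjective (A := 𝔽) x
  have hb0 : (b : A) ≠ 0 := fun h => nonZeroDivisors.ne_zero hb (Subtype.ext h)
  have hcb : c * (b : A) = a := by
    apply IsFractionRing.injective A (FractionRing A)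
    rw [map_mul, hc, map_div₀]
    rw [hg, hg]
    exact div_mul_cancel₀ _ (by rwa [Ne, map_eq_zero_iff _ (IsFractionRing.injective A _)])
  have hcF : c ∈ 𝔽 := fun σ => mul_right_cancel₀ hb0 (by rw [← b.2 σ, ← smul_mul', hcb, a.2 σ, b.2 σ, hcb])
  refine ⟨⟨c, hcF⟩, ?_⟩
  rw [eq_div_iff ((map_ne_zero_iff _ (IsFractionRing.injective 𝔽 _)).mpr (nonZeroDivisors.ne_zero hb)), ← map_mul]
  exact congrArg _ (Subtype.ext hcb)

include hk hGk in
theorem fixed_ringKrullDim [Finite G] : ringKrullDim 𝔽 = ringKrullDim A := by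
  haveI := (fixed_local_finite hk hGk (G := G)).2.1
  haveI : Algebra.IsIntegral 𝔽 A := Algebra.IsIntegral.of_finite _ _
  exact (RegCoprod.ringKrullDim_eq_of_integral Subtype.val_injective).symm

variable (hdim : 2 ≤ ringKrullDim A)
  (hram : ∀ P : Ideal A, P.IsPrime → P ≠ maximalIdeal A → P.inertia G = ⊥)

include hdim in
theorem bot_ne_maximalIdeal : (⊥ : Ideal A) ≠ maximalIdeal A := by
  intro h
  haveI := DepthLib.isDomain_of_isRegularLocalRing A
  have h1 := maximalIdeal_height_eq_ringKrullDim (R := A)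
  rw [← h, Ideal.height_bot] at h1
  rw [← h1] at hdim
  norm_cast at hdim

include hk hGk hdim hram in
/-- The ring is not flat over the invariants. -/
theorem not_flat_fixed [Finite G] (hG : 1 < Nat.card G) : ¬ Module.Flat 𝔽 A := by
  classical
  haveI := Fintype.ofFinite G
  haveI := DepthLib.isDomain_of_isRegularLocalRing A
  obtain ⟨h1, h2, h3, -⟩ := fixed_local_finite hk hGk (G := G)
  haveI := h1
  haveI := h2
  haveI := h3
  intro hflat
  haveI : Module.Free 𝔽 A := Module.free_of_flat_of_isLocalRing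
  haveI : (⊥ : Ideal A).IsPrime := Ideal.isPrime_bot
  have hbot := hram ⊥ inferInstance (bot_ne_maximalIdeal hdim)
  obtain ⟨a, ha⟩ := exists_det_notMem ⊥ hbot
  rw [Ideal.mem_bot] at ha
  let b₀ := Module.Free.chooseBasis 𝔽 A
  have hcard : Fintype.card (Module.Free.ChooseBasisIndex 𝔽 A) = Fintype.card G := by
    rw [← Module.finrank_eq_card_basis b₀]
    refine le_antisymm ?_ (linearIndependent_of_det_ne_zero a ha).fintype_card_le_finrank
    rw [Module.finrank_eq_card_basis b₀]
    let d : 𝔽 := ⟨(conjMat a).det ^ 2, sq_det_conjMat_mem a⟩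
    let f : A →ₗ[𝔽] A := LinearMap.lsmul 𝔽 A d
    have hf : LinearIndependent 𝔽 (f ∘ b₀) :=
      b₀.linearIndependent.map' f (LinearMap.ker_eq_bot.mpr fun x y h => mul_left_cancel₀ (pow_ne_zero 2 ha) h)
    refine linearIndependent_le_span_aux' _ hf (Set.range a) ?_ |>.trans (Fintype.card_range_le a)
    rintro _ ⟨i, rfl⟩
    obtain ⟨c, hc⟩ := exists_sq_det_mul_eq a (b₀ i)
    show (conjMat a).det ^ 2 * b₀ i ∈ Submodule.span 𝔽 (Set.range a)
    rw [hc]
    exact Submodule.sum_mem _ fun τ _ =>
      Submodule.smul_mem _ (c τ) (Submodule.subset_span ⟨τ, rfl⟩)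
  let b := b₀.reindex (Fintype.equivOfCardEq hcard)
  have hnot : ∀ Q : Ideal A, Q.IsPrime → Q ≠ maximalIdeal A → (conjMat b).det ∉ Q := fun Q hQ hne =>
    haveI := hQ
    det_notMem_of_span Q (hram Q hQ hne) b b.span_eq
  obtain ⟨σ, hσ⟩ : ∃ σ : G, σ ≠ 1 := by
    haveI : Nontrivial G := Finite.one_lt_card_iff_nontrivial.mp hG
    exact exists_ne 1
  have hmem : (conjMat b).det ∈ maximalIdeal A := by
    rw [← residue_eq_zero_iff, RingHom.map_det]
    refine Matrix.det_zero_of_row_eq hσ (_root_.funext fun τ => ?_)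
    show residue A (σ • b τ) = residue A ((1 : G) • b τ)
    rw [one_smul, ← sub_eq_zero, ← map_sub, residue_eq_zero_iff]
    exact smul_sub_mem_maximalIdeal hk hGk σ _
  have hmin : maximalIdeal A ∈ (Ideal.span {(conjMat b).det}).minimalPrimes := by
    refine ⟨⟨inferInstance, (Ideal.span_singleton_le_iff_mem _).mpr hmem⟩, fun Q ⟨hQ, hQD⟩ _ => ?_⟩
    by_contra hQm
    exact hnot Q hQ (fun h => hQm h.ge) ((Ideal.span_singleton_le_iff_mem _).mp hQD)
  have h := Ideal.height_le_one_of_isPrincipal_of_mem_minimalPrimes _ _ hmin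
  rw [← maximalIdeal_height_eq_ringKrullDim] at hdim
  have := (WithBot.coe_le_coe (b := (1 : ℕ∞))).mpr h
  exact absurd (hdim.trans this) (by norm_cast)

include hk hGk hdim hram in
theorem fixed_not_regular [Finite G] (hG : 1 < Nat.card G) : ¬ IsRegularLocalRing 𝔽 := by
  intro hreg
  haveI := hreg
  haveI := (fixed_local_finite hk hGk (G := G)).2.1
  haveI : Module.Free 𝔽 A := RegCoprod.free_of_regular 𝔽 A Subtype.val_injective
  exact not_flat_fixed hk hGk hdim hram hG inferInstance

include hk hGk hram in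
theorem exists_smul_ne [Finite G] (hG : 1 < Nat.card G) {v : A} (hv : v ∈ maximalIdeal A)
    (hv2 : v ∉ maximalIdeal A ^ 2) : ∃ σ : G, σ • v ≠ v := by
  classical
  by_contra hfix
  push Not at hfix
  obtain ⟨σ, hσ⟩ : ∃ σ : G, σ ≠ 1 := by
    haveI : Nontrivial G := Finite.one_lt_card_iff_nontrivial.mp hG
    exact exists_ne 1
  obtain ⟨s, hs, hspan⟩ := DepthLib.exists_span_insert_eq_maximalIdeal hv hv2
  let I : Ideal A := Ideal.span ((s.image fun u => σ • u - u : Finset A) : Set A)
  have hI : ∀ a, σ • a - a ∈ I := fun a => by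
    let t : {i : A // i ∈ insert v s} → A := fun i => i.1
    refine sub_mem_of_decomp (MulSemiringAction.toRingHom G A σ) (RingHom.id A) I t (fun i => ?_) (fun i => ?_)
      (fun r => ?_) a
    · show σ • (i : A) - i ∈ I
      rcases Finset.mem_insert.mp i.2 with h | h
      · rw [h, hfix, sub_self]; exact zero_mem _
      · exact Ideal.subset_span (Finset.mem_coe.mpr (Finset.mem_image_of_mem _ h))
    · show σ • (i : A) ∈ maximalIdeal A
      refine smul_mem_maximalIdeal' hk hGk σ ?_
      rw [← hspan]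
      exact Ideal.subset_span (show (i : A) ∈ insert v (s : Set A) by
        rw [← Finset.coe_insert]; exact i.2)
    · obtain ⟨c, hc⟩ := hk (residue A r)
      have h1 : r - algebraMap k A c ∈ Ideal.span (Set.range t) := by
        rw [show Set.range t = insert v (s : Set A) by ext; simp [t], hspan, ← residue_eq_zero_iff, map_sub,
          sub_eq_zero]
        exact hc.symm
      obtain ⟨d, hd⟩ := Ideal.mem_span_range_iff_exists_fun.mp h1
      refine ⟨algebraMap k A c, d, ?_, by rw [hd]; ring⟩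
      show σ • algebraMap k A c - algebraMap k A c ∈ I
      rw [hGk, sub_self]; exact zero_mem _
  have hIm : I ≤ maximalIdeal A := by
    rw [Ideal.span_le]
    intro r hr
    obtain ⟨u, _, rfl⟩ := Finset.mem_image.mp (Finset.mem_coe.mp hr)
    exact smul_sub_mem_maximalIdeal hk hGk σ u
  have hmin : maximalIdeal A ∈ I.minimalPrimes := by
    refine ⟨⟨inferInstance, hIm⟩, fun Q ⟨hQ, hIQ⟩ _ => ?_⟩
    by_contra hQm
    refine hσ ?_
    have h := hram Q hQ (fun h => hQm h.ge)
    rw [← Subgroup.mem_bot, ← h]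
    exact fun x => hIQ (hI x)
  have h := Ideal.height_le_card_of_mem_minimalPrimes_span_finset hmin
  have h2 : (maximalIdeal A).height ≤ (s.card : ℕ∞) := by
    exact h.trans (Nat.cast_le.mpr Finset.card_image_le)
  have h3 : ((maximalIdeal A).spanFinrank : WithBot ℕ∞) ≤ ((s.card : ℕ∞) : WithBot ℕ∞) := by
    rw [IsRegularLocalRing.spanFinrank_maximalIdeal, ← maximalIdeal_height_eq_ringKrullDim]
    exact WithBot.coe_le_coe.mpr h2
  norm_cast at h3
  omega

include hk hGk hram in
theorem regular_localization [Finite G] (P : Ideal 𝔽) [P.IsPrime] (hP : ¬ P.IsMaximal) :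
    IsRegularLocalRing (Localization.AtPrime P) := by
  classical
  haveI := Fintype.ofFinite G
  haveI := DepthLib.isDomain_of_isRegularLocalRing A
  obtain ⟨h1, h2, h3, -⟩ := fixed_local_finite hk hGk (G := G)
  haveI := h1
  haveI := h2
  haveI : Algebra.IsIntegral 𝔽 A := Algebra.IsIntegral.of_finite _ _
  obtain ⟨Q, hQ, hQP⟩ := Ideal.exists_ideal_over_prime_of_isIntegral_of_isDomain (S := A) P
    (by rw [(RingHom.injective_iff_ker_eq_bot _).mp Subtype.val_injective]; exact bot_le)
  haveI := hQ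
  haveI : Q.LiesOver P := ⟨hQP.symm⟩
  have hQm : Q ≠ maximalIdeal A := fun h => hP (by
    rw [← hQP, h]
    exact Ideal.isMaximal_comap_of_isIntegral_of_isMaximal _)
  obtain ⟨a, ha⟩ := exists_det_notMem Q (hram Q hQ hQm)
  let d : 𝔽 := ⟨(conjMat a).det ^ 2, sq_det_conjMat_mem a⟩
  have hdQ : (conjMat a).det ^ 2 ∉ Q := fun h => ha (hQ.mem_of_pow_mem 2 h)
  have hdP : d ∈ P.primeCompl := fun h => hdQ (show d ∈ Q.comap (algebraMap 𝔽 A) by rw [hQP]; exact h)
  let Φ : (G → 𝔽) →ₗ[𝔽] A := Fintype.linearCombination 𝔽 a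
  have hli := linearIndependent_of_det_ne_zero a fun h => ha (h ▸ Q.zero_mem)
  let S := P.primeCompl
  let B := Localization (Algebra.algebraMapSubmonoid A S)
  haveI : IsLocalizedModule S (IsScalarTower.toAlgHom 𝔽 A B).toLinearMap :=
    isLocalizedModule_iff_isLocalization.mpr inferInstance
  let Ψ := IsLocalizedModule.map S (LocalizedModule.mkLinearMap S (G → 𝔽)) (IsScalarTower.toAlgHom 𝔽 A B).toLinearMap Φ
  have hΨs : Function.Surjective Ψ := fun y => by
    obtain ⟨⟨x, t⟩, hxt⟩ := IsLocalizedModule.mk'_surjective S (IsScalarTower.toAlgHom 𝔽 A B).toLinearMap y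
    obtain ⟨c, hc⟩ := exists_sq_det_mul_eq a x
    refine ⟨IsLocalizedModule.mk' (LocalizedModule.mkLinearMap S (G → 𝔽)) c (⟨d, hdP⟩ * t), ?_⟩
    rw [IsLocalizedModule.map_mk', show Φ c = (⟨d, hdP⟩ : S) • x from (Fintype.linearCombination_apply 𝔽 a c).trans hc.symm]
    exact (IsLocalizedModule.mk'_cancel_left _ _ _ _).trans hxt
  have hΨi : Function.Injective Ψ :=
    IsLocalizedModule.map_injective S _ _ Φ fun c c' h => by
      funext τ
      have h0 : ∑ τ, (c - c') τ • a τ = 0 := by
        rw [← Fintype.linearCombination_apply 𝔽 a, map_sub, show Fintype.linearCombination 𝔽 a c = _ from h, sub_self]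
      exact sub_eq_zero.mp (Fintype.linearIndependent_iff.mp hli _ h0 τ)
  haveI : Module.Flat 𝔽 (LocalizedModule S (G → 𝔽)) :=
    Module.Flat.of_linearEquiv ((LocalizedModule.equivTensorProduct S (G → 𝔽)).restrictScalars 𝔽)
  haveI : Module.Flat 𝔽 B := Module.Flat.of_linearEquiv (LinearEquiv.ofBijective Ψ ⟨hΨi, hΨs⟩).symm
  have hle : Algebra.algebraMapSubmonoid A S ≤ Q.primeCompl := by
    rintro _ ⟨r, hr, rfl⟩ h
    exact hr (show r ∈ P by rw [← hQP]; exact h)
  letI : Algebra B (Localization.AtPrime Q) :=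
    IsLocalization.localizationAlgebraOfSubmonoidLe B _ _ _ hle
  haveI : IsScalarTower A B (Localization.AtPrime Q) :=
    IsLocalization.localization_isScalarTower_of_submonoid_le B _ _ _ hle
  haveI : IsScalarTower 𝔽 B (Localization.AtPrime Q) := IsScalarTower.to₁₃₄ 𝔽 A B (Localization.AtPrime Q)
  haveI : IsLocalization (Q.primeCompl.map (algebraMap A B)) (Localization.AtPrime Q) :=
    IsLocalization.isLocalization_of_submonoid_le B (Localization.AtPrime Q) _ _ hle
  haveI : Module.Flat B (Localization.AtPrime Q) := IsLocalization.flat _ (Q.primeCompl.map (algebraMap A B))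
  haveI : Module.Flat 𝔽 (Localization.AtPrime Q) := Module.Flat.trans 𝔽 B (Localization.AtPrime Q)
  letI : Algebra (Localization.AtPrime P) (Localization.AtPrime Q) :=
    (Localization.localRingHom P Q (algebraMap 𝔽 A) hQP.symm).toAlgebra
  haveI : IsScalarTower 𝔽 (Localization.AtPrime P) (Localization.AtPrime Q) :=
    IsScalarTower.of_algebraMap_eq fun r => (IsScalarTower.algebraMap_apply 𝔽 A _ r).trans
      (Localization.localRingHom_to_map P Q (algebraMap 𝔽 A) hQP.symm r).symm
  haveI : IsLocalHom (algebraMap (Localization.AtPrime P) (Localization.AtPrime Q)) :=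
    Localization.isLocalHom_localRingHom P Q (algebraMap 𝔽 A) hQP.symm
  haveI : Module.Flat (Localization.AtPrime P) (Localization.AtPrime Q) :=
    (Module.flat_iff_of_isLocalization (Localization.AtPrime P) P.primeCompl _).mpr inferInstance
  haveI : IsRegularLocalRing (Localization.AtPrime Q) := RegularSerre.isRegularLocalRing_localization Q
  exact J2Lib.isRegularLocalRing_of_flat (Localization.AtPrime P) (Localization.AtPrime Q)

end Groth.Agent.WildQuot
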