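import Groth.Agent.WildQuot.Origin
import Groth.Agent.WildQuot.Norms

/-!
# The norm extension is not purely inseparable
-/

set_option autoImplicit false
set_option linter.unusedSectionVars false

universe u v w

namespace Groth.Agent.WildQuot

open IsLocalRing

section series
variable (p : ℕ) [Fact p.Prime] {k : Type v} [Field k] [CharP k p] {n : ℕ}

theorem mvPowerSeries_coeff_pow_smul (f : MvPowerSeries (Fin n) k) (e : Fin n →₀ ℕ) :
    MvPowerSeries.coeff (p • e) (f ^ p) = MvPowerSeries.coeff e f ^ p := by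
  haveI := PP16Lib.isRegularLocalRing_mvPowerSeries n k
  haveI : CharP (MvPowerSeries (Fin n) k) p :=
    charP_of_injective_algebraMap (algebraMap k (MvPowerSeries (Fin n) k)).injective p
  let F' : MvPowerSeries (Fin n) k →+* MvPowerSeries (Fin n) k :=
    (MvPowerSeries.expand p (Fact.out : p.Prime).ne_zero).toRingHom.comp (MvPowerSeries.map (frobenius k p))
  have h : frobenius (MvPowerSeries (Fin n) k) p f - F' f ∈ (⊥ : Ideal (MvPowerSeries (Fin n) k)) := by
    refine sub_mem_of_decomp _ F' ⊥ (fun i => MvPowerSeries.X i) (fun i => ?_) (fun i => ?_) (fun s => ?_) f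
    · show frobenius _ p (MvPowerSeries.X i) -
        MvPowerSeries.expand p (Fact.out : p.Prime).ne_zero (MvPowerSeries.map (frobenius k p) (MvPowerSeries.X i)) ∈ _
      rw [frobenius_def, MvPowerSeries.map_X, MvPowerSeries.expand_X, sub_self]
      exact zero_mem _
    · rw [frobenius_def, mem_maximalIdeal, mem_nonunits_iff, MvPowerSeries.isUnit_iff_constantCoeff, map_pow,
        MvPowerSeries.constantCoeff_X, zero_pow (Fact.out : p.Prime).ne_zero]
      exact not_isUnit_zero
    · obtain ⟨c, hc⟩ := Ideal.mem_span_range_iff_exists_fun.mp (CohenStruct.mem_span_X_of_constantCoeff n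
        (s - MvPowerSeries.C (MvPowerSeries.constantCoeff s)) (by simp))
      refine ⟨MvPowerSeries.C (MvPowerSeries.constantCoeff s), c, ?_, by rw [hc]; ring⟩
      show frobenius _ p _ - MvPowerSeries.expand p (Fact.out : p.Prime).ne_zero (MvPowerSeries.map (frobenius k p) _) ∈ _
      rw [MvPowerSeries.map_C, MvPowerSeries.expand_C, frobenius_def, frobenius_def, ← map_pow, sub_self]
      exact zero_mem _
  rw [Ideal.mem_bot, sub_eq_zero, frobenius_def] at h
  rw [h]
  show MvPowerSeries.coeff (p • e) (MvPowerSeries.expand p (Fact.out : p.Prime).ne_zero (MvPowerSeries.map (frobenius k p) f)) = _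
  rw [MvPowerSeries.coeff_expand_smul, MvPowerSeries.coeff_map, frobenius_def]

/-- The Artin–Schreier operator has trivial kernel on polar parts. -/
theorem mem_span_pow_pair_of_eq (i j : Fin n) (hij : i ≠ j) (M : ℕ) (C G₁ G₂ : MvPowerSeries (Fin n) k)
    (h : C ^ p = G₁ * MvPowerSeries.X j ^ (M * p) - G₂ * MvPowerSeries.X i ^ (M * p) +
      MvPowerSeries.X i ^ (M * (p - 1)) * MvPowerSeries.X j ^ (M * (p - 1)) * C) :
    ∃ P Q, C = P * MvPowerSeries.X j ^ M - Q * MvPowerSeries.X i ^ M := by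
  classical
  have hp := (Fact.out : p.Prime)
  have hvan : ∀ e : Fin n →₀ ℕ, e i < M → e j < M → MvPowerSeries.coeff e C = 0 := by
    intro e hei hej
    induction hN : e i using Nat.strong_induction_on generalizing e with
    | _ N ih =>
      have hX : ∀ (l : Fin n) (G : MvPowerSeries (Fin n) k), e l < M →
          MvPowerSeries.coeff (p • e) (G * MvPowerSeries.X l ^ (M * p)) = 0 := fun l G hl => by
        rw [MvPowerSeries.X_pow_eq, MvPowerSeries.coeff_mul_monomial, if_neg]
        intro hle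
        have h1 := hle l
        rw [Finsupp.single_eq_same, Finsupp.smul_apply, smul_eq_mul, mul_comm p] at h1
        exact absurd (Nat.le_of_mul_le_mul_right h1 hp.pos) (by omega)
      have h0 := congrArg (MvPowerSeries.coeff (p • e)) h
      rw [mvPowerSeries_coeff_pow_smul, map_add, map_sub, hX j G₁ hej, hX i G₂ hei, sub_zero, zero_add,
        MvPowerSeries.X_pow_eq, MvPowerSeries.X_pow_eq, MvPowerSeries.monomial_mul_monomial, one_mul, mul_comm,
        MvPowerSeries.coeff_mul_monomial] at h0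
      have hz : (if (Finsupp.single i (M * (p - 1)) + Finsupp.single j (M * (p - 1))) ≤ p • e then
          MvPowerSeries.coeff (p • e - (Finsupp.single i (M * (p - 1)) + Finsupp.single j (M * (p - 1)))) C * 1
          else 0) = 0 := by
        split_ifs with hle
        · have hi := hle i
          have hj := hle j
          rw [Finsupp.add_apply, Finsupp.single_eq_same, Finsupp.single_eq_of_ne (a := j) (a' := i) hij,
            add_zero, Finsupp.smul_apply, smul_eq_mul] at hi
          rw [Finsupp.add_apply, Finsupp.single_eq_same, Finsupp.single_eq_of_ne (a := i) (a' := j) (Ne.symm hij),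
            zero_add, Finsupp.smul_apply, smul_eq_mul] at hj
          have hkey : ∀ a, a < M → p * a < M * (p - 1) + a := fun a ha => by
            have h1 : (p - 1) * a < (p - 1) * M := Nat.mul_lt_mul_of_pos_left ha (by have := hp.two_le; omega)
            have h2 : p * a = (p - 1) * a + a := by
              conv_lhs => rw [show p = p - 1 + 1 by have := hp.two_le; omega, add_mul, one_mul]
            rw [mul_comm M]
            omega
          have e1 := hkey _ hei
          have e2 := hkey _ hej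
          let e' := p • e - (Finsupp.single i (M * (p - 1)) + Finsupp.single j (M * (p - 1)))
          have hi' : e' i = p * e i - M * (p - 1) := by simp [e', hij]
          have hj' : e' j = p * e j - M * (p - 1) := by simp [e', Ne.symm hij]
          rw [ih (e' i) (by omega) e' (by omega) (by omega) rfl, zero_mul]
        · rfl
      rw [hz] at h0
      exact (pow_eq_zero_iff hp.ne_zero).mp h0
  let C₁ : MvPowerSeries (Fin n) k := fun e => if M ≤ e i then MvPowerSeries.coeff e C else 0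
  have hC₁ : ∀ e, MvPowerSeries.coeff e C₁ = if M ≤ e i then MvPowerSeries.coeff e C else 0 := fun e => rfl
  obtain ⟨Q, hQ⟩ : (MvPowerSeries.X i : MvPowerSeries (Fin n) k) ^ M ∣ C₁ :=
    MvPowerSeries.X_pow_dvd_iff.mpr fun e he => by rw [hC₁, if_neg (by omega)]
  obtain ⟨P, hP⟩ : (MvPowerSeries.X j : MvPowerSeries (Fin n) k) ^ M ∣ C - C₁ :=
    MvPowerSeries.X_pow_dvd_iff.mpr fun e he => by
      rw [map_sub, hC₁]
      split_ifs with hle
      · exact sub_self _
      · rw [sub_zero]; exact hvan e (by omega) he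
  refine ⟨P, -Q, ?_⟩
  rw [mul_comm P, ← hP, neg_mul, sub_neg_eq_add, mul_comm Q, ← hQ, sub_add_cancel]

end series

section trace
variable {A : Type u} [CommRing A] {G : Type w} [Group G] [Fintype G] [MulSemiringAction G A]

/-- The trace onto the invariants. -/
noncomputable def trG : A →ₗ[FixedPoints.subring A G] FixedPoints.subring A G where
  toFun a := ⟨∑ σ : G, σ • a, fun ρ => by
    rw [Finset.smul_sum]
    simp only [← mul_smul]
    exact Equiv.sum_comp (Equiv.mulLeft ρ) fun σ : G => σ • a⟩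
  map_add' a b := Subtype.ext (by simp [smul_add, Finset.sum_add_distrib])
  map_smul' r a := Subtype.ext (by
    have hr : ∀ σ : G, σ • (r : A) = r := r.2
    simp [Subring.smul_def, smul_mul', hr, Finset.mul_sum])

variable (p : ℕ) [CharP A p] (g : G) (hgp : g ^ p = 1) (hg : ∀ σ : G, ∃! l : Fin p, g ^ (l : ℕ) = σ)

include hgp hg in
theorem exists_smul_eq_add_trG (θ : A) : ∃ W : A, g • W = W + (trG (G := G) θ : A) := by
  refine ⟨-∑ l ∈ Finset.range p, (l : A) * g ^ l • θ, ?_⟩
  have hsum : (trG (G := G) θ : A) = ∑ l ∈ Finset.range p, g ^ l • θ := by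
    rw [← Fin.sum_univ_eq_sum_range (fun l => g ^ l • θ)]
    refine (Fintype.sum_bijective (fun l : Fin p => g ^ (l : ℕ)) ?_ _ _ fun l => rfl).symm
    exact ⟨fun l l' h => (hg (g ^ (l : ℕ))).unique rfl h.symm, fun σ => (hg σ).exists⟩
  have hnat : ∀ l : ℕ, g • (l : A) = l := fun l => map_natCast (MulSemiringAction.toRingHom G A g) l
  have h1 : g • ∑ l ∈ Finset.range p, (l : A) * g ^ l • θ =
      (∑ l ∈ Finset.range (p + 1), (l : A) * g ^ l • θ) - ∑ l ∈ Finset.range (p + 1), g ^ l • θ + θ := by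
    rw [Finset.sum_range_succ', Finset.sum_range_succ' (fun l => g ^ l • θ), Finset.smul_sum]
    simp only [Nat.cast_zero, zero_mul, add_zero, pow_zero, one_smul, Nat.cast_succ, add_mul, one_mul,
      Finset.sum_add_distrib, smul_mul', hnat, ← mul_smul, ← pow_succ']
    ring
  rw [smul_neg, h1, Finset.sum_range_succ, Finset.sum_range_succ (fun l => g ^ l • θ), CharP.cast_eq_zero, zero_mul,
    add_zero, hgp, one_smul, hsum]
  ring

end trace

variable {A : Type u} [CommRing A] [IsRegularLocalRing A] [IsAdicComplete (maximalIdeal A) A] {k : Type v} [Field k]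
  [Algebra k A] (hk : Function.Surjective (residue A ∘ algebraMap k A)) {G : Type w} [Group G] [Fintype G]
  [MulSemiringAction G A] (hGk : ∀ (σ : G) (c : k), σ • algebraMap k A c = algebraMap k A c)
  (hram : ∀ P : Ideal A, P.IsPrime → P ≠ maximalIdeal A → P.inertia G = ⊥)

include hk hGk hram in
theorem exists_trG_eq_pow (y : A) (hy : y ∈ maximalIdeal A) (hfix : ∀ σ : G, σ • y = y) :
    ∃ (M : ℕ) (θ : A), (trG (G := G) θ : A) = y ^ M := by
  classical
  obtain ⟨h1, h2, h3, -⟩ := fixed_local_finite hk hGk (G := G)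
  haveI := h1
  haveI := h2
  haveI : Algebra.IsIntegral (FixedPoints.subring A G) A := Algebra.IsIntegral.of_finite _ _
  haveI := DepthLib.isDomain_of_isRegularLocalRing A
  let T : Ideal (FixedPoints.subring A G) := LinearMap.range (trG (A := A) (G := G))
  have hrad : (⟨y, hfix⟩ : FixedPoints.subring A G) ∈ T.radical := by
    rw [Ideal.radical_eq_sInf, Submodule.mem_sInf]
    rintro P ⟨hTP, hPp⟩
    haveI := hPp
    obtain ⟨Q, hQ, hQP⟩ := Ideal.exists_ideal_over_prime_of_isIntegral_of_isDomain (S := A) P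
      (by rw [(RingHom.injective_iff_ker_eq_bot _).mp Subtype.val_injective]; exact bot_le)
    haveI := hQ
    have hQm : Q = maximalIdeal A := by
      by_contra hne
      have hli := linearIndependent_conj Q (hram Q hQ hne)
      refine one_ne_zero (Fintype.linearIndependent_iff.mp hli (fun _ => 1) (_root_.funext fun a => ?_) (1 : G))
      simp only [Finset.sum_apply, one_smul, Pi.zero_apply]
      rw [← map_sum, IsScalarTower.algebraMap_apply A (A ⧸ Q), Ideal.Quotient.algebraMap_eq,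
        Ideal.Quotient.eq_zero_iff_mem.mpr (show (∑ σ : G, σ • a) ∈ Q from by
          have h : trG (G := G) a ∈ Q.comap (algebraMap (FixedPoints.subring A G) A) := by
            rw [hQP]; exact hTP ⟨a, rfl⟩
          exact h), map_zero]
    rw [← hQP, hQm]
    exact hy
  obtain ⟨M, hM⟩ := hrad
  obtain ⟨θ, hθ⟩ := hM
  exact ⟨M, θ, congrArg Subtype.val hθ⟩

variable (p : ℕ) [Fact p.Prime] [CharP A p]

include hk hGk hram in
/-- Some invariant has no iterated `p`-th power in the norm subring. -/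
theorem exists_invariant_not_mem_range (hcard : Fintype.card G = p) (n : ℕ) (hn : ringKrullDim A = n) (h2 : 2 ≤ n)
    (u : Fin n → A) (hu : ∀ τ : Fin n → G, Ideal.span (Set.range fun i => τ i • u i) = maximalIdeal A)
    (φ : MvPowerSeries (Fin n) k →ₐ[k] A) (hφ : ∀ i, φ (MvPowerSeries.X i) = ∏ σ : G, σ • u i) :
    ∃ y : A, (∀ σ : G, σ • y = y) ∧ ∀ e : ℕ, y ^ p ^ e ∉ Set.range φ := by
  classical
  by_contra hall
  push Not at hall
  have hp := (Fact.out : p.Prime)
  haveI := DepthLib.isDomain_of_isRegularLocalRing A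
  haveI : CharP k p := (RingHom.charP_iff_charP (algebraMap k A) p).mpr inferInstance
  have hfixX : ∀ (σ : G) (i : Fin n), σ • φ (MvPowerSeries.X i) = φ (MvPowerSeries.X i) := fun σ i => by
    rw [hφ, Finset.smul_prod']
    simp only [← mul_smul]
    exact Equiv.prod_comp (Equiv.mulLeft σ) fun τ : G => τ • u i
  have hum : ∀ i, u i ∈ maximalIdeal A := fun i => by
    rw [← hu fun _ => 1]
    exact Ideal.subset_span ⟨i, one_smul G (u i)⟩
  have hXm : ∀ i, φ (MvPowerSeries.X i) ∈ maximalIdeal A := fun i => by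
    rw [hφ]
    exact Ideal.mem_of_dvd _ (Finset.dvd_prod_of_mem (fun σ : G => σ • u i) (Finset.mem_univ 1))
      (by rw [one_smul]; exact hum i)
  have hrad : (Ideal.span (Set.range fun i => φ (MvPowerSeries.X i))).radical = maximalIdeal A := by
    refine le_antisymm ((maximalIdeal.isMaximal A).isPrime.radical_le_iff.mpr (Ideal.span_le.mpr ?_)) ?_
    · rintro _ ⟨i, rfl⟩; exact hXm i
    · simp only [hφ]
      exact le_radical_span_prod u (fun τ => (hu τ).ge.trans Ideal.le_radical) fun _ => Finset.univ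
  obtain ⟨hfree, hfin, -⟩ := param_free φ hn hk hrad fun i => rfl
  have hinj := param_injective φ hn hk hrad fun i => rfl
  letI := φ.toRingHom.toAlgebra
  haveI := hfree
  haveI := hfin
  let i₁ : Fin n := ⟨0, by omega⟩
  let i₂ : Fin n := ⟨1, by omega⟩
  have h12 : i₁ ≠ i₂ := by simp [i₁, i₂]
  -- generator
  haveI : Nontrivial G := Fintype.one_lt_card_iff_nontrivial.mp (hcard ▸ hp.one_lt)
  obtain ⟨g, hg1⟩ := exists_ne (1 : G)
  have hord : orderOf g = p :=
    (hp.eq_one_or_self_of_dvd _ (hcard ▸ orderOf_dvd_card)).resolve_left fun h => hg1 (orderOf_eq_one_iff.mp h)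
  have hgp : g ^ p = 1 := hord ▸ pow_orderOf_eq_one g
  have hbij : Function.Bijective fun l : Fin p => g ^ (l : ℕ) := by
    refine (Fintype.bijective_iff_injective_and_card _).mpr ⟨fun l l' h => Fin.ext ?_, by rw [Fintype.card_fin, hcard]⟩
    exact pow_injOn_Iio_orderOf (hord ▸ l.2) (hord ▸ l'.2) h
  have hg : ∀ σ : G, ∃! l : Fin p, g ^ (l : ℕ) = σ := fun σ => hbij.existsUnique σ
  obtain ⟨M₁, θ₁, hθ₁⟩ := exists_trG_eq_pow hk hGk hram _ (hXm i₁) fun σ => hfixX σ i₁
  obtain ⟨M₂, θ₂, hθ₂⟩ := exists_trG_eq_pow hk hGk hram _ (hXm i₂) fun σ => hfixX σ i₂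
  obtain ⟨V₁, hV₁⟩ := exists_smul_eq_add_trG p g hgp hg θ₁
  obtain ⟨V₂, hV₂⟩ := exists_smul_eq_add_trG p g hgp hg θ₂
  rw [hθ₁] at hV₁
  rw [hθ₂] at hV₂
  set x₁ := φ (MvPowerSeries.X i₁) with hx₁
  set x₂ := φ (MvPowerSeries.X i₂) with hx₂
  let M₀ := M₁ + M₂
  let W₁ := x₁ ^ M₂ * V₁
  let W₂ := x₂ ^ M₁ * V₂
  have hW₁ : g • W₁ = W₁ + x₁ ^ M₀ := by
    rw [smul_mul', smul_pow', hfixX, hV₁, mul_add, ← pow_add, add_comm M₂]
  have hW₂ : g • W₂ = W₂ + x₂ ^ M₀ := by
    rw [smul_mul', smul_pow', hfixX, hV₂, mul_add, ← pow_add]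
  clear_value W₁ W₂
  have hall' : ∀ y : A, g • y = y → ∀ σ : G, σ • y = y := fun y hy σ => by
    obtain ⟨l, rfl⟩ := hbij.2 σ
    show g ^ (l : ℕ) • y = y
    induction (l : ℕ) with
    | zero => rw [pow_zero, one_smul]
    | succ l ih => rw [pow_succ, mul_smul, hy, ih]
  have key : ∀ (x W : A), g • x = x → g • W = W + x ^ M₀ →
      g • (W ^ p - x ^ (M₀ * (p - 1)) * W) = W ^ p - x ^ (M₀ * (p - 1)) * W := fun x W hx hW => by
    rw [smul_sub, smul_pow', smul_mul', smul_pow', hx, hW, add_pow_char, ← pow_mul,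
      show M₀ * p = M₀ * (p - 1) + M₀ by conv_lhs => rw [show p = p - 1 + 1 by have := hp.two_le; omega, mul_add, mul_one],
      pow_add]
    ring
  have hfix₀ : g • (W₁ * x₂ ^ M₀ - W₂ * x₁ ^ M₀) = W₁ * x₂ ^ M₀ - W₂ * x₁ ^ M₀ := by
    rw [smul_sub, smul_mul', smul_mul', smul_pow', smul_pow', hfixX, hfixX, hW₁, hW₂]
    ring
  obtain ⟨e₁, he₁⟩ := hall _ (hall' _ (key x₁ W₁ (hfixX g i₁) hW₁))
  obtain ⟨e₂, he₂⟩ := hall _ (hall' _ (key x₂ W₂ (hfixX g i₂) hW₂))
  obtain ⟨e₃, he₃⟩ := hall _ (hall' _ hfix₀)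
  let E := e₁ + e₂ + e₃
  have lift : ∀ (y : A) (e : ℕ), e ≤ E → y ^ p ^ e ∈ Set.range φ → y ^ p ^ E ∈ Set.range φ := fun y e hle ⟨r, hr⟩ => by
    obtain ⟨c, hc⟩ := Nat.exists_eq_add_of_le hle
    exact ⟨r ^ p ^ c, by rw [map_pow, hr, ← pow_mul, ← pow_add, hc]⟩
  obtain ⟨G₁, hG₁⟩ := lift _ e₁ (by omega) he₁
  obtain ⟨G₂, hG₂⟩ := lift _ e₂ (by omega) he₂
  obtain ⟨C, hC⟩ := lift _ e₃ (by omega) he₃
  let M := M₀ * p ^ E
  have hpw : ∀ a b : A, (a - b) ^ p ^ E = a ^ p ^ E - b ^ p ^ E := fun a b => sub_pow_char_pow a b E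
  rw [hpw, mul_pow] at hG₁ hG₂
  rw [hpw, mul_pow, mul_pow, ← pow_mul x₂, ← pow_mul x₁] at hC
  rw [← pow_mul W₁, mul_comm p, pow_mul W₁, ← pow_mul x₁, mul_right_comm M₀] at hG₁
  rw [← pow_mul W₂, mul_comm p, pow_mul W₂, ← pow_mul x₂, mul_right_comm M₀] at hG₂
  set U₁ := W₁ ^ p ^ E with hU₁
  set U₂ := W₂ ^ p ^ E with hU₂
  have heq : C ^ p = G₁ * MvPowerSeries.X i₂ ^ (M * p) - G₂ * MvPowerSeries.X i₁ ^ (M * p) +
      MvPowerSeries.X i₁ ^ (M * (p - 1)) * MvPowerSeries.X i₂ ^ (M * (p - 1)) * C := by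
    apply hinj
    simp only [map_add, map_sub, map_mul, map_pow, hC, hG₁, hG₂, ← hx₁, ← hx₂]
    rw [sub_pow_char, mul_pow, mul_pow, ← pow_mul x₁ M p, ← pow_mul x₂ M p,
      show M * p = M * (p - 1) + M by conv_lhs => rw [show p = p - 1 + 1 by have := hp.two_le; omega, mul_add, mul_one],
      pow_add, pow_add]
    ring
  obtain ⟨P, Q, hPQ⟩ := mem_span_pow_pair_of_eq p i₁ i₂ h12 M C G₁ G₂ heq
  have h0 : (MvPowerSeries.X i₂ ^ M : MvPowerSeries (Fin n) k) • (U₁ - φ P) =
      (MvPowerSeries.X i₁ ^ M : MvPowerSeries (Fin n) k) • (U₂ - φ Q) := by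
    rw [Algebra.smul_def, Algebra.smul_def]
    show φ (MvPowerSeries.X i₂ ^ M) * (U₁ - φ P) = φ (MvPowerSeries.X i₁ ^ M) * (U₂ - φ Q)
    have h1 := congrArg φ hPQ
    rw [hC, map_sub, map_mul, map_mul] at h1
    rw [map_pow, map_pow] at h1 ⊢
    rw [← hx₁, ← hx₂] at h1 ⊢
    linear_combination h1
  -- divide
  let B := Module.Free.chooseBasis (MvPowerSeries (Fin n) k) A
  have hdiv : ∀ l, (MvPowerSeries.X i₁ : MvPowerSeries (Fin n) k) ^ M ∣ B.repr (U₁ - φ P) l := fun l => by
    have h1 := congrArg (fun v => B.repr v l) h0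
    simp only [map_smul, Finsupp.smul_apply, smul_eq_mul] at h1
    refine MvPowerSeries.X_pow_dvd_iff.mpr fun m hm => ?_
    have h2 : MvPowerSeries.coeff (m + Finsupp.single i₂ M) (MvPowerSeries.X i₂ ^ M * B.repr (U₁ - φ P) l) = 0 := by
      rw [h1]
      refine (MvPowerSeries.X_pow_dvd_iff.mp (dvd_mul_right (MvPowerSeries.X i₁ ^ M) _)) _ ?_
      simpa [Finsupp.single_eq_of_ne (a := i₂) (a' := i₁) h12] using hm
    rwa [mul_comm, MvPowerSeries.X_pow_eq, MvPowerSeries.coeff_mul_monomial, if_pos le_add_self, mul_one,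
      add_tsub_cancel_right] at h2
  choose c hc using hdiv
  have hz : U₁ - φ P = x₁ ^ M * ∑ l, c l • B l := by
    rw [Finset.mul_sum]
    conv_lhs => rw [← B.sum_repr (U₁ - φ P)]
    refine Finset.sum_congr rfl fun l _ => ?_
    rw [hc l, Algebra.smul_def, Algebra.smul_def]
    show φ (MvPowerSeries.X i₁ ^ M * c l) * _ = x₁ ^ M * (φ (c l) * _)
    rw [map_mul, map_pow, mul_assoc]
  have hfixφ : ∀ r, g • φ r = φ r := fun r => by
    rw [← sub_eq_zero, ← Ideal.mem_bot]
    refine sub_mem_of_decomp ((MulSemiringAction.toRingHom G A g).comp φ.toRingHom) φ.toRingHom ⊥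
      (fun i => MvPowerSeries.X i) (fun i => ?_) (fun i => ?_) (fun s => ?_) r
    · show g • φ (MvPowerSeries.X i) - φ (MvPowerSeries.X i) ∈ (⊥ : Ideal A)
      rw [hfixX, sub_self]
      exact zero_mem _
    · show g • φ (MvPowerSeries.X i) ∈ maximalIdeal A
      rw [hfixX]
      exact hXm i
    · obtain ⟨d, hd⟩ := Ideal.mem_span_range_iff_exists_fun.mp (CohenStruct.mem_span_X_of_constantCoeff n
        (s - MvPowerSeries.C (MvPowerSeries.constantCoeff s)) (by simp))
      refine ⟨MvPowerSeries.C (MvPowerSeries.constantCoeff s), d, ?_, by rw [hd]; ring⟩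
      show g • φ (algebraMap k (MvPowerSeries (Fin n) k) (MvPowerSeries.constantCoeff s)) -
        φ (algebraMap k (MvPowerSeries (Fin n) k) (MvPowerSeries.constantCoeff s)) ∈ (⊥ : Ideal A)
      rw [φ.commutes, hGk, sub_self]
      exact zero_mem _
  set z := ∑ l, c l • B l
  have hgU : g • U₁ = U₁ + x₁ ^ M := by
    rw [hU₁, smul_pow', hW₁, add_pow_char_pow, ← pow_mul]
  have hx₁0 : x₁ ^ M ≠ 0 := pow_ne_zero _ ((map_ne_zero_iff _ hinj).mpr (fun h => by
    have := congrArg (MvPowerSeries.coeff (Finsupp.single i₁ 1)) h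
    simp [MvPowerSeries.coeff_X] at this))
  have hgz : x₁ ^ M * (g • z - z) = x₁ ^ M * 1 := by
    have h1 := congrArg (g • ·) hz
    simp only [smul_sub, smul_mul', smul_pow', hfixφ, hgU] at h1
    rw [hfixX] at h1
    linear_combination -h1 + hz
  have h1 : (1 : A) ∈ maximalIdeal A := by
    rw [← mul_left_cancel₀ hx₁0 hgz]
    exact smul_sub_mem_maximalIdeal hk hGk g z
  exact (maximalIdeal.isMaximal A).ne_top ((Ideal.eq_top_iff_one _).mpr h1)

end Groth.Agent.WildQuot
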