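import Groth.Agent.WildQuot.NotInsep
import Groth.Agent.WildQuot.Purity
import Groth.Agent.AuslBuchs.Ufd

/-!
# Automorphisms of the invariants extend
-/

set_option autoImplicit false
set_option linter.unusedSectionVars false

universe u v w

namespace Groth.Agent.WildQuot

open IsLocalRing

variable {A : Type u} [CommRing A] [IsRegularLocalRing A] {k : Type v} [Field k] [Algebra k A]
  {G : Type w} [Group G] [Fintype G] [MulSemiringAction G A]

local notation "𝔽" => FixedPoints.subring A G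

theorem isUnit_fixed_iff (b : 𝔽) : IsUnit b ↔ IsUnit (b : A) := by
  refine ⟨fun h => h.map (𝔽).subtype, fun h => ?_⟩
  obtain ⟨c, hc⟩ := h.exists_right_inv
  have hcF : c ∈ FixedPoints.subring A G := fun σ => h.mul_left_cancel (by
    have h1 := congrArg (σ • ·) hc
    simp only [smul_mul', smul_one, b.2 σ] at h1
    rw [h1, hc])
  exact IsUnit.of_mul_eq_one (⟨c, hcF⟩ : 𝔽) (Subtype.ext hc)

theorem coe_mem_maximalIdeal_iff (φ : 𝔽 ≃+* 𝔽) (b : 𝔽) :
    ((φ b : 𝔽) : A) ∈ maximalIdeal A ↔ (b : A) ∈ maximalIdeal A := by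
  simp only [mem_maximalIdeal, mem_nonunits_iff, ← isUnit_fixed_iff, MulEquiv.isUnit_map]

variable [IsAdicComplete (maximalIdeal A) A] (hk : Function.Surjective (residue A ∘ algebraMap k A))
  (hGk : ∀ (σ : G) (c : k), σ • algebraMap k A c = algebraMap k A c) (hdim : 2 ≤ ringKrullDim A)

include hk hGk hdim in
theorem exists_coprime_pair (φ : 𝔽 ≃+* 𝔽) :
    ∃ x₁ x₂ : 𝔽, (x₁ : A) ∈ maximalIdeal A ∧ (x₂ : A) ∈ maximalIdeal A ∧ x₁ ≠ 0 ∧
      IsRelPrime (x₁ : A) (x₂ : A) ∧ IsRelPrime ((φ x₁ : 𝔽) : A) ((φ x₂ : 𝔽) : A) := by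
  classical
  haveI := DepthLib.isDomain_of_isRegularLocalRing A
  haveI := AuslBuchs.uniqueFactorizationMonoid_of_isRegularLocalRing A
  obtain ⟨-, h2, h3, -⟩ := fixed_local_finite hk hGk (G := G)
  haveI := h2
  haveI := h3
  haveI : Algebra.IsIntegral 𝔽 A := Algebra.IsIntegral.of_finite _ _
  have hm0 : (⊥ : Ideal A) ≠ maximalIdeal A := bot_ne_maximalIdeal hdim
  obtain ⟨c, hc, hc0⟩ := Submodule.exists_mem_ne_zero_of_ne_bot hm0.symm
  let x₁ : 𝔽 := ⟨∏ σ : G, σ • c, fun τ => by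
    rw [Finset.smul_prod']
    simp only [← mul_smul]
    exact Equiv.prod_comp (Equiv.mulLeft τ) fun σ : G => σ • c⟩
  have hx₁m : (x₁ : A) ∈ maximalIdeal A :=
    Ideal.mem_of_dvd _ (Finset.dvd_prod_of_mem (fun σ : G => σ • c) (Finset.mem_univ 1)) (by rwa [one_smul])
  have hx₁0 : (x₁ : A) ≠ 0 := Finset.prod_ne_zero_iff.mpr fun σ _ h => hc0 (by simpa using congrArg (σ⁻¹ • ·) h)
  have hφx₁0 : ((φ x₁ : 𝔽) : A) ≠ 0 := fun h => hx₁0 (congrArg Subtype.val (φ.map_eq_zero_iff.mp (Subtype.ext h)))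
  let mF : Ideal 𝔽 := (maximalIdeal A).comap (algebraMap 𝔽 A)
  haveI hmF : mF.IsMaximal := Ideal.isMaximal_comap_of_isIntegral_of_isMaximal _
  let S : Finset A := (UniqueFactorizationMonoid.factors (x₁ : A)).toFinset
  let S' : Finset A := (UniqueFactorizationMonoid.factors ((φ x₁ : 𝔽) : A)).toFinset
  let f : A ⊕ A → Ideal 𝔽 := fun q => q.elim (fun q => (Ideal.span {q}).comap (algebraMap 𝔽 A))
    fun q => ((Ideal.span {q}).comap (algebraMap 𝔽 A)).comap φ
  have hne : ∀ q : A, Prime q → ¬ mF ≤ (Ideal.span {q}).comap (algebraMap 𝔽 A) := fun q hq hle => by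
    haveI := (Ideal.span_singleton_prime hq.ne_zero).mpr hq
    have hmax : (Ideal.span {q}).IsMaximal := by
      refine Ideal.isMaximal_of_isIntegral_of_isMaximal_comap (R := 𝔽) _ ?_
      rw [← hmF.eq_of_le (Ideal.comap_ne_top _ (Ideal.IsPrime.ne_top')) hle]
      exact hmF
    have hmin : maximalIdeal A ∈ (Ideal.span {q}).minimalPrimes := by
      refine ⟨⟨inferInstance, (eq_maximalIdeal hmax).le⟩, fun Q hQ _ => ?_⟩
      rw [← eq_maximalIdeal hmax]
      exact hQ.2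
    have h := Ideal.height_le_one_of_isPrincipal_of_mem_minimalPrimes _ _ hmin
    rw [← maximalIdeal_height_eq_ringKrullDim] at hdim
    exact absurd (hdim.trans ((WithBot.coe_le_coe (b := (1 : ℕ∞))).mpr h)) (by norm_cast)
  have hnot : ¬ (mF : Set 𝔽) ⊆ ⋃ i ∈ (↑(S.disjSum S') : Set (A ⊕ A)), f i := fun hsub => by
    have hpr : ∀ i ∈ S.disjSum S', (f i).IsPrime := fun i hi => by
      rcases Finset.mem_disjSum.mp hi with ⟨q, hq, rfl⟩ | ⟨q, hq, rfl⟩
      · haveI := (Ideal.span_singleton_prime (UniqueFactorizationMonoid.prime_of_factor q (Multiset.mem_toFinset.mp hq)).ne_zero).mpr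
          (UniqueFactorizationMonoid.prime_of_factor q (Multiset.mem_toFinset.mp hq))
        exact Ideal.IsPrime.comap _
      · haveI := (Ideal.span_singleton_prime (UniqueFactorizationMonoid.prime_of_factor q (Multiset.mem_toFinset.mp hq)).ne_zero).mpr
          (UniqueFactorizationMonoid.prime_of_factor q (Multiset.mem_toFinset.mp hq))
        exact Ideal.IsPrime.comap _
    obtain ⟨i, hi, hle⟩ := (Ideal.subset_union_prime (Sum.inl 0) (Sum.inl 0) fun i hi _ _ => hpr i hi).mp hsub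
    rcases Finset.mem_disjSum.mp hi with ⟨q, hq, rfl⟩ | ⟨q, hq, rfl⟩
    · exact hne q (UniqueFactorizationMonoid.prime_of_factor q (Multiset.mem_toFinset.mp hq)) hle
    · refine hne q (UniqueFactorizationMonoid.prime_of_factor q (Multiset.mem_toFinset.mp hq)) fun b hb => ?_
      have h1 := hle (show φ.symm b ∈ mF from (coe_mem_maximalIdeal_iff φ.symm b).mpr hb)
      simp only [f, Sum.elim_inr, Ideal.mem_comap, RingEquiv.apply_symm_apply] at h1
      exact h1
  obtain ⟨x₂, hx₂, hx₂n⟩ := Set.not_subset.mp hnot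
  refine ⟨x₁, x₂, hx₁m, hx₂, fun h => hx₁0 (congrArg Subtype.val h), ?_, ?_⟩
  · refine WfDvdMonoid.isRelPrime_of_no_irreducible_factors (fun h => hx₁0 h.1) fun z hz h1 h2 => hx₂n ?_
    obtain ⟨q, hq, hzq⟩ := UniqueFactorizationMonoid.exists_mem_factors_of_dvd hx₁0 hz h1
    exact Set.mem_biUnion (Finset.mem_coe.mpr (Finset.inl_mem_disjSum.mpr (Multiset.mem_toFinset.mpr hq)))
      (Ideal.mem_span_singleton.mpr (hzq.symm.dvd.trans h2))
  · refine WfDvdMonoid.isRelPrime_of_no_irreducible_factors (fun h => hφx₁0 h.1) fun z hz h1 h2 => hx₂n ?_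
    obtain ⟨q, hq, hzq⟩ := UniqueFactorizationMonoid.exists_mem_factors_of_dvd hφx₁0 hz h1
    exact Set.mem_biUnion (Finset.mem_coe.mpr (Finset.inr_mem_disjSum.mpr (Multiset.mem_toFinset.mpr hq)))
      (Ideal.mem_span_singleton.mpr (hzq.symm.dvd.trans h2))

variable (hram : ∀ P : Ideal A, P.IsPrime → P ≠ maximalIdeal A → P.inertia G = ⊥)
  (p : ℕ) [Fact p.Prime] [CharP A p] (hcard : Fintype.card G = p)

include hk hGk hdim hram hcard in
/-- The invariants and one Artin–Schreier element generate up to a denominator. -/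
theorem exists_artinSchreier_generator (φ : 𝔽 ≃+* 𝔽)
    (hkp : ∀ (L : Type v) [Field L] [Algebra k L], IsGalois k L → Module.finrank k L ≠ p) :
    ∃ (W : A) (a g₀ d : 𝔽), a ≠ 0 ∧ d ≠ 0 ∧ W ^ p = (a : A) ^ (p - 1) * W + g₀ ∧
      (∀ j : ℕ, ∃ σ : G, σ • W = W + j * a) ∧
      (∀ t : A, ∃ c : Fin p → 𝔽, (d : A) * t = ∑ i, (c i : A) * W ^ (i : ℕ)) ∧
      ∃ V : A, V ^ p = ((φ a : 𝔽) : A) ^ (p - 1) * V + (φ g₀ : 𝔽) := by
  classical
  have hp := (Fact.out : p.Prime)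
  haveI := DepthLib.isDomain_of_isRegularLocalRing A
  haveI := AuslBuchs.uniqueFactorizationMonoid_of_isRegularLocalRing A
  obtain ⟨x₁, x₂, hx₁, hx₂, hx₁0, hrel, hrelφ⟩ := exists_coprime_pair hk hGk hdim φ
  haveI : Nontrivial G := Fintype.one_lt_card_iff_nontrivial.mp (hcard ▸ hp.one_lt)
  obtain ⟨g, hg1⟩ := exists_ne (1 : G)
  have hord : orderOf g = p :=
    (hp.eq_one_or_self_of_dvd _ (hcard ▸ orderOf_dvd_card)).resolve_left fun h => hg1 (orderOf_eq_one_iff.mp h)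
  have hgp : g ^ p = 1 := hord ▸ pow_orderOf_eq_one g
  have hbij : Function.Bijective fun l : Fin p => g ^ (l : ℕ) := by
    refine (Fintype.bijective_iff_injective_and_card _).mpr ⟨fun l l' h => Fin.ext ?_, by rw [Fintype.card_fin, hcard]⟩
    exact pow_injOn_Iio_orderOf (hord ▸ l.2) (hord ▸ l'.2) h
  have hg : ∀ σ : G, ∃! l : Fin p, g ^ (l : ℕ) = σ := fun σ => hbij.existsUnique σ
  obtain ⟨M₁, θ₁, hθ₁⟩ := exists_trG_eq_pow hk hGk hram _ hx₁ x₁.2
  obtain ⟨M₂, θ₂, hθ₂⟩ := exists_trG_eq_pow hk hGk hram _ hx₂ x₂.2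
  obtain ⟨V₁, hV₁⟩ := exists_smul_eq_add_trG p g hgp hg θ₁
  obtain ⟨V₂, hV₂⟩ := exists_smul_eq_add_trG p g hgp hg θ₂
  rw [hθ₁] at hV₁
  rw [hθ₂] at hV₂
  let M := M₁ + M₂
  let W₁ := (x₁ : A) ^ M₂ * V₁
  let W₂ := (x₂ : A) ^ M₁ * V₂
  have hW₁ : g • W₁ = W₁ + (x₁ : A) ^ M := by
    rw [smul_mul', smul_pow', x₁.2 g, hV₁, mul_add, ← pow_add, add_comm M₂]
  have hW₂ : g • W₂ = W₂ + (x₂ : A) ^ M := by
    rw [smul_mul', smul_pow', x₂.2 g, hV₂, mul_add, ← pow_add]
  clear_value W₁ W₂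
  have hall : ∀ y : A, g • y = y → y ∈ FixedPoints.subring A G := fun y hy σ => by
    obtain ⟨l, rfl⟩ := hbij.2 σ
    show g ^ (l : ℕ) • y = y
    induction (l : ℕ) with
    | zero => rw [pow_zero, one_smul]
    | succ l ih => rw [pow_succ, mul_smul, hy, ih]
  have key : ∀ (x : 𝔽) (W : A), g • W = W + (x : A) ^ M →
      W ^ p - ((x ^ M : 𝔽) : A) ^ (p - 1) * W ∈ FixedPoints.subring A G := fun x W hW => hall _ (by
    have hx := (x ^ M).2 g
    rw [smul_sub, smul_pow', smul_mul', smul_pow', hx, hW, add_pow_char, SubmonoidClass.coe_pow, mul_add,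
      pow_sub_one_mul hp.ne_zero ((x : A) ^ M)]
    ring)
  have hC : W₁ * (x₂ : A) ^ M - W₂ * (x₁ : A) ^ M ∈ FixedPoints.subring A G := hall _ (by
    rw [smul_sub, smul_mul', smul_mul', smul_pow', smul_pow', x₁.2 g, x₂.2 g, hW₁, hW₂]
    ring)
  let G₁ : 𝔽 := ⟨_, key x₁ W₁ hW₁⟩
  let G₂ : 𝔽 := ⟨_, key x₂ W₂ hW₂⟩
  let C : 𝔽 := ⟨_, hC⟩
  have heq : C ^ p = G₁ * (x₂ ^ M) ^ p - G₂ * (x₁ ^ M) ^ p + (x₁ ^ M) ^ (p - 1) * (x₂ ^ M) ^ (p - 1) * C := by
    apply Subtype.ext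
    simp only [SubmonoidClass.coe_pow, AddSubgroupClass.coe_sub, Subring.coe_mul, Subring.coe_add, C, G₁, G₂]
    rw [sub_pow_char, mul_pow, mul_pow, ← pow_sub_one_mul hp.ne_zero ((x₁ : A) ^ M),
      ← pow_sub_one_mul hp.ne_zero ((x₂ : A) ^ M)]
    ring
  have heqφ := congrArg (fun z => ((φ z : 𝔽) : A)) heq
  simp only [map_add, map_sub, map_mul, map_pow, SubmonoidClass.coe_pow, AddSubgroupClass.coe_sub, Subring.coe_mul,
    Subring.coe_add] at heqφ
  set y₁ : A := ((φ x₁ : 𝔽) : A) ^ M with hy₁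
  set y₂ : A := ((φ x₂ : 𝔽) : A) ^ M with hy₂
  have hy₁0 : y₁ ≠ 0 := pow_ne_zero _ fun h => hx₁0 (φ.map_eq_zero_iff.mp (Subtype.ext h))
  obtain ⟨P, Q, hPQ⟩ := mem_span_pair_of_frobenius_eq p hy₁0 _ _ _ heqφ
  have hD : (((φ G₁ : 𝔽) : A) - P ^ p + y₁ ^ (p - 1) * P) * y₂ ^ p =
      (((φ G₂ : 𝔽) : A) - Q ^ p + y₂ ^ (p - 1) * Q) * y₁ ^ p := by
    rw [hPQ, sub_pow_char, mul_pow, mul_pow] at heqφ
    rw [← pow_sub_one_mul hp.ne_zero y₁, ← pow_sub_one_mul hp.ne_zero y₂] at heqφ ⊢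
    linear_combination -heqφ
  have hcop : IsRelPrime (y₁ ^ p) (y₂ ^ p) := hrelφ.pow.pow
  obtain ⟨h, hh⟩ := hcop.dvd_of_dvd_mul_right (Dvd.intro_left _ hD.symm)
  obtain ⟨v, hv⟩ := exists_artinSchreier_root p hk hkp h
  -- spanning
  let idx : G ≃ Fin p := (Equiv.ofBijective _ hbij).symm
  have hσW : ∀ σ : G, σ • W₁ = W₁ + ((idx σ : ℕ) : A) * (x₁ : A) ^ M := fun σ => by
    have h1 : σ = g ^ (idx σ : ℕ) := ((Equiv.ofBijective _ hbij).apply_symm_apply σ).symm
    conv_lhs => rw [h1]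
    induction (idx σ : ℕ) with
    | zero => simp
    | succ l ih =>
      rw [pow_succ', mul_smul, ih, smul_add, hW₁, smul_mul', smul_pow', x₁.2 g,
        show g • (l : A) = l from map_natCast (MulSemiringAction.toRingHom G A g) l]
      push_cast
      ring
  have hx₁M : (x₁ : A) ^ M ≠ 0 := pow_ne_zero _ fun h => hx₁0 (Subtype.ext h)
  let pw : G → A := fun τ => W₁ ^ (idx τ : ℕ)
  have hdet : (conjMat pw).det ≠ 0 := by
    have h1 : conjMat pw = (Matrix.vandermonde fun i => idx.symm i • W₁).submatrix idx idx := by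
      ext σ τ
      simp [conjMat, pw, Matrix.vandermonde, smul_pow']
    rw [h1, Matrix.det_submatrix_equiv_self, Matrix.det_vandermonde_ne_zero_iff]
    intro i j hij
    simp only [hσW, Equiv.apply_symm_apply, add_right_inj] at hij
    have h2 := (CharP.natCast_eq_natCast A p).mp (mul_right_cancel₀ hx₁M hij)
    exact Fin.ext (Nat.ModEq.eq_of_lt_of_lt h2 i.2 j.2)
  refine ⟨W₁, x₁ ^ M, G₁, ⟨_, sq_det_conjMat_mem pw⟩, pow_ne_zero _ hx₁0, fun h => pow_ne_zero 2 hdet (congrArg Subtype.val h),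
    ?_, fun j => ?_, fun t => ?_, ?_⟩
  · simp [G₁]
  · refine ⟨g ^ j, ?_⟩
    induction j with
    | zero => simp
    | succ l ih =>
      rw [pow_succ', mul_smul, ih, smul_add, hW₁, smul_mul', SubmonoidClass.coe_pow, smul_pow', x₁.2 g,
        show g • (l : A) = l from map_natCast (MulSemiringAction.toRingHom G A g) l]
      push_cast
      ring
  · obtain ⟨c, hc⟩ := exists_sq_det_mul_eq pw t
    refine ⟨fun i => c (idx.symm i), ?_⟩
    refine hc.trans ?_
    rw [← Equiv.sum_comp idx (fun i => ((c (idx.symm i) : 𝔽) : A) * W₁ ^ (i : ℕ))]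
    exact Finset.sum_congr rfl fun τ _ => by rw [Equiv.symm_apply_apply]
  · refine ⟨y₁ * v + P, ?_⟩
    rw [map_pow, SubmonoidClass.coe_pow, ← hy₁, add_pow_char, mul_pow]
    rw [← pow_sub_one_mul hp.ne_zero y₁] at hh ⊢
    linear_combination (y₁ ^ (p - 1) * y₁) * hv - hh

include hk hGk hdim hram hcard in
/-- Automorphisms of the invariants extend to endomorphisms. -/
theorem exists_endo_extends (φ : 𝔽 ≃+* 𝔽)
    (hkp : ∀ (L : Type v) [Field L] [Algebra k L], IsGalois k L → Module.finrank k L ≠ p) :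
    ∃ ψ : A →+* A, ∀ b : 𝔽, ψ b = (φ b : 𝔽) := by
  classical
  have hp := (Fact.out : p.Prime)
  haveI := DepthLib.isDomain_of_isRegularLocalRing A
  haveI := DepthLib.isIntegrallyClosed_of_isRegularLocalRing A
  obtain ⟨W, a, g₀, d, ha, hd, hW, -, hspan, V, hV⟩ := exists_artinSchreier_generator hk hGk hdim hram p hcard φ hkp
  obtain ⟨-, h2, -, -⟩ := fixed_local_finite hk hGk (G := G)
  haveI := h2
  haveI : Algebra.IsIntegral 𝔽 A := Algebra.IsIntegral.of_finite _ _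
  let L := FractionRing A
  let Ω := AlgebraicClosure L
  let ι : A →+* Ω := (algebraMap L Ω).comp (algebraMap A L)
  have hι : Function.Injective ι := (algebraMap L Ω).injective.comp (IsFractionRing.injective A L)
  letI : Algebra 𝔽 Ω := (ι.comp ((FixedPoints.subring A G).subtype.comp φ.toRingHom)).toAlgebra
  have hinjΩ : Function.Injective (algebraMap 𝔽 Ω) := hι.comp (Subtype.val_injective.comp φ.injective)
  haveI : Module.IsTorsionFree 𝔽 Ω := Module.isTorsionFree_iff_algebraMap_injective.mpr hinjΩ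
  haveI : Module.IsTorsionFree 𝔽 A := Module.isTorsionFree_iff_algebraMap_injective.mpr Subtype.val_injective
  let ψ₀ : A →ₐ[𝔽] Ω := IsAlgClosed.lift
  haveI : CharP Ω p := charP_of_injective_ringHom hι p
  have hψ : ∀ b : 𝔽, ψ₀ (b : A) = ι ((φ b : 𝔽) : A) := fun b => ψ₀.commutes b
  obtain ⟨j, hj⟩ := exists_eq_natCast_mul (A := Ω) p (D := ψ₀ W - ι V) (a := ι ((φ a : 𝔽) : A)) (by
    rw [sub_pow_char, ← map_pow ψ₀, ← map_pow ι V, hW, hV, map_add, map_add, map_mul, map_mul, map_pow, map_pow, hψ, hψ]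
    ring)
  have hWimg : ψ₀ W = ι (V + (j : A) * ((φ a : 𝔽) : A)) := by
    rw [map_add, map_mul, map_natCast, ← hj, add_sub_cancel]
  set V' := V + (j : A) * ((φ a : 𝔽) : A)
  have hmem : ∀ t : A, ∃ s : A, ψ₀ t = ι s := fun t => by
    obtain ⟨c, hc⟩ := hspan t
    have h1 := congrArg ψ₀ hc
    rw [map_mul, map_sum, hψ] at h1
    simp only [map_mul, map_pow, hψ, hWimg] at h1
    simp only [← map_pow, ← map_mul, ← map_sum] at h1
    have hd0 : ι ((φ d : 𝔽) : A) ≠ 0 := (map_ne_zero_iff _ hι).mpr fun h => hd (φ.map_eq_zero_iff.mp (Subtype.ext h))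
    let s' : L := algebraMap A L (∑ i, ((φ (c i) : 𝔽) : A) * V' ^ (i : ℕ)) / algebraMap A L ((φ d : 𝔽) : A)
    have hs' : ψ₀ t = algebraMap L Ω s' := by
      rw [map_div₀, eq_div_iff (by exact hd0), mul_comm]
      exact h1
    obtain ⟨q, hqm, hq⟩ := Algebra.IsIntegral.isIntegral (R := 𝔽) t
    have hint : IsIntegral A s' := by
      refine ⟨q.map ((FixedPoints.subring A G).subtype.comp φ.toRingHom), hqm.map _, ?_⟩
      apply (algebraMap L Ω).injective
      rw [map_zero, Polynomial.eval₂_map, Polynomial.hom_eval₂, ← hs']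
      rw [← Polynomial.aeval_def] at hq
      have h3 := congrArg ψ₀ hq
      rw [map_zero, ← Polynomial.aeval_algHom_apply, Polynomial.aeval_def] at h3
      exact h3
    obtain ⟨s, hs⟩ := IsIntegrallyClosed.isIntegral_iff.mp hint
    exact ⟨s, by rw [hs', ← hs]; rfl⟩
  choose ψ hψ' using hmem
  refine ⟨{ toFun := ψ
            map_one' := hι (by rw [← hψ', map_one, map_one])
            map_mul' := fun x y => hι (by rw [← hψ', map_mul, map_mul, hψ', hψ'])
            map_zero' := hι (by rw [← hψ', map_zero, map_zero])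
            map_add' := fun x y => hι (by rw [← hψ', map_add, map_add, hψ', hψ']) }, fun b => hι ?_⟩
  show ι (ψ b) = _
  rw [← hψ', hψ]

include hk hGk hdim hram hcard in
/-- An endomorphism fixing the invariants is a group element. -/
theorem endo_eq_smul (hkp : ∀ (L : Type v) [Field L] [Algebra k L], IsGalois k L → Module.finrank k L ≠ p)
    (h : A →+* A) (hfix : ∀ b : 𝔽, h b = b) : ∃ σ : G, ∀ t : A, h t = σ • t := by
  haveI := DepthLib.isDomain_of_isRegularLocalRing A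
  obtain ⟨W, a, g₀, d, ha, hd, hW, hσW, hspan, -⟩ :=
    exists_artinSchreier_generator hk hGk hdim hram p hcard (RingEquiv.refl 𝔽) hkp
  obtain ⟨j, hj⟩ := exists_eq_natCast_mul p (D := h W - W) (a := (a : A)) (by
    rw [sub_pow_char, ← map_pow h, hW, map_add, map_mul, map_pow, hfix, hfix]
    ring)
  obtain ⟨σ, hσ⟩ := hσW j
  refine ⟨σ, fun t => mul_left_cancel₀ (fun h0 => hd (Subtype.ext h0)) (?_ : (d : A) * h t = d * σ • t)⟩
  obtain ⟨c, hc⟩ := hspan t
  have h1 := congrArg h hc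
  have h2 := congrArg (σ • ·) hc
  simp only [map_mul, map_sum, map_pow, hfix] at h1
  simp only [smul_mul', Finset.smul_sum, smul_pow', d.2 σ] at h2
  have hc' : ∀ i, σ • (c i : A) = c i := fun i => (c i).2 σ
  simp only [hc', hσ] at h2
  rw [h1, h2, eq_add_of_sub_eq' hj]

include hk hGk hdim hram hcard in
/-- Automorphisms of the invariants extend to automorphisms. -/
theorem exists_ringEquiv_extends (φ : 𝔽 ≃+* 𝔽)
    (hkp : ∀ (L : Type v) [Field L] [Algebra k L], IsGalois k L → Module.finrank k L ≠ p) :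
    ∃ ψ : A ≃+* A, ∀ b : 𝔽, ψ b = (φ b : 𝔽) := by
  obtain ⟨ψ, hψ⟩ := exists_endo_extends hk hGk hdim hram p hcard φ hkp
  obtain ⟨ψ', hψ'⟩ := exists_endo_extends hk hGk hdim hram p hcard φ.symm hkp
  obtain ⟨σ, hσ⟩ := endo_eq_smul hk hGk hdim hram p hcard hkp (ψ'.comp ψ) fun b => by
    rw [RingHom.comp_apply, hψ, hψ', RingEquiv.symm_apply_apply]
  obtain ⟨τ, hτ⟩ := endo_eq_smul hk hGk hdim hram p hcard hkp (ψ.comp ψ') fun b => by
    rw [RingHom.comp_apply, hψ', hψ, RingEquiv.apply_symm_apply]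
  refine ⟨RingEquiv.ofBijective ψ ⟨fun x y h => ?_, fun y => ⟨ψ' (τ⁻¹ • y), ?_⟩⟩, hψ⟩
  · have := congrArg ψ' h
    rw [← RingHom.comp_apply, ← RingHom.comp_apply, hσ, hσ] at this
    exact MulAction.injective σ this
  · rw [← RingHom.comp_apply, hτ, smul_inv_smul]

end Groth.Agent.WildQuot
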