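import Groth.Agent.WildQuot.Translate

/-!
# Symmetric skew group rings from invariant Frobenius forms
-/

set_option autoImplicit false
set_option linter.unusedSectionVars false

universe u v w

namespace Groth.Agent.WildQuot

/-- An invariant Frobenius form makes the skew group ring symmetric. -/
theorem skew_symmetric {R : Type u} [CommRing R] {A : Type w} [CommRing A] [Algebra R A] {G : Type v} [Group G]
    [Finite G] [MulSemiringAction G A] [SMulCommClass G R A] (τ : A →ₗ[R] R)
    (hinv : ∀ (h : G) (t : A), τ (h • t) = τ t)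
    (hτ : Function.Bijective fun a : A => τ.comp (LinearMap.mulRight R a)) :
    ∃ φ : SkewMonoidAlgebra A G →ₗ[R] R,
      (∀ x y : SkewMonoidAlgebra A G, φ (x * y) = φ (y * x)) ∧
      Function.Injective (fun y : SkewMonoidAlgebra A G => fun x : SkewMonoidAlgebra A G => φ (x * y)) ∧
      ∀ ψ : SkewMonoidAlgebra A G →ₗ[R] R, ∃ y : SkewMonoidAlgebra A G, ∀ x, ψ x = φ (x * y) := by
  classical
  haveI := Fintype.ofFinite G
  let φ : SkewMonoidAlgebra A G →ₗ[R] R :=
    τ ∘ₗ (Finsupp.lapply (1 : G)) ∘ₗ (SkewMonoidAlgebra.coeffLinearEquiv (S := R) (k := A) (G := G)).toLinearMap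
  have hφ : ∀ x, φ x = τ (x.coeff 1) := fun x => rfl
  have h1 : ∀ (h : G) (a : A) (y : SkewMonoidAlgebra A G),
      φ (SkewMonoidAlgebra.single h a * y) = τ (a * h • y.coeff h⁻¹) := fun h a y => by
    rw [hφ, SkewMonoidAlgebra.coeff_single_mul, mul_one]
  refine ⟨φ, fun x y => ?_, fun y y' h => ?_, fun ψ => ?_⟩
  · induction x using SkewMonoidAlgebra.induction_on with
    | zero => simp
    | add x x' hx hx' => simp only [add_mul, mul_add, map_add, hx, hx']
    | single h a =>
      induction y using SkewMonoidAlgebra.induction_on with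
      | zero => simp
      | add y y' hy hy' => simp only [add_mul, mul_add, map_add, hy, hy']
      | single h' c =>
        rw [h1, h1, SkewMonoidAlgebra.coeff_single_apply, SkewMonoidAlgebra.coeff_single_apply]
        by_cases hh : h' = h⁻¹
        · subst hh
          rw [if_pos rfl, if_pos (inv_inv h).symm, ← hinv h⁻¹, smul_mul', inv_smul_smul, mul_comm]
        · rw [if_neg hh, if_neg fun h'' => hh (by rw [h'', inv_inv]), smul_zero, smul_zero, mul_zero, mul_zero]
  · refine SkewMonoidAlgebra.coeff_injective (Finsupp.ext fun z => ?_)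
    have key : z⁻¹ • y.coeff z = z⁻¹ • y'.coeff z := hτ.1 (LinearMap.ext fun a => by
      have := congrFun h (SkewMonoidAlgebra.single z⁻¹ a)
      simp only [h1, inv_inv] at this
      exact this)
    exact MulAction.injective z⁻¹ key
  · have hex : ∀ h : G, ∃ c : A, ∀ a, τ (a * h • c) = ψ (SkewMonoidAlgebra.single h a) := fun h => by
      let ψh : A →ₗ[R] R := ψ ∘ₗ ((SkewMonoidAlgebra.coeffLinearEquiv (S := R) (k := A) (G := G)).symm.toLinearMap ∘ₗ
        Finsupp.lsingle h)
      obtain ⟨d, hd⟩ := hτ.2 ψh
      refine ⟨h⁻¹ • d, fun a => ?_⟩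
      rw [smul_inv_smul]
      exact LinearMap.congr_fun hd a
    choose c hc using hex
    refine ⟨∑ h, SkewMonoidAlgebra.single h⁻¹ (c h), fun x => ?_⟩
    induction x using SkewMonoidAlgebra.induction_on with
    | zero => simp
    | add x x' hx hx' => simp only [add_mul, map_add, hx, hx']
    | single h a =>
      rw [Finset.mul_sum, map_sum, Finset.sum_eq_single h]
      · rw [h1, SkewMonoidAlgebra.coeff_single_apply, if_pos rfl, hc]
      · intro z _ hz
        rw [h1, SkewMonoidAlgebra.coeff_single_apply, if_neg fun h'' => hz (inv_injective h''), smul_zero, mul_zero,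
          map_zero]
      · simp

open MvPolynomial

variable {R : Type u} [CommRing R] [Nontrivial R] {σ : Type} [Fintype σ] [DecidableEq σ] (p : ℕ) [Fact p.Prime]
  (b x : σ → R)

/-- The top exponent. -/
def topExp : σ → Fin p := fun _ => ⟨p - 1, Nat.sub_lt (Fact.out : p.Prime).pos one_pos⟩

/-- The top coefficient form. -/
noncomputable def topForm : (MvPolynomial σ R ⧸ asIdeal p b x) →ₗ[R] R :=
  Finsupp.lapply (topExp p) ∘ₗ (asBasis p b x).repr.toLinearMap

theorem topForm_trans [CharP R p] (c : σ → R) (hc : ∀ i, c i ^ p = b i * c i) (t : MvPolynomial σ R ⧸ asIdeal p b x) :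
    topForm p b x (transHom p b x c hc t) = topForm p b x t := by
  refine LinearMap.congr_fun (f := (topForm p b x).comp (transHom p b x c hc).toLinearMap) (g := topForm p b x)
    ((asBasis p b x).ext fun e => ?_) t
  show (asBasis p b x).repr (transHom p b x c hc (asBasis p b x e)) (topExp p) =
    (asBasis p b x).repr (asBasis p b x e) (topExp p)
  rw [Module.Basis.repr_self, asBasis_apply, map_prod]
  simp only [map_pow, transHom_var]
  rw [repr_monomial_translate, Finsupp.single_apply]
  split_ifs with h
  · subst h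
    simp
  · obtain ⟨i, hi⟩ := Function.ne_iff.mp h
    refine Finset.prod_eq_zero (Finset.mem_univ i) ?_
    have h1 : (e i : ℕ) < p - 1 := by
      have := (e i).isLt
      have h2 : (e i : ℕ) ≠ p - 1 := fun h' => hi (Fin.ext h')
      omega
    show c i ^ ((e i : ℕ) - (p - 1)) * (((e i : ℕ).choose (p - 1) : ℕ) : R) = 0
    rw [Nat.choose_eq_zero_of_lt h1, Nat.cast_zero, mul_zero]

theorem topForm_bijective :
    Function.Bijective fun t : MvPolynomial σ R ⧸ asIdeal p b x => (topForm p b x).comp (LinearMap.mulRight R t) := by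
  classical
  let B := asBasis p b x
  let L : (MvPolynomial σ R ⧸ asIdeal p b x) →ₗ[R] ((σ → Fin p) → R) :=
    LinearMap.pi fun f => (topForm p b x).comp (LinearMap.mulLeft R (B fun i => (f i).rev))
  have hN : ∀ e f : σ → Fin p, L (B e) f ≠ 0 → ∀ i, (f i : ℕ) ≤ e i := fun e f hne i => by
    by_contra hlt
    apply hne
    show B.repr (B (fun i => (f i).rev) * B e) (topExp p) = 0
    rw [asBasis_apply, asBasis_apply, ← Finset.prod_mul_distrib]
    simp only [← pow_add]
    have h := asBasis_repr_prod p b x (fun i => Polynomial.X ^ (((f i).rev : ℕ) + e i)) (topExp p)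
    simp only [Polynomial.aeval_X_pow] at h
    rw [h]
    refine Finset.prod_eq_zero (Finset.mem_univ i) ?_
    have hf := (f i).isLt
    have hlt' : ((f i).rev : ℕ) + e i < p - 1 := by rw [Fin.val_rev]; omega
    rw [modByMonic_eq_self_of_natDegree_lt p b x _ i ((Polynomial.natDegree_X_pow_le _).trans_lt (by omega)),
      Polynomial.coeff_X_pow, if_neg]
    show p - 1 ≠ _
    omega
  have hdiag : ∀ e, L (B e) e = 1 := fun e => by
    show B.repr (B (fun i => (e i).rev) * B e) (topExp p) = 1
    rw [asBasis_apply, asBasis_apply, ← Finset.prod_mul_distrib]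
    simp only [← pow_add]
    have h := asBasis_repr_prod p b x (fun i => Polynomial.X ^ (((e i).rev : ℕ) + e i)) (topExp p)
    simp only [Polynomial.aeval_X_pow] at h
    rw [h]
    refine Finset.prod_eq_one fun i _ => ?_
    have hf := (e i).isLt
    have heq : ((e i).rev : ℕ) + e i = p - 1 := by rw [Fin.val_rev]; omega
    rw [modByMonic_eq_self_of_natDegree_lt p b x _ i ((Polynomial.natDegree_X_pow_le _).trans_lt (by omega)),
      Polynomial.coeff_X_pow]
    exact if_pos heq.symm
  have hlt : ∀ e f : σ → Fin p, L (B e) f ≠ 0 → f ≠ e → ∑ i, (f i : ℕ) < ∑ i, (e i : ℕ) := fun e f hne hfe => by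
    obtain ⟨i, hi⟩ := Function.ne_iff.mp hfe
    exact Finset.sum_lt_sum (fun j _ => hN e f hne j) ⟨i, Finset.mem_univ i, lt_of_le_of_ne (hN e f hne i) fun h' => hi (Fin.ext h')⟩
  have hsurj : LinearMap.range L = ⊤ := by
    have hs : ∀ m, ∀ e : σ → Fin p, ∑ i, (e i : ℕ) = m → (Pi.single e 1 : (σ → Fin p) → R) ∈ LinearMap.range L := by
      intro m
      induction m using Nat.strong_induction_on with
      | _ m ih =>
        intro e he
        have hdec : L (B e) = Pi.single e 1 + ∑ f ∈ Finset.univ.erase e, L (B e) f • (Pi.single f 1 : (σ → Fin p) → R) := by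
          funext f
          rcases eq_or_ne f e with rfl | hf
          · rw [hdiag]
            simp [Finset.sum_apply, Pi.single_apply]
          · simp [Finset.sum_apply, Pi.single_apply, hf]
        rw [eq_sub_of_add_eq hdec.symm]
        refine Submodule.sub_mem _ ⟨B e, rfl⟩ (Submodule.sum_mem _ fun f hf => ?_)
        by_cases h0 : L (B e) f = 0
        · rw [h0, zero_smul]; exact Submodule.zero_mem _
        · exact Submodule.smul_mem _ _ (ih _ (he ▸ hlt e f h0 (Finset.ne_of_mem_erase hf)) f rfl)
    rw [eq_top_iff, ← (Pi.basisFun R (σ → Fin p)).span_eq, Submodule.span_le]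
    rintro _ ⟨e, rfl⟩
    rw [Pi.basisFun_apply]
    exact hs _ e rfl
  haveI : Module.Finite R (MvPolynomial σ R ⧸ asIdeal p b x) := Module.Finite.of_basis B
  have hL : Function.Bijective L :=
    OrzechProperty.bijective_of_surjective_endomorphism
      (B.equivFun.symm.toLinearMap ∘ₗ L) (B.equivFun.symm.surjective.comp (LinearMap.range_eq_top.mp hsurj)) |>
      fun h => ⟨fun a a' hh => h.1 (congrArg B.equivFun.symm hh), LinearMap.range_eq_top.mp hsurj⟩
  constructor
  · intro t t' h
    refine hL.1 (funext fun f => ?_)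
    exact LinearMap.congr_fun h (B fun i => (f i).rev)
  · intro ψ
    obtain ⟨t, ht⟩ := hL.2 fun f => ψ (B fun i => (f i).rev)
    refine ⟨t, B.ext fun e => ?_⟩
    have := congrFun ht (fun i => (e i).rev)
    simp only [Fin.rev_rev] at this
    rw [← this]
    show topForm p b x (B e * t) = topForm p b x (B (fun i => ((fun i => (e i).rev) i).rev) * t)
    simp only [Fin.rev_rev]

end Groth.Agent.WildQuot
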