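import Groth.Agent.WildQuot.Minor
import Groth.Agent.DepthLib.RegularNormal

/-!
# Minor elements over a power series ring
-/

set_option autoImplicit false
set_option linter.unusedSectionVars false

universe u

namespace Groth.Agent.WildQuot

theorem powerSeries_a_ne_zero {k : Type u} [Field k] {n : ℕ} (hn : 2 ≤ n) (a : Fin n → MvPowerSeries (Fin n) k)
    (ham : ∀ i, MvPowerSeries.constantCoeff (a i) = 0) (hcop : ∀ i j, i ≠ j → IsRelPrime (a i) (a j)) (i : Fin n) :
    a i ≠ 0 := by
  intro h0
  haveI : Nontrivial (Fin n) := Fin.nontrivial_iff_two_le.mpr hn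
  obtain ⟨j, hj⟩ := exists_ne i
  have h := hcop i j (Ne.symm hj)
  rw [h0, isRelPrime_zero_left] at h
  rw [MvPowerSeries.isUnit_iff_constantCoeff, ham j] at h
  exact not_isUnit_zero h

end Groth.Agent.WildQuot
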