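import Groth.Agent.WildQuot.Origin

/-!
# Ramification breaks of automorphisms of power series rings in one variable
-/

set_option autoImplicit false
set_option linter.unusedSectionVars false

universe u

namespace Groth.Agent.WildQuot

open PowerSeries

variable {k : Type u} [Field k]

/-- A power series is exactly of the given order. -/
def HasOrd (f : PowerSeries k) (d : ℕ) : Prop := ∃ g : PowerSeries k, IsUnit g ∧ f = X ^ d * g

theorem HasOrd.order_eq {f : PowerSeries k} {d : ℕ} (h : HasOrd f d) : f.order = d := by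
  obtain ⟨g, hg, rfl⟩ := h
  rw [order_mul, order_X_pow, order_zero_of_unit hg, add_zero]

theorem hasOrd_of_order_eq {f : PowerSeries k} {d : ℕ} (h : f.order = d) : HasOrd f d := by
  obtain ⟨g, hg⟩ := X_pow_order_dvd (φ := f)
  rw [h, ENat.toNat_natCast] at hg
  refine ⟨g, isUnit_iff_constantCoeff.mpr (Ne.isUnit fun h0 => ?_), hg⟩
  have h1 := (order_eq_nat.mp h).1
  apply h1
  rw [hg, coeff_X_pow_mul', if_pos le_rfl, Nat.sub_self, coeff_zero_eq_constantCoeff_apply, h0]

theorem hasOrd_iff {f : PowerSeries k} {d : ℕ} : HasOrd f d ↔ f.order = d := ⟨HasOrd.order_eq, hasOrd_of_order_eq⟩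

theorem exists_hasOrd {f : PowerSeries k} (h : f ≠ 0) : ∃ d, HasOrd f d := by
  obtain ⟨d, hd⟩ := WithTop.ne_top_iff_exists.mp (show f.order ≠ ⊤ from fun h' => h (order_eq_top.mp h'))
  exact ⟨d, hasOrd_of_order_eq hd.symm⟩

theorem HasOrd.ne_zero {f : PowerSeries k} {d : ℕ} (h : HasOrd f d) : f ≠ 0 := fun h0 => by
  have := h.order_eq
  rw [h0, order_zero] at this
  exact WithTop.coe_ne_top this.symm

theorem HasOrd.unique {f : PowerSeries k} {d d' : ℕ} (h : HasOrd f d) (h' : HasOrd f d') : d = d' := by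
  exact_mod_cast h.order_eq.symm.trans h'.order_eq

theorem HasOrd.mul {f g : PowerSeries k} {d d' : ℕ} (h : HasOrd f d) (h' : HasOrd g d') : HasOrd (f * g) (d + d') := by
  rw [hasOrd_iff, order_mul, h.order_eq, h'.order_eq, Nat.cast_add]

theorem HasOrd.pow {f : PowerSeries k} {d : ℕ} (h : HasOrd f d) : ∀ j : ℕ, HasOrd (f ^ j) (j * d)
  | 0 => ⟨1, isUnit_one, by simp⟩
  | j + 1 => by rw [pow_succ, add_mul, one_mul]; exact (HasOrd.pow h j).mul h

theorem exists_one_add_pow (y : PowerSeries k) : ∀ d : ℕ, ∃ q, (1 + y) ^ d = 1 + (d : PowerSeries k) * y + y ^ 2 * q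
  | 0 => ⟨0, by simp⟩
  | d + 1 => by
    obtain ⟨q, hq⟩ := exists_one_add_pow y d
    exact ⟨(d : PowerSeries k) + q + y * q, by rw [pow_succ, hq]; push_cast; ring⟩

variable (p : ℕ) [Fact p.Prime] [CharP k p] (σ : PowerSeries k ≃ₐ[k] PowerSeries k) {m : ℕ}
  (hm : HasOrd (σ X - X) (m + 1))

include hm in
theorem exists_sub_eq_X_pow_mul (f : PowerSeries k) : ∃ h, σ f - f = X ^ (m + 1) * h := by
  obtain ⟨e, -, he⟩ := hm
  have hmem : σ f - f ∈ Ideal.span {(X : PowerSeries k) ^ (m + 1)} := by
    refine sub_mem_of_decomp (σ : PowerSeries k →+* PowerSeries k) (RingHom.id _) _ (fun _ : Unit => X)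
      (fun _ => Ideal.mem_span_singleton.mpr ⟨e, he⟩) (fun _ => ?_) (fun s => ?_) f
    · show σ X ∈ _
      rw [IsLocalRing.mem_maximalIdeal, mem_nonunits_iff]
      intro h
      have := h.map σ.symm
      rw [AlgEquiv.symm_apply_apply, isUnit_iff_constantCoeff, constantCoeff_X] at this
      exact not_isUnit_zero this
    · refine ⟨C (constantCoeff s), fun _ => PowerSeries.mk fun i => coeff (i + 1) s, ?_, ?_⟩
      · show σ (algebraMap k (PowerSeries k) (constantCoeff s)) - algebraMap k (PowerSeries k) (constantCoeff s) ∈ _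
        rw [σ.commutes, sub_self]
        exact zero_mem _
      · rw [Fintype.sum_unique, mul_comm, add_comm]
        exact eq_X_mul_shift_add_const s
  exact Ideal.mem_span_singleton.mp hmem

include hm in
theorem constantCoeff_apply (f : PowerSeries k) : constantCoeff (σ f) = constantCoeff f := by
  obtain ⟨h, hh⟩ := exists_sub_eq_X_pow_mul σ hm f
  rw [eq_add_of_sub_eq hh]
  simp

variable (hσp : σ ^ p = 1)

include hm hσp in
theorem break_pos : 0 < m := by
  by_contra h0
  obtain ⟨e, heu, he⟩ := id hm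
  have hX : σ X = X * (1 + e) := by
    rw [eq_add_of_sub_eq he, show m = 0 by omega]
    ring
  have hpow : ∀ i : ℕ, ∃ g, (σ ^ i) X = X * g ∧ constantCoeff g = (1 + constantCoeff e) ^ i := fun i => by
    induction i with
    | zero => exact ⟨1, by simp, by simp⟩
    | succ i ih =>
      obtain ⟨g, hg, hg0⟩ := ih
      refine ⟨(1 + e) * σ g, ?_, ?_⟩
      · rw [pow_succ', AlgEquiv.mul_apply, hg, map_mul, hX, mul_assoc]
      · rw [map_mul, constantCoeff_apply σ hm, hg0, map_add, map_one, pow_succ']
  obtain ⟨g, hg, hg0⟩ := hpow p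
  rw [hσp, AlgEquiv.one_apply] at hg
  have : g = 1 := (mul_eq_left₀ X_ne_zero).mp hg.symm
  rw [this, map_one, add_pow_char, one_pow, left_eq_add] at hg0
  exact (isUnit_iff_constantCoeff.mp heu).ne_zero (pow_eq_zero_iff (Fact.out : p.Prime).ne_zero |>.mp hg0)

include hm hσp in
/-- The difference operator raises orders prime to the characteristic by the break. -/
theorem hasOrd_sub {f : PowerSeries k} {d : ℕ} (hf : HasOrd f d) (hd : ¬ p ∣ d) : HasOrd (σ f - f) (d + m) := by
  have hm0 := break_pos p σ hm hσp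
  obtain ⟨g, hg, rfl⟩ := hf
  obtain ⟨e, heu, he⟩ := id hm
  obtain ⟨h, hh⟩ := exists_sub_eq_X_pow_mul σ hm g
  obtain ⟨q, hq⟩ := exists_one_add_pow (X ^ m * e) d
  have hX : σ X = X * (1 + X ^ m * e) := by
    rw [eq_add_of_sub_eq he]
    ring
  let y := X ^ m * e
  refine ⟨(d : PowerSeries k) * e * g + X * h * (1 + (d : PowerSeries k) * y + y ^ 2 * q) + X ^ m * e ^ 2 * q * g,
    isUnit_iff_constantCoeff.mpr ?_, ?_⟩
  · rw [map_add, map_add, map_mul, map_mul, map_natCast, map_mul, map_mul, constantCoeff_X, map_mul, map_mul, map_mul,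
      map_pow constantCoeff X, constantCoeff_X, zero_pow hm0.ne', zero_mul, zero_mul, zero_mul, zero_mul, zero_mul, add_zero,
      add_zero]
    refine ((Ne.isUnit fun h0 => hd ((CharP.cast_eq_zero_iff k p d).mp h0)).mul (isUnit_iff_constantCoeff.mp heu)).mul
      (isUnit_iff_constantCoeff.mp hg)
  · rw [map_mul, map_pow, hX, eq_add_of_sub_eq hh, mul_pow, hq]
    ring

include hm in
theorem hasOrd_pow_apply (i : ℕ) : HasOrd ((σ ^ i) X) 1 := by
  induction i with
  | zero => exact ⟨1, isUnit_one, by simp⟩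
  | succ i ih =>
    obtain ⟨g, hg, he⟩ := ih
    rw [pow_succ', AlgEquiv.mul_apply, he, pow_one, map_mul]
    have h1 : HasOrd (σ X) 1 := by
      obtain ⟨e', he'⟩ := exists_sub_eq_X_pow_mul σ hm X
      refine hasOrd_of_order_eq ?_
      rw [order_eq_nat]
      refine ⟨?_, fun i hi => ?_⟩
      · intro h0
        have h2 : X ^ 2 ∣ σ X := X_pow_dvd_iff.mpr fun i hi => by
          rcases i with - | - | i
          · rw [coeff_zero_eq_constantCoeff_apply, constantCoeff_apply σ hm, constantCoeff_X]
          · exact h0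
          · omega
        obtain ⟨c, hc⟩ := h2
        have h3 := congrArg σ.symm hc
        rw [AlgEquiv.symm_apply_apply, map_mul, map_pow] at h3
        have h4 := congrArg PowerSeries.order h3
        rw [order_X, order_mul, order_pow] at h4
        have h5 : (1 : ℕ∞) ≤ (σ.symm X).order := Order.one_le_iff_pos.mpr <| pos_iff_ne_zero.mpr <|
          order_ne_zero_iff_constCoeff_eq_zero.mpr (by
            rw [← constantCoeff_apply σ hm, AlgEquiv.apply_symm_apply, constantCoeff_X])
        have h6 : (2 : ℕ∞) ≤ 1 := by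
          rw [h4, two_nsmul]
          exact le_add_right (le_trans (by norm_num) (add_le_add h5 h5))
        norm_num at h6
      · rw [show i = 0 by omega, coeff_zero_eq_constantCoeff_apply, constantCoeff_apply σ hm, constantCoeff_X]
    exact h1.mul ⟨σ g, hg.map σ, by rw [pow_zero, one_mul]⟩

/-- The norm of the variable. -/
noncomputable def normX : PowerSeries k := ∏ i ∈ Finset.range p, (σ ^ i) X

include hm in
theorem hasOrd_normX : HasOrd (normX p σ) p := by
  have : ∀ j, HasOrd (∏ i ∈ Finset.range j, (σ ^ i) X) j := fun j => by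
    induction j with
    | zero => exact ⟨1, isUnit_one, by simp⟩
    | succ j ih => rw [Finset.prod_range_succ]; exact ih.mul (hasOrd_pow_apply σ hm j)
  exact this p

include hm hσp in
theorem apply_normX : σ (normX p σ) = normX p σ := by
  have h0 : ((σ ^ 0) X : PowerSeries k) ≠ 0 := (hasOrd_pow_apply σ hm 0).ne_zero
  refine mul_right_cancel₀ h0 ?_
  unfold normX
  rw [map_prod]
  conv_rhs => rw [show (σ ^ 0) X = (σ ^ p) X by rw [hσp, pow_zero], ← Finset.prod_range_succ, Finset.prod_range_succ']
  simp only [pow_succ', AlgEquiv.mul_apply]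

include hm hσp in
theorem dvd_of_fixed {a : PowerSeries k} {d : ℕ} (ha : HasOrd a d) (hfix : σ a = a) : p ∣ d := by
  by_contra hd
  exact (hasOrd_sub p σ hm hσp ha hd).ne_zero (by rw [hfix, sub_self])

include hm hσp in
theorem dvd_break_add_one_iff :
    p ∣ m + 1 ↔ ∃ s a : PowerSeries k, s.order = 1 ∧ σ a = a ∧ σ s = s + a := by
  have hp1 : ¬ p ∣ 1 := fun h => (Fact.out : p.Prime).ne_one (Nat.dvd_one.mp h)
  constructor
  · intro hdvd
    have hp2 := (Fact.out : p.Prime).two_le
    let t := (p - 2) * m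
    let j := 1 + p * t - (p - 2) * m
    have htle : (p - 2) * m ≤ p * t := Nat.le_mul_of_pos_left _ (by omega)
    let D : Module.End k (PowerSeries k) := σ.toAlgHom.toLinearMap - 1
    have hD : ∀ f, D f = σ f - f := fun f => rfl
    have hiter : ∀ i, i ≤ p - 1 → HasOrd ((D ^ i) (X ^ j)) (j + i * m) := fun i hi => by
      induction i with
      | zero => exact ⟨1, isUnit_one, by simp⟩
      | succ i ih =>
        rw [pow_succ', Module.End.mul_apply, hD, add_mul, one_mul, ← add_assoc]
        refine hasOrd_sub p σ hm hσp (ih (by omega)) fun hdiv => ?_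
        have h1 : j + i * m + (p - 1 - i) * (m + 1) = p * t + (m + 1) + (p - 1 - i) := by
          obtain ⟨l, hl⟩ : ∃ l, p - 2 = i + l := ⟨p - 2 - i, by omega⟩
          rw [show p - 1 - i = l + 1 by omega]
          show 1 + p * t - (p - 2) * m + i * m + (l + 1) * (m + 1) = _
          zify [show (p - 2) * m ≤ 1 + p * t by omega]
          rw [hl]
          push_cast
          ring
        have h3 : p ∣ p * t + (m + 1) + (p - 1 - i) := h1 ▸ dvd_add hdiv (dvd_mul_of_dvd_right hdvd _)
        have h4 : p ∣ p - 1 - i := (Nat.dvd_add_right (dvd_add (dvd_mul_right p t) hdvd)).mp h3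
        exact absurd (Nat.le_of_dvd (by omega) h4) (by omega)
    have hs₁ : HasOrd ((D ^ (p - 2)) (X ^ j)) (1 + p * t) := by
      have := hiter (p - 2) (by omega)
      rwa [show j + (p - 2) * m = 1 + p * t from Nat.sub_add_cancel (by omega)] at this
    obtain ⟨g, hg, hs⟩ := hs₁
    obtain ⟨v, hv, hx⟩ := hasOrd_normX p σ hm
    obtain ⟨w, hw⟩ := (hv.pow t).exists_right_inv
    let s := X * g * w
    have hsx : s * normX p σ ^ t = (D ^ (p - 2)) (X ^ j) := by
      rw [hs, hx, mul_pow, ← pow_mul, pow_add, pow_one]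
      linear_combination (X * g * X ^ (p * t)) * hw
    have hxfix := apply_normX p σ hm hσp
    have hxne : normX p σ ^ t ≠ 0 := pow_ne_zero _ (hasOrd_normX p σ hm).ne_zero
    refine ⟨s, σ s - s, ?_, ?_, (add_sub_cancel _ _).symm⟩
    · exact HasOrd.order_eq (d := 1) ⟨g * w, hg.mul (IsUnit.of_mul_eq_one_right _ hw), by show X * g * w = _; ring⟩
    · haveI : CharP (Module.End k (PowerSeries k)) p :=
        charP_of_injective_algebraMap (algebraMap k (Module.End k (PowerSeries k))).injective p
      have hzero : (D ^ p) (X ^ j) = 0 := by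
        have hpow : ∀ i : ℕ, σ.toAlgHom.toLinearMap ^ i = (σ ^ i).toAlgHom.toLinearMap := fun i => by
          induction i with
          | zero => rfl
          | succ i ih => rw [pow_succ, pow_succ, ih]; rfl
        have h1 : D ^ p = 0 := by
          show (σ.toAlgHom.toLinearMap - 1 : Module.End k (PowerSeries k)) ^ p = 0
          rw [sub_pow_char_of_commute p (Commute.one_right _), one_pow, hpow, hσp]
          exact sub_self _
        rw [h1, LinearMap.zero_apply]
      have h2 : σ ((σ s - s) * normX p σ ^ t) - (σ s - s) * normX p σ ^ t = 0 := by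
        have h3 : (σ s - s) * normX p σ ^ t = D ((D ^ (p - 2)) (X ^ j)) := by
          rw [hD, ← hsx, map_mul σ s, map_pow σ (normX p σ) t, hxfix, sub_mul]
        rw [h3, ← hD, ← Module.End.mul_apply, ← Module.End.mul_apply, ← sq, ← pow_add]
        rw [show 2 + (p - 2) = p by omega]
        exact hzero
      rw [map_mul, map_pow, hxfix, ← sub_mul] at h2
      exact sub_eq_zero.mp ((mul_eq_zero.mp h2).resolve_right hxne)
  · rintro ⟨s, a, hs, ha, hsa⟩
    have h1 := hasOrd_sub p σ hm hσp (hasOrd_of_order_eq (d := 1) (by rw [hs]; rfl)) hp1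
    rw [hsa, add_sub_cancel_left, add_comm] at h1
    exact dvd_of_fixed p σ hm hσp h1 ha

include hm hσp in
theorem conductor_eq_break (f : PowerSeries k) (hfσ : σ f = f) (hf0 : PowerSeries.constantCoeff f ≠ 0) (μ : ℕ)
    (hμ : 0 < μ) (hpμ : ¬ p ∣ μ) (z : FractionRing (PowerSeries k))
    (hz : z ^ p - z = algebraMap (PowerSeries k) (FractionRing (PowerSeries k)) f /
      algebraMap (PowerSeries k) (FractionRing (PowerSeries k)) (normX p σ) ^ μ) : μ = m := by
  have hp := (Fact.out : p.Prime)
  have hp2 := hp.two_le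
  let ι := algebraMap (PowerSeries k) (FractionRing (PowerSeries k))
  have hx0 : ι (normX p σ) ≠ 0 := (map_ne_zero_iff _ (IsFractionRing.injective _ _)).mpr (hasOrd_normX p σ hm).ne_zero
  let c := normX p σ ^ (μ * (p - 1))
  have hp' : μ * (p - 1) + μ = μ * p := by
    conv_rhs => rw [show p = p - 1 + 1 by omega, mul_add, mul_one]
  have heq : (z * ι (normX p σ) ^ μ) ^ p - ι c * (z * ι (normX p σ) ^ μ) = ι (f * c) := by
    rw [map_mul, map_pow, mul_pow, ← pow_mul, ← hp', pow_add, show ι f = (z ^ p - z) * ι (normX p σ) ^ μ by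
      rw [hz, div_mul_cancel₀ _ (pow_ne_zero _ hx0)]]
    ring
  obtain ⟨Z, hZ⟩ := IsIntegrallyClosed.isIntegral_iff.mp
    (⟨Polynomial.X ^ p - (Polynomial.C c * Polynomial.X + Polynomial.C (f * c)),
      Polynomial.monic_X_pow_sub (Polynomial.degree_linear_le.trans_lt (by exact_mod_cast hp.one_lt)), by
        rw [Polynomial.eval₂_sub, Polynomial.eval₂_X_pow, Polynomial.eval₂_add, Polynomial.eval₂_mul,
          Polynomial.eval₂_C, Polynomial.eval₂_X, Polynomial.eval₂_C, ← sub_sub, heq, sub_self]⟩ :
      IsIntegral (PowerSeries k) (z * ι (normX p σ) ^ μ))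
  have hZeq : Z ^ p = c * Z + f * c := by
    apply IsFractionRing.injective (PowerSeries k) (FractionRing (PowerSeries k))
    rw [map_pow, map_add, map_mul, hZ]
    linear_combination heq
  have hc : HasOrd c (μ * (p - 1) * p) := (hasOrd_normX p σ hm).pow _
  have hfc : HasOrd (f * c) (μ * (p - 1) * p) := by
    simpa using (show HasOrd f 0 from ⟨f, isUnit_iff_constantCoeff.mpr (Ne.isUnit hf0), by simp⟩).mul hc
  have hZ0 : Z ≠ 0 := fun h => hfc.ne_zero (by rw [h, zero_pow hp.ne_zero, mul_zero, zero_add] at hZeq; exact hZeq.symm)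
  obtain ⟨d, hd⟩ := exists_hasOrd hZ0
  have hZp := hd.pow p
  have hcZ := hc.mul hd
  have hd_eq : d = μ * (p - 1) := by
    by_cases hlt : d < μ * p
    · have h1 : p * d < μ * (p - 1) * p + d := by
        have : (p - 1) * d < (p - 1) * (μ * p) := Nat.mul_lt_mul_of_pos_left hlt (by omega)
        have e1 : (p - 1) * d + d = p * d := by
          conv_rhs => rw [show p = p - 1 + 1 by omega, add_mul, one_mul]
        have e2 : (p - 1) * (μ * p) = μ * (p - 1) * p := by ring
        omega
      have h2 : (f * c).order = ((p * d : ℕ) : ℕ∞) := by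
        rw [eq_sub_of_add_eq' hZeq.symm, sub_eq_add_neg, order_add_of_order_ne _ _ (by
          rw [order_neg, hZp.order_eq, hcZ.order_eq]; exact_mod_cast h1.ne), order_neg, hZp.order_eq, hcZ.order_eq]
        exact min_eq_left (by exact_mod_cast h1.le)
      have h3 := (hasOrd_of_order_eq h2).unique hfc
      exact Nat.eq_of_mul_eq_mul_left hp.pos (by rw [h3, mul_comm])
    · exfalso
      push Not at hlt
      have h1 : μ * (p - 1) * p < p * d := by
        rw [mul_comm p d]
        exact Nat.mul_lt_mul_of_pos_right (by omega) hp.pos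
      have h2 : (f * c).order ≥ ((μ * (p - 1) * p + 1 : ℕ) : ℕ∞) := by
        rw [eq_sub_of_add_eq' hZeq.symm, sub_eq_add_neg]
        refine le_trans ?_ (min_order_le_order_add _ _)
        rw [order_neg, hZp.order_eq, hcZ.order_eq]
        have : μ * (p - 1) * p < μ * (p - 1) * p + d := Nat.lt_add_of_pos_right (by
          have : 0 < μ * p := Nat.mul_pos hμ hp.pos
          omega)
        exact le_min (by exact_mod_cast h1) (by exact_mod_cast this)
      rw [hfc.order_eq] at h2
      have : μ * (p - 1) * p + 1 ≤ μ * (p - 1) * p := by exact_mod_cast h2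
      omega
  have hpd : ¬ p ∣ d := by
    rw [hd_eq]
    intro h
    rcases hp.dvd_mul.mp h with h | h
    · exact hpμ h
    · exact absurd (Nat.le_of_dvd (by omega) h) (by omega)
  have hD := hasOrd_sub p σ hm hσp hd hpd
  haveI : CharP (PowerSeries k) p := charP_of_injective_algebraMap (algebraMap k (PowerSeries k)).injective p
  have hσc : σ c = c := by rw [map_pow, apply_normX p σ hm hσp]
  have hDeq : (σ Z - Z) ^ p = c * (σ Z - Z) := by
    rw [sub_pow_char, ← map_pow, hZeq, map_add, map_mul, map_mul, hσc, hfσ]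
    ring
  have h4 := (hD.pow p).unique (hDeq ▸ hc.mul hD)
  have e1 : p * (d + m) = (p - 1) * (d + m) + (d + m) := by
    conv_lhs => rw [show p = p - 1 + 1 by omega, add_mul, one_mul]
  have e2 : μ * (p - 1) * p = (p - 1) * (μ * p) := by ring
  have h5 : d + m = μ * p := Nat.eq_of_mul_eq_mul_left (show 0 < p - 1 by omega) (by omega)
  omega

end Groth.Agent.WildQuot
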