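import Groth.Agent.WildQuot.Translate
import Groth.Agent.WildQuot.Param

/-!
# The fixed-point ideal of the Artin–Schreier family
-/

set_option autoImplicit false
set_option linter.unusedSectionVars false

universe u

namespace Groth.Agent.WildQuot

open MvPolynomial IsLocalRing

/-- The length of the closed fibre of a finite free local algebra with trivial residue extension. -/
theorem length_fibre_eq_finrank (R B : Type*) [CommRing R] [CommRing B] [IsLocalRing R] [IsLocalRing B] [Algebra R B]
    [IsLocalHom (algebraMap R B)] [Module.Free R B] [Module.Finite R B]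
    (hres : Function.Surjective (algebraMap (ResidueField R) (ResidueField B))) :
    Module.length B (B ⧸ (maximalIdeal R).map (algebraMap R B)) = (Module.finrank R B : ℕ∞) := by
  have hone : Module.length (ResidueField R) (ResidueField B) = 1 :=
    (Module.length_eq_of_surjective (R := ResidueField B) (M := ResidueField B) hres).trans (Module.length_eq_one _ _)
  have h1 : Module.length R (B ⧸ (maximalIdeal R).map (algebraMap R B)) =
      Module.length B (B ⧸ (maximalIdeal R).map (algebraMap R B)) := by
    rw [IsLocalRing.length_restrictScalars R B (B ⧸ (maximalIdeal R).map (algebraMap R B)), hone, mul_one]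
  rw [← h1]
  letI := Ideal.Quotient.field (maximalIdeal R)
  haveI : Module.Finite (R ⧸ maximalIdeal R) (B ⧸ (maximalIdeal R).map (algebraMap R B)) :=
    Module.Finite.of_restrictScalars_finite R _ _
  rw [Module.length_eq_of_surjective (R := R ⧸ maximalIdeal R) (M := B ⧸ (maximalIdeal R).map (algebraMap R B))
      Ideal.Quotient.mk_surjective, Module.length_eq_finrank, IsLocalRing.finrank_quotient_map]

variable (p : ℕ) [Fact p.Prime] (k : Type u) [Field k] [CharP k p] (n : ℕ) (a : Fin n → MvPowerSeries (Fin n) k)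
  (ham : ∀ i, MvPowerSeries.constantCoeff (a i) = 0)

local notation "Rk" => MvPowerSeries (Fin n) k
local notation "xk" => (fun i : Fin n => (MvPowerSeries.X i : MvPowerSeries (Fin n) k))
local notation "bk" => (fun i : Fin n => a i ^ (p - 1))
local notation "Ak" => MvPolynomial (Fin n) (MvPowerSeries (Fin n) k) ⧸ asIdeal p (fun i : Fin n => a i ^ (p - 1)) (fun i : Fin n => (MvPowerSeries.X i : MvPowerSeries (Fin n) k))

include ham in
theorem fixedIdeal_spec (σ : Ak ≃ₐ[Rk] Ak) (hσ : ∀ i, σ (asVar p bk xk i) = asVar p bk xk i + algebraMap Rk Ak (a i)) :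
    Ideal.span (Set.range fun t : Ak => σ t - t) ≤ Ideal.span (Set.range (asVar p bk xk)) ^ p ∧
      Module.length Ak (Ak ⧸ Ideal.span (Set.range fun t : Ak => σ t - t)) =
        (p ^ n : ℕ∞) * Module.length Rk (Rk ⧸ Ideal.span (Set.range a)) := by
  have hp2 := (Fact.out : p.Prime).two_le
  haveI : CharP Rk p := charP_of_injective_algebraMap (algebraMap k Rk).injective p
  have hb : ∀ i, MvPowerSeries.constantCoeff (a i ^ (p - 1)) = 0 := fun i => by
    rw [map_pow, ham, zero_pow (by omega)]
  have hJ : Ideal.span (Set.range fun t : Ak => σ t - t) = (Ideal.span (Set.range a)).map (algebraMap Rk Ak) := by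
    refine le_antisymm (Ideal.span_le.mpr ?_) ?_
    · rintro _ ⟨t, rfl⟩
      rw [SetLike.mem_coe, ← Ideal.Quotient.mk_eq_mk_iff_sub_mem]
      have h : (Ideal.Quotient.mkₐ Rk ((Ideal.span (Set.range a)).map (algebraMap Rk Ak))).comp σ.toAlgHom =
          Ideal.Quotient.mkₐ Rk ((Ideal.span (Set.range a)).map (algebraMap Rk Ak)) :=
        as_algHom_ext p bk xk fun i => by
          rw [AlgHom.comp_apply, Ideal.Quotient.mkₐ_eq_mk]
          show Ideal.Quotient.mk _ (σ _) = _
          rw [hσ, map_add, Ideal.Quotient.eq_zero_iff_mem.mpr (Ideal.mem_map_of_mem _ (Ideal.subset_span (Set.mem_range_self i))),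
            add_zero]
      exact AlgHom.congr_fun h t
    · rw [Ideal.map_span, Ideal.span_le]
      rintro _ ⟨_, ⟨i, rfl⟩, rfl⟩
      refine Ideal.subset_span ⟨asVar p bk xk i, ?_⟩
      show σ (asVar p bk xk i) - asVar p bk xk i = _
      rw [hσ, add_sub_cancel_left]
  obtain ⟨hfree, hfin, hrk⟩ := as_free_finrank p k n bk
  haveI := hfree
  haveI := hfin
  obtain ⟨hreg, hU⟩ := as_regular p k n bk hb
  haveI := hreg
  have hmax : maximalIdeal Ak = Ideal.span (Set.range (asVar p bk xk)) := by
    rw [← as_U_eq p k n bk]; exact (IsLocalRing.eq_maximalIdeal hU).symm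
  have hmap : (maximalIdeal Rk).map (algebraMap Rk Ak) ≤ maximalIdeal Ak := by
    rw [← IsLocalRing.eq_maximalIdeal hU]; exact as_map_maximal_le p k n bk hb
  have hconst : ∀ t : Ak, ∃ r : Rk, t - algebraMap Rk Ak r ∈ maximalIdeal Ak := fun t => by
    obtain ⟨q, rfl⟩ := Ideal.Quotient.mk_surjective t
    induction q using MvPolynomial.induction_on with
    | C r =>
      refine ⟨r, ?_⟩
      rw [show Ideal.Quotient.mk (asIdeal p bk xk) (C r) = algebraMap Rk Ak r from rfl, sub_self]
      exact zero_mem _
    | add q q' hq hq' =>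
      obtain ⟨r, hr⟩ := hq
      obtain ⟨r', hr'⟩ := hq'
      refine ⟨r + r', ?_⟩
      rw [map_add, map_add, add_sub_add_comm]
      exact add_mem hr hr'
    | mul_X q i hq =>
      refine ⟨0, ?_⟩
      rw [map_zero, sub_zero, map_mul, hmax]
      exact Ideal.mul_mem_left _ _ (Ideal.subset_span ⟨i, rfl⟩)
  constructor
  · rw [hJ, ← hmax, Ideal.map_le_iff_le_comap, Ideal.span_le]
    rintro _ ⟨i, rfl⟩
    have hX : (maximalIdeal Rk).map (algebraMap Rk Ak) ≤ maximalIdeal Ak ^ p := by
      refine Submodule.le_of_le_smul_of_le_jacobson_bot (IsNoetherian.noetherian _)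
        (jacobson_eq_maximalIdeal (⊥ : Ideal Ak) bot_ne_top).ge ?_
      conv_lhs => rw [← span_X_eq_maximalIdeal, Ideal.map_span]
      rw [Ideal.span_le]
      rintro _ ⟨_, ⟨j, rfl⟩, rfl⟩
      have h := asVar_pow p bk xk j
      rw [SetLike.mem_coe, show algebraMap Rk Ak (MvPowerSeries.X j) =
        asVar p bk xk j ^ p - algebraMap Rk Ak (a j ^ (p - 1)) * asVar p bk xk j by rw [h]; ring]
      refine sub_mem (Submodule.mem_sup_left (Ideal.pow_mem_pow (hmax ▸ Ideal.subset_span (Set.mem_range_self j)) _))
        (Submodule.mem_sup_right ?_)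
      rw [mul_comm]
      refine Submodule.smul_mem_smul (hmax ▸ Ideal.subset_span (Set.mem_range_self j)) (Ideal.mem_map_of_mem _ ?_)
      refine Ideal.pow_mem_of_mem _ ?_ _ (by omega)
      rw [mem_maximalIdeal, mem_nonunits_iff, MvPowerSeries.isUnit_iff_constantCoeff, ham j]
      simp
    refine hX (Ideal.mem_map_of_mem _ ?_)
    rw [mem_maximalIdeal, mem_nonunits_iff, MvPowerSeries.isUnit_iff_constantCoeff, ham i]
    simp
  · haveI : IsLocalHom (algebraMap Rk Ak) := ((local_hom_TFAE _).out 0 2).mpr hmap
    have hres : Function.Surjective (algebraMap (ResidueField Rk) (ResidueField Ak)) := fun s => by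
      obtain ⟨t, rfl⟩ := residue_surjective s
      obtain ⟨r, hr⟩ := hconst t
      refine ⟨residue Rk r, ?_⟩
      rw [ResidueField.algebraMap_residue]
      exact ((Ideal.Quotient.mk_eq_mk_iff_sub_mem _ _).mpr hr).symm
    have h2 : Module.length Ak (Ak ⧸ (maximalIdeal Rk).map (algebraMap Rk Ak)) = (p ^ n : ℕ∞) := by
      rw [length_fibre_eq_finrank Rk Ak hres, hrk, Nat.cast_pow]
    rw [hJ, (Algebra.TensorProduct.quotIdealMapEquivTensorQuot Ak (Ideal.span (Set.range a))).toLinearEquiv.length_eq,
      IsLocalRing.length_baseChange, h2, mul_comm]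

end Groth.Agent.WildQuot
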