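import Mathlib

/-!
# Automorphisms of a finite extension of domains are bounded by the rank
-/

set_option autoImplicit false

universe u v

namespace Groth.Agent.WildQuot

theorem finite_algEquiv_and_card_le_finrank (R : Type u) (A : Type v) [CommRing R] [IsDomain R]
    [CommRing A] [IsDomain A] [Algebra R A] [Module.Finite R A]
    (hinj : Function.Injective (algebraMap R A)) :
    Finite (A ≃ₐ[R] A) ∧ Nat.card (A ≃ₐ[R] A) ≤ Module.finrank R A := by
  classical
  obtain ⟨e, he⟩ := exists_linearIndependent_of_le_finrank (R := R) (M := A) (n := Module.finrank R A) le_rfl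
  have hspan : ∀ t : A, ∃ c : R, c ≠ 0 ∧ c • t ∈ Submodule.span R (Set.range e) := fun t => by
    by_contra! hcon
    have hli : LinearIndependent R (Fin.cons t e : Fin _ → A) := by
      refine he.finCons' t e fun c y hy hcy => by_contra fun hc => hcon c hc ?_
      rw [eq_neg_of_add_eq_zero_left hcy]
      exact neg_mem hy
    have := hli.fintype_card_le_finrank
    rw [Fintype.card_fin] at this
    omega
  let ev : (A →ₗ[R] A) →ₗ[A] (Fin (Module.finrank R A) → A) :=
    { toFun := fun f i => f (e i), map_add' := fun _ _ => rfl, map_smul' := fun _ _ => rfl }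
  have hev : LinearMap.ker ev = ⊥ := by
    rw [LinearMap.ker_eq_bot']
    intro f hf
    ext t
    obtain ⟨c, hc, hct⟩ := hspan t
    have h : Submodule.span R (Set.range e) ≤ LinearMap.ker f :=
      Submodule.span_le.mpr (by rintro _ ⟨i, rfl⟩; exact congrFun hf i)
    have h0 : f (c • t) = 0 := h hct
    rw [map_smul, Algebra.smul_def, mul_eq_zero] at h0
    exact h0.resolve_left fun h1 => hc (hinj (by rw [h1, map_zero]))
  have hind : LinearIndependent A fun σ : A ≃ₐ[R] A => ev σ.toAlgHom.toLinearMap :=
    ((linearIndependent_toLinearMap R A A).comp (fun σ : A ≃ₐ[R] A => σ.toAlgHom)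
      AlgEquiv.coe_toAlgHom_injective).map' ev hev
  have := hind.finite
  refine ⟨inferInstance, ?_⟩
  have := Fintype.ofFinite (A ≃ₐ[R] A)
  rw [Nat.card_eq_fintype_card]
  refine hind.fintype_card_le_finrank.trans ?_
  rw [Module.finrank_fintype_fun_eq_card, Fintype.card_fin]

end Groth.Agent.WildQuot
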