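import Groth.Agent.WildQuot.Translate

/-!
# Automorphisms and invariants of the Artin–Schreier family
-/

set_option autoImplicit false
set_option linter.unusedSectionVars false

universe u

namespace Groth.Agent.WildQuot

open MvPolynomial

variable {R : Type u} [CommRing R] [IsDomain R] {σ : Type} [Fintype σ] [DecidableEq σ] (p : ℕ) [Fact p.Prime]
  [CharP R p] (b x : σ → R) (a : σ → R)

local notation "𝔸" => MvPolynomial σ R ⧸ asIdeal p b x

variable (hb : ∀ i, b i = a i ^ (p - 1))

include hb in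
lemma hc_const (c : σ → ZMod p) (i : σ) :
    ((fun i => ZMod.castHom (dvd_refl p) R (c i) * a i) i) ^ p =
      b i * (fun i => ZMod.castHom (dvd_refl p) R (c i) * a i) i := by
  show (_ * _) ^ p = _ * (_ * _)
  rw [mul_pow, ← map_pow, ZMod.pow_card, hb, ← mul_pow_sub_one (Fact.out : p.Prime).ne_zero (a i)]
  ring

include hb in
/-- Elements fixed by all coordinate translations are constants. -/
theorem mem_range_of_fixed (ha : ∀ i, a i ≠ 0) (t : 𝔸)
    (h : ∀ c : σ → ZMod p, trans p b x _ (hc_const p b a hb c) t = t) : t ∈ Set.range (algebraMap R 𝔸) := by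
  classical
  let B := asBasis p b x
  let r := B.repr t
  by_contra hne
  have hex : ∃ e ∈ r.support, e ≠ (fun _ => ⟨0, (Fact.out : p.Prime).pos⟩) := by
    by_contra hall
    push Not at hall
    apply hne
    refine ⟨r (fun _ => ⟨0, (Fact.out : p.Prime).pos⟩), ?_⟩
    conv_rhs => rw [← B.linearCombination_repr t]
    rw [Finsupp.linearCombination_apply, Finsupp.sum, Finset.sum_eq_single (fun _ => ⟨0, (Fact.out : p.Prime).pos⟩)]
    · rw [asBasis_apply]
      simp [Algebra.algebraMap_eq_smul_one, r, B]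
    · intro e he hne'
      exact absurd (hall e he) hne'
    · intro h0
      rw [Finsupp.notMem_support_iff] at h0
      show r _ • _ = 0
      rw [h0, zero_smul]
  obtain ⟨e, heS, he0, hemax⟩ : ∃ e ∈ r.support, e ≠ (fun _ => ⟨0, (Fact.out : p.Prime).pos⟩) ∧
      ∀ e' ∈ r.support, ∑ i, (e' i : ℕ) ≤ ∑ i, (e i : ℕ) := by
    obtain ⟨e₀, he₀, he₀'⟩ := hex
    obtain ⟨e, he, hmax⟩ := Finset.exists_max_image r.support (fun e => ∑ i, (e i : ℕ)) ⟨e₀, he₀⟩
    refine ⟨e, he, fun h0 => he₀' (_root_.funext fun i => Fin.ext ?_), hmax⟩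
    have h1 := hmax e₀ he₀
    have h3 : ∑ j, (e j : ℕ) = 0 := Finset.sum_eq_zero fun j _ => by rw [h0]
    have h2 : (e₀ i : ℕ) ≤ ∑ j, (e₀ j : ℕ) := Finset.single_le_sum (fun j _ => Nat.zero_le (e₀ j : ℕ)) (Finset.mem_univ i)
    show (e₀ i : ℕ) = 0
    omega
  obtain ⟨i, hi⟩ := Function.ne_iff.mp he0
  have hipos : 0 < (e i : ℕ) := Nat.pos_of_ne_zero fun h' => hi (Fin.ext h')
  let f : σ → Fin p := Function.update e i ⟨(e i : ℕ) - 1, by have := (e i).isLt; omega⟩
  let c : σ → ZMod p := Pi.single i 1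
  have hcd : ∀ j, ZMod.castHom (dvd_refl p) R (c j) * a j = if j = i then a i else 0 := fun j => by
    rcases eq_or_ne j i with rfl | hj
    · simp only [c, Pi.single_eq_same, map_one, one_mul, if_true]
    · simp only [c, Pi.single_eq_of_ne hj, map_zero, zero_mul, if_neg hj]
  have key : ∀ e' : σ → Fin p, B.repr (trans p b x _ (hc_const p b a hb c) (B e')) f =
      ∏ j, (if j = i then a i else 0) ^ ((e' j : ℕ) - f j) * (((e' j : ℕ).choose (f j) : ℕ) : R) := fun e' => by
    rw [asBasis_apply, map_prod]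
    simp only [map_pow, trans_var]
    rw [repr_monomial_translate]
    simp only [hcd]
  have hsum : B.repr t f = ∑ e' ∈ r.support,
      r e' * ∏ j, (if j = i then a i else 0) ^ ((e' j : ℕ) - f j) * (((e' j : ℕ).choose (f j) : ℕ) : R) := by
    conv_lhs => rw [← h c, ← B.linearCombination_repr t]
    rw [Finsupp.linearCombination_apply, Finsupp.sum, map_sum, map_sum, Finsupp.finsetSum_apply]
    refine Finset.sum_congr rfl fun e' _ => ?_
    rw [map_smul, map_smul, Finsupp.smul_apply, key, smul_eq_mul]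
  have hfi : (f i : ℕ) = (e i : ℕ) - 1 := by simp [f]
  have hfj : ∀ j, j ≠ i → f j = e j := fun j hj => by simp [f, hj]
  have hne_ef : e ≠ f := fun h' => by
    have := congrArg (fun g : σ → Fin p => (g i : ℕ)) h'
    omega
  have hvanish : ∀ e' ∈ r.support, e' ≠ e → e' ≠ f →
      r e' * ∏ j, (if j = i then a i else 0) ^ ((e' j : ℕ) - f j) * (((e' j : ℕ).choose (f j) : ℕ) : R) = 0 := by
    intro e' he' hne1 hne2
    by_contra hp'
    have hfac : ∀ j, (if j = i then a i else (0 : R)) ^ ((e' j : ℕ) - f j) * (((e' j : ℕ).choose (f j) : ℕ) : R) ≠ 0 :=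
      fun j => (Finset.prod_ne_zero_iff.mp (right_ne_zero_of_mul hp')) j (Finset.mem_univ j)
    have hge : ∀ j, (f j : ℕ) ≤ e' j := fun j => by
      by_contra hlt
      exact hfac j (by rw [choose_eq_zero_of_lt (by omega), mul_zero])
    have heq : ∀ j, j ≠ i → e' j = e j := fun j hj => by
      rw [← hfj j hj]
      refine Fin.ext (le_antisymm ?_ (hge j))
      by_contra hgt
      exact hfac j (by rw [if_neg hj, zero_pow (by omega), zero_mul])
    have hi1 : (e i : ℕ) < e' i := by
      rcases lt_trichotomy (e i : ℕ) (e' i) with h' | h' | h'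
      · exact h'
      · exact absurd (_root_.funext fun j => if hj : j = i then hj ▸ Fin.ext h'.symm else heq j hj) hne1
      · refine absurd (_root_.funext fun j => ?_) hne2
        rcases eq_or_ne j i with rfl | hj
        · refine Fin.ext ?_
          have := hge j
          omega
        · rw [hfj j hj, heq j hj]
    have := hemax e' he'
    have hlt : ∑ j, (e j : ℕ) < ∑ j, (e' j : ℕ) := Finset.sum_lt_sum (fun j _ => by
      rcases eq_or_ne j i with rfl | hj
      · exact hi1.le
      · rw [heq j hj]) ⟨i, Finset.mem_univ i, hi1⟩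
    omega
  have hfterm : r f * ∏ j, (if j = i then a i else 0) ^ ((f j : ℕ) - f j) * (((f j : ℕ).choose (f j) : ℕ) : R) = r f := by
    simp
  have heterm : ∏ j, (if j = i then a i else 0) ^ ((e j : ℕ) - f j) * (((e j : ℕ).choose (f j) : ℕ) : R) = a i * (e i : ℕ) := by
    rw [Finset.prod_eq_single i]
    · rw [if_pos rfl, hfi, Nat.sub_sub_self hipos, pow_one, ← Nat.choose_symm (by omega : (e i : ℕ) - 1 ≤ e i),
        Nat.sub_sub_self hipos, Nat.choose_one_right]
    · intro j _ hj
      rw [hfj j hj]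
      simp
    · simp
  have hrest : ∑ e' ∈ r.support, r e' * ∏ j, (if j = i then a i else 0) ^ ((e' j : ℕ) - f j) *
      (((e' j : ℕ).choose (f j) : ℕ) : R) = r e * (a i * (e i : ℕ)) + r f := by
    by_cases hf : f ∈ r.support
    · rw [← Finset.add_sum_erase _ _ heS, ← Finset.add_sum_erase _ _ (Finset.mem_erase.mpr ⟨hne_ef.symm, hf⟩),
        Finset.sum_eq_zero (fun e' he' => hvanish e' (Finset.mem_of_mem_erase (Finset.mem_of_mem_erase he'))
          (Finset.ne_of_mem_erase (Finset.mem_of_mem_erase he')) (Finset.ne_of_mem_erase he')), hfterm, heterm, add_zero]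
    · rw [Finset.sum_eq_single_of_mem e heS (fun e' he' hne' => hvanish e' he' hne' fun h' => hf (h' ▸ he')),
        heterm, Finsupp.notMem_support_iff.mp hf, add_zero]
  rw [hrest] at hsum
  change r f = _ at hsum
  have h0 : r e * (a i * ((e i : ℕ) : R)) = 0 := by linear_combination -hsum
  have hcast : ((e i : ℕ) : R) ≠ 0 := fun h' => by
    have h1 := (CharP.cast_eq_zero_iff R p _).mp h'
    have h2 := Nat.le_of_dvd hipos h1
    have := (e i).isLt
    omega
  exact mul_ne_zero (Finsupp.mem_support_iff.mp heS) (mul_ne_zero (ha i) hcast) h0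

include hb in
/-- Every automorphism is a translation. -/
theorem exists_translation [IsDomain 𝔸] (hinj : Function.Injective (algebraMap R 𝔸)) (ha : ∀ i, a i ≠ 0)
    (τ : 𝔸 ≃ₐ[R] 𝔸) : ∃ c : σ → ZMod p, trans p b x _ (hc_const p b a hb c) = τ := by
  classical
  haveI : CharP 𝔸 p := charP_of_injective_algebraMap hinj p
  let L := FractionRing 𝔸
  haveI : CharP L p := charP_of_injective_algebraMap (IsFractionRing.injective 𝔸 L) p
  have hroot : ∀ z : L, z ^ p = z → ∃ c : ZMod p, ZMod.castHom (dvd_refl p) L c = z := fun z hz => by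
    by_contra hne
    push Not at hne
    let P : Polynomial L := Polynomial.X ^ p - Polynomial.X
    have hP : P ≠ 0 := FiniteField.X_pow_card_sub_X_ne_zero L (Fact.out : p.Prime).one_lt
    have hdeg : P.natDegree = p := FiniteField.X_pow_card_sub_X_natDegree_eq L (Fact.out : p.Prime).one_lt
    have hsub : insert z (Finset.univ.image (ZMod.castHom (dvd_refl p) L)) ⊆ P.roots.toFinset := by
      intro w hw
      rw [Multiset.mem_toFinset, Polynomial.mem_roots hP, Polynomial.IsRoot, Polynomial.eval_sub, Polynomial.eval_pow,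
        Polynomial.eval_X]
      rcases Finset.mem_insert.mp hw with rfl | hw
      · rw [hz, sub_self]
      · obtain ⟨c, -, rfl⟩ := Finset.mem_image.mp hw
        rw [← map_pow, ZMod.pow_card, sub_self]
    have hcard := (Finset.card_le_card hsub).trans ((Multiset.toFinset_card_le _).trans (Polynomial.card_roots' P))
    rw [Finset.card_insert_of_notMem (fun h' => by obtain ⟨c, -, hc⟩ := Finset.mem_image.mp h'; exact hne c hc),
      Finset.card_image_of_injective _ (ZMod.castHom (dvd_refl p) L).injective, Finset.card_univ, ZMod.card, hdeg] at hcard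
    omega
  have hex : ∀ i, ∃ c : ZMod p, τ (asVar p b x i) =
      asVar p b x i + algebraMap R 𝔸 (ZMod.castHom (dvd_refl p) R c * a i) := fun i => by
    let d := τ (asVar p b x i) - asVar p b x i
    let al := algebraMap R 𝔸 (a i)
    have hd : d ^ p = al ^ (p - 1) * d := by
      show (τ (asVar p b x i) - asVar p b x i) ^ p = al ^ (p - 1) * (τ (asVar p b x i) - asVar p b x i)
      rw [sub_pow_char, ← map_pow τ, asVar_pow, map_add, map_mul, AlgEquiv.commutes, AlgEquiv.commutes, hb, map_pow]
      ring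
    have hal : algebraMap 𝔸 L al ≠ 0 :=
      (map_ne_zero_iff _ (IsFractionRing.injective 𝔸 L)).mpr ((map_ne_zero_iff _ hinj).mpr (ha i))
    obtain ⟨c, hc⟩ := hroot (algebraMap 𝔸 L d / algebraMap 𝔸 L al) (by
      rw [div_pow, ← map_pow, hd, map_mul, map_pow, div_eq_div_iff (pow_ne_zero _ hal) hal]
      rw [← mul_pow_sub_one (Fact.out : p.Prime).ne_zero (algebraMap 𝔸 L al)]
      ring)
    refine ⟨c, ?_⟩
    have hcc : ZMod.castHom (dvd_refl p) L c = algebraMap 𝔸 L (algebraMap R 𝔸 (ZMod.castHom (dvd_refl p) R c)) :=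
      RingHom.congr_fun (Subsingleton.elim (ZMod.castHom (dvd_refl p) L)
        (((algebraMap 𝔸 L).comp (algebraMap R 𝔸)).comp (ZMod.castHom (dvd_refl p) R))) c
    rw [← sub_eq_iff_eq_add', map_mul]
    refine IsFractionRing.injective 𝔸 L ?_
    rw [map_mul, ← hcc, hc, div_mul_cancel₀ _ hal]
  choose c hc using hex
  exact ⟨c, algEquiv_ext p b x fun i => by rw [trans_var, hc i]⟩

include hb in
theorem card_algEquiv [IsDomain 𝔸] (hinj : Function.Injective (algebraMap R 𝔸)) (ha : ∀ i, a i ≠ 0) :
    Nat.card (𝔸 ≃ₐ[R] 𝔸) = p ^ Fintype.card σ ∧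
      (∀ f g : 𝔸 ≃ₐ[R] 𝔸, f * g = g * f) ∧ (∀ f : 𝔸 ≃ₐ[R] 𝔸, f ^ p = 1) := by
  let T : (σ → ZMod p) → (𝔸 ≃ₐ[R] 𝔸) := fun c => trans p b x _ (hc_const p b a hb c)
  have hT : Function.Bijective T := by
    refine ⟨fun c d h => _root_.funext fun i => ?_, exists_translation p b x a hb hinj ha⟩
    have h1 := AlgEquiv.congr_fun h (asVar p b x i)
    rw [trans_var, trans_var] at h1
    exact (ZMod.castHom (dvd_refl p) R).injective (mul_right_cancel₀ (ha i) (hinj (add_left_cancel h1)))
  have hmul : ∀ c d, T c * T d = T (c + d) := fun c d => algEquiv_ext p b x fun i => by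
    show T c (T d (asVar p b x i)) = _
    rw [trans_var, map_add, trans_var, AlgEquiv.commutes, trans_var, Pi.add_apply, map_add (ZMod.castHom _ R),
      add_mul, map_add]
    ring
  have hzero : T 0 = 1 := algEquiv_ext p b x fun i => by
    rw [trans_var]
    simp
  refine ⟨?_, fun f g => ?_, fun f => ?_⟩
  · rw [← Nat.card_eq_of_bijective T hT, Nat.card_fun, Nat.card_zmod, Nat.card_eq_fintype_card]
  · obtain ⟨c, rfl⟩ := hT.2 f
    obtain ⟨d, rfl⟩ := hT.2 g
    rw [hmul, hmul, add_comm]
  · obtain ⟨c, rfl⟩ := hT.2 f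
    have : ∀ m : ℕ, T c ^ m = T (m • c) := fun m => by
      induction m with
      | zero => rw [pow_zero, zero_smul, hzero]
      | succ m ih => rw [pow_succ, ih, hmul, succ_nsmul]
    rw [this, ← hzero]
    refine congrArg T (_root_.funext fun i => ?_)
    simp

end Groth.Agent.WildQuot
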