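import Groth.Agent.WildQuot.Family

/-!
# Coefficients in the monomial basis
-/

set_option autoImplicit false
set_option linter.unusedSectionVars false

universe u

namespace Groth.Agent.WildQuot

open MvPolynomial

variable {R : Type u} [CommRing R] [Nontrivial R] {σ : Type} [Fintype σ] [DecidableEq σ] (p : ℕ) [Fact p.Prime]
  (b x : σ → R)

lemma asBasis_repr_mk (q : MvPolynomial σ R) (e : σ → Fin p) :
    (asBasis p b x).repr (Ideal.Quotient.mk _ q) e = normalForm (asPoly p b x) p q e := by
  have hm := asPoly_monic p b x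
  let N : (MvPolynomial σ R ⧸ asIdeal p b x) →ₗ[R] ((σ → Fin p) → R) :=
    (Submodule.liftQ ((asIdeal p b x).restrictScalars R) (normalForm (asPoly p b x) p)
      fun y hy => LinearMap.mem_ker.mpr (normalForm_eq_zero hm (by
        rw [Submodule.restrictScalars_mem, asIdeal_eq] at hy; exact hy))) ∘ₗ
      (Submodule.Quotient.restrictScalarsEquiv R (asIdeal p b x)).symm.toLinearMap
  have h : N = (Finsupp.linearEquivFunOnFinite R R (σ → Fin p)).toLinearMap ∘ₗ (asBasis p b x).repr.toLinearMap := by
    refine (asBasis p b x).ext fun e' => funext fun f => ?_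
    show N ((asBasis p b x) e') f = (asBasis p b x).repr ((asBasis p b x) e') f
    rw [Module.Basis.repr_self, asBasis_apply, Finsupp.single_apply]
    have : ∏ i, asVar p b x i ^ (e' i : ℕ) = Ideal.Quotient.mk (asIdeal p b x)
        (monomial (Finsupp.equivFunOnFinite.symm fun i => (e' i : ℕ)) 1) := by
      rw [monomial_eq, C_1, one_mul, Finsupp.prod_fintype _ _ (fun i => pow_zero _), map_prod]
      refine Finset.prod_congr rfl fun i _ => ?_
      rw [map_pow, Finsupp.coe_equivFunOnFinite_symm]
      rfl
    rw [this]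
    show normalForm (asPoly p b x) p (monomial _ 1) f = _
    rw [normalForm_monomial, one_mul]
    have hk : ∀ i, (Polynomial.X : Polynomial R) ^ ((Finsupp.equivFunOnFinite.symm fun i => (e' i : ℕ)) i) %ₘ asPoly p b x i =
        Polynomial.X ^ (e' i : ℕ) := fun i => by
      rw [Finsupp.coe_equivFunOnFinite_symm, (Polynomial.modByMonic_eq_self_iff (hm i))]
      rw [Polynomial.degree_X_pow, Polynomial.degree_eq_natDegree (hm i).ne_zero, asPoly_natDegree]
      exact_mod_cast (e' i).isLt
    simp only [hk, Polynomial.coeff_X_pow]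
    split_ifs with hef
    · subst hef; simp
    · obtain ⟨i, hi⟩ := Function.ne_iff.mp hef
      exact Finset.prod_eq_zero (Finset.mem_univ i) (if_neg fun h' => hi (Fin.ext h').symm)
  exact (congrFun (LinearMap.congr_fun h (Ideal.Quotient.mk _ q)) e).symm

/-- Coefficients of a product of polynomials, one in each variable. -/
lemma asBasis_repr_prod (q : σ → Polynomial R) (e : σ → Fin p) :
    (asBasis p b x).repr (∏ i, Polynomial.aeval (asVar p b x i) (q i)) e =
      ∏ i, (q i %ₘ asPoly p b x i).coeff (e i) := by
  have h1 : ∏ i, Polynomial.aeval (asVar p b x i) (q i) =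
      Ideal.Quotient.mk (asIdeal p b x) (∏ i, Polynomial.aeval (X i : MvPolynomial σ R) (q i)) := by
    rw [map_prod]
    refine Finset.prod_congr rfl fun i _ => ?_
    exact (Polynomial.aeval_algHom_apply (Ideal.Quotient.mkₐ R (asIdeal p b x)) (X i) (q i))
  rw [h1, asBasis_repr_mk]
  let D := (Finset.univ.sup fun i => (q i).natDegree) + 1
  have hq : ∀ i, q i = ∑ t ∈ Finset.range D, (q i).coeff t • Polynomial.X ^ t := fun i => by
    conv_lhs => rw [(q i).as_sum_range' D (Nat.lt_succ_of_le (Finset.le_sup (f := fun i => (q i).natDegree) (Finset.mem_univ i)))]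
    simp [Polynomial.smul_X_eq_monomial]
  have hr : ∀ i, (q i %ₘ asPoly p b x i).coeff (e i) =
      ∑ t ∈ Finset.range D, (q i).coeff t * ((Polynomial.X ^ t) %ₘ asPoly p b x i).coeff (e i) := fun i => by
    conv_lhs => rw [hq i]
    rw [← Polynomial.modByMonicHom_apply, map_sum, Polynomial.finsetSum_coeff]
    refine Finset.sum_congr rfl fun t _ => ?_
    rw [map_smul, Polynomial.coeff_smul, smul_eq_mul, Polynomial.modByMonicHom_apply]
  simp only [hr]
  rw [Finset.prod_univ_sum]
  have hl : ∏ i, Polynomial.aeval (X i : MvPolynomial σ R) (q i) =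
      ∑ t ∈ Fintype.piFinset (fun _ : σ => Finset.range D),
        monomial (Finsupp.equivFunOnFinite.symm t) (∏ i, (q i).coeff (t i)) := by
    conv_lhs => arg 2; ext i; rw [hq i]
    simp only [map_sum, map_smul, Polynomial.aeval_X_pow]
    rw [Finset.prod_univ_sum]
    refine Finset.sum_congr rfl fun t _ => ?_
    rw [monomial_eq, Finsupp.prod_fintype _ _ (fun i => pow_zero _), map_prod, ← Finset.prod_mul_distrib]
    refine Finset.prod_congr rfl fun i _ => ?_
    rw [smul_eq_C_mul, Finsupp.coe_equivFunOnFinite_symm]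
  rw [hl, map_sum, Finset.sum_apply]
  refine Finset.sum_congr rfl fun t _ => ?_
  rw [normalForm_monomial, Finset.prod_mul_distrib, Finsupp.coe_equivFunOnFinite_symm]

/-- Powers below the degree are reduced. -/
lemma modByMonic_eq_self_of_natDegree_lt (q : Polynomial R) (i : σ) (hq : q.natDegree < p) :
    q %ₘ asPoly p b x i = q := by
  rcases eq_or_ne q 0 with rfl | h0
  · simp
  rw [Polynomial.modByMonic_eq_self_iff (asPoly_monic p b x i), Polynomial.degree_eq_natDegree h0,
    Polynomial.degree_eq_natDegree (asPoly_monic p b x i).ne_zero, asPoly_natDegree]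
  exact_mod_cast hq

end Groth.Agent.WildQuot
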