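import Mathlib

/-!
# Determinants of conjugates and discriminants for finite group actions
-/

set_option autoImplicit false
set_option linter.unusedSectionVars false

universe u w

namespace Groth.Agent.WildQuot

open Matrix

variable {A : Type u} [CommRing A] {G : Type w} [Group G] [Fintype G] [DecidableEq G] [MulSemiringAction G A]

/-- The matrix of conjugates of a family. -/
def conjMat (a : G → A) : Matrix G G A := Matrix.of fun σ τ => σ • a τ

/-- The matrix of traces of products of a family. -/
def traceMat (a : G → A) : Matrix G G A := (conjMat a)ᵀ * conjMat a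

lemma fixed_iff (a : A) : a ∈ FixedPoints.subring A G ↔ ∀ σ : G, σ • a = a := Iff.rfl

lemma smul_fixed_mul (σ : G) (f : FixedPoints.subring A G) (x : A) : σ • (f • x) = f • σ • x := by
  rw [Subring.smul_def, Subring.smul_def, smul_eq_mul, smul_eq_mul, smul_mul', f.2 σ]

lemma traceMat_smul (a : G → A) (ρ : G) : (traceMat a).map (MulSemiringAction.toRingHom G A ρ) = traceMat a := by
  ext τ τ'
  simp only [traceMat, conjMat, Matrix.map_apply, Matrix.mul_apply, transpose_apply, of_apply, map_sum, map_mul,
    MulSemiringAction.toRingHom_apply, ← mul_smul]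
  exact Equiv.sum_comp (Equiv.mulLeft ρ) fun σ : G => σ • a τ * σ • a τ'

lemma sq_det_conjMat_mem (a : G → A) : (conjMat a).det ^ 2 ∈ FixedPoints.subring A G := fun ρ => by
  have h : (conjMat a).det ^ 2 = (traceMat a).det := by
    rw [traceMat, det_mul, det_transpose, sq]
  rw [h]
  show MulSemiringAction.toRingHom G A ρ (traceMat a).det = _
  rw [RingHom.map_det, RingHom.mapMatrix_apply, traceMat_smul]

/-- Cramer's rule for traces. -/
theorem exists_sq_det_mul_eq (a : G → A) (x : A) :
    ∃ c : G → FixedPoints.subring A G, (conjMat a).det ^ 2 * x = ∑ τ, (c τ : A) * a τ := by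
  let w : G → A := fun σ => σ • x
  let c : G → A := (traceMat a).adjugate *ᵥ ((conjMat a)ᵀ *ᵥ w)
  have hc : ∀ τ, c τ ∈ FixedPoints.subring A G := fun τ ρ => by
    show MulSemiringAction.toRingHom G A ρ (((traceMat a).adjugate *ᵥ ((conjMat a)ᵀ *ᵥ w)) τ) = _
    rw [RingHom.map_mulVec, ← RingHom.mapMatrix_apply, RingHom.map_adjugate, RingHom.mapMatrix_apply, traceMat_smul]
    refine congrArg (fun v : G → A => ((traceMat a).adjugate *ᵥ v) τ) (funext fun τ' => ?_)
    simp only [Function.comp_apply, mulVec, dotProduct, conjMat, transpose_apply, of_apply, map_sum, map_mul,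
      MulSemiringAction.toRingHom_apply, w, ← mul_smul]
    exact Equiv.sum_comp (Equiv.mulLeft ρ) fun σ : G => σ • a τ' * σ • x
  have h : conjMat a *ᵥ c = ((conjMat a).det ^ 2) • w := by
    show conjMat a *ᵥ ((traceMat a).adjugate *ᵥ ((conjMat a)ᵀ *ᵥ w)) = _
    rw [traceMat, adjugate_mul_distrib, mulVec_mulVec, mulVec_mulVec, mul_assoc, mul_assoc, adjugate_mul,
      det_transpose, mul_smul_comm, mul_one, mul_smul_comm, mul_adjugate, smul_smul, ← sq, smul_mulVec, one_mulVec]
  refine ⟨fun τ => ⟨c τ, hc τ⟩, ?_⟩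
  have h1 := congrFun h 1
  simp only [mulVec, dotProduct, conjMat, of_apply, one_smul, Pi.smul_apply, smul_eq_mul, w] at h1
  rw [← conjMat] at h1
  rw [← h1]
  exact Finset.sum_congr rfl fun τ _ => mul_comm _ _

/-- A family with nonzero determinant of conjugates is independent over the invariants. -/
theorem linearIndependent_of_det_ne_zero [IsDomain A] (a : G → A) (ha : (conjMat a).det ≠ 0) :
    LinearIndependent (FixedPoints.subring A G) a := by
  refine Fintype.linearIndependent_iff.mpr fun c hc τ => ?_
  have h : conjMat a *ᵥ (fun τ => (c τ : A)) = 0 := funext fun σ => by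
    have h1 := congrArg (σ • ·) hc
    simp only [Finset.smul_sum, smul_zero, smul_fixed_mul] at h1
    rw [Pi.zero_apply, ← h1]
    exact Finset.sum_congr rfl fun τ _ => mul_comm _ _
  exact Subtype.ext (congrFun (Matrix.eq_zero_of_mulVec_eq_zero ha h) τ)

section inertia

variable (Q : Ideal A) [Q.IsPrime] (hQ : Q.inertia G = ⊥)

include hQ in
theorem linearIndependent_conj :
    LinearIndependent (FractionRing (A ⧸ Q)) fun σ : G => fun a : A => algebraMap A (FractionRing (A ⧸ Q)) (σ • a) := by
  refine (linearIndependent_monoidHom A (FractionRing (A ⧸ Q))).comp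
    (fun σ => ((algebraMap A (FractionRing (A ⧸ Q))).comp (MulSemiringAction.toRingHom G A σ)).toMonoidHom) ?_
  intro σ τ h
  have h1 : σ * τ⁻¹ ∈ Q.inertia G := fun a => by
    have h2 := DFunLike.congr_fun h (τ⁻¹ • a)
    change algebraMap A (FractionRing (A ⧸ Q)) (σ • τ⁻¹ • a) = algebraMap A _ (τ • τ⁻¹ • a) at h2
    rw [smul_inv_smul] at h2
    rw [IsScalarTower.algebraMap_apply A (A ⧸ Q), IsScalarTower.algebraMap_apply A (A ⧸ Q) _ a] at h2
    rw [mul_smul]
    exact (Ideal.Quotient.mk_eq_mk_iff_sub_mem _ _).mp (IsFractionRing.injective (A ⧸ Q) _ h2)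
  rw [hQ, Subgroup.mem_bot] at h1
  exact mul_inv_eq_one.mp h1

include hQ in
theorem det_notMem_of_span (a : G → A) (hspan : Submodule.span (FixedPoints.subring A G) (Set.range a) = ⊤) :
    (conjMat a).det ∉ Q := by
  intro hdet
  let f := algebraMap A (FractionRing (A ⧸ Q))
  have h0 : ((conjMat a).map f).det = 0 := by
    rw [← RingHom.mapMatrix_apply, ← RingHom.map_det]
    show f _ = 0
    rw [show f = (algebraMap (A ⧸ Q) (FractionRing (A ⧸ Q))).comp (Ideal.Quotient.mk Q) from rfl, RingHom.comp_apply,
      Ideal.Quotient.eq_zero_iff_mem.mpr hdet, map_zero]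
  obtain ⟨c, hc0, hc⟩ := Matrix.exists_vecMul_eq_zero_iff.mpr h0
  apply hc0
  refine _root_.funext (Fintype.linearIndependent_iff.mp (linearIndependent_conj Q hQ) c (_root_.funext fun x => ?_))
  have hx : x ∈ Submodule.span (FixedPoints.subring A G) (Set.range a) := hspan ▸ Submodule.mem_top
  simp only [Finset.sum_apply, Pi.smul_apply, Pi.zero_apply, smul_eq_mul]
  induction hx using Submodule.span_induction with
  | mem y hy =>
    obtain ⟨τ, rfl⟩ := hy
    exact congrFun hc τ
  | zero => simp
  | add y z _ _ hy hz => simp only [smul_add, map_add, mul_add, Finset.sum_add_distrib, hy, hz, add_zero]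
  | smul r y _ hy =>
    have hr : ∀ σ : G, σ • (r : A) = r := r.2
    simp only [Subring.smul_def, smul_eq_mul, smul_mul', hr, map_mul, mul_left_comm _ (algebraMap A _ (r : A)),
      ← Finset.mul_sum, hy, mul_zero]

include hQ in
theorem exists_det_notMem : ∃ a : G → A, (conjMat a).det ∉ Q := by
  let K := FractionRing (A ⧸ Q)
  let v : A → G → K := fun x σ => algebraMap A K (σ • x)
  have hspan : Submodule.span K (Set.range v) = ⊤ := by
    by_contra hne
    obtain ⟨φ, hφ0, hφ⟩ := Submodule.exists_dual_map_eq_bot_of_lt_top (lt_top_iff_ne_top.mpr hne) inferInstance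
    apply hφ0
    have h := Fintype.linearIndependent_iff.mp (linearIndependent_conj Q hQ) (fun σ => φ (Pi.single σ 1))
      (_root_.funext fun x => ?_)
    · exact LinearMap.pi_ext' fun σ => LinearMap.ext_ring (by simpa using h σ)
    · simp only [Finset.sum_apply, Pi.smul_apply, Pi.zero_apply, smul_eq_mul]
      have h1 : φ (v x) = 0 := by
        have : φ (v x) ∈ (Submodule.span K (Set.range v)).map φ := ⟨v x, Submodule.subset_span ⟨x, rfl⟩, rfl⟩
        rwa [hφ, Submodule.mem_bot] at this
      rw [← h1]
      conv_rhs => rw [pi_eq_sum_univ' (v x), map_sum]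
      refine Finset.sum_congr rfl fun σ _ => ?_
      rw [LinearMap.map_smul, smul_eq_mul, mul_comm]
  obtain ⟨t, ht, hts, hli⟩ := exists_linearIndependent K (Set.range v)
  let b := Module.Basis.mk hli (by rw [Subtype.range_coe, hts, hspan])
  let e : t ≃ G := b.indexEquiv (Pi.basisFun K G)
  have hex : ∀ τ : G, ∃ x, v x = b (e.symm τ) := fun τ => by
    rw [Module.Basis.mk_apply]
    exact ht (e.symm τ).2
  choose a ha using hex
  refine ⟨a, fun hdet => ?_⟩
  have h0 : ((conjMat a).map (algebraMap A K)).det = 0 := by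
    rw [← RingHom.mapMatrix_apply, ← RingHom.map_det, IsScalarTower.algebraMap_apply A (A ⧸ Q),
      Ideal.Quotient.algebraMap_eq, Ideal.Quotient.eq_zero_iff_mem.mpr hdet, map_zero]
  have h1 : IsUnit ((conjMat a).map (algebraMap A K)) := by
    rw [← Matrix.linearIndependent_cols_iff_isUnit]
    have h2 : ((conjMat a).map (algebraMap A K)).col = fun τ => b (e.symm τ) := _root_.funext fun τ => by
      rw [← ha τ]; rfl
    rw [h2]
    exact b.linearIndependent.comp _ e.symm.injective
  exact ((Matrix.isUnit_iff_isUnit_det _).mp h1).ne_zero h0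

end inertia

end Groth.Agent.WildQuot
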