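import Groth.Agent.WildQuot.Lift
import Groth.Agent.AuslBuchs.Ufd

/-!
# Invariants of hyperplanes of translations
-/

set_option autoImplicit false
set_option linter.unusedSectionVars false
set_option quotPrecheck false

universe u

namespace Groth.Agent.WildQuot

open MvPolynomial

variable {R : Type u} [CommRing R] [IsDomain R] {σ : Type} [Fintype σ] [DecidableEq σ] (p : ℕ) [Fact p.Prime]
  [CharP R p] (x a : σ → R) (μ : R) (s : σ → ZMod p)

local notation "bA" => (fun i => (μ * a i) ^ (p - 1))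
local notation "𝔸" => MvPolynomial σ R ⧸ asIdeal p (fun i => (μ * a i) ^ (p - 1)) x

/-- The scalars of the hyperplane. -/
noncomputable def hsC (i : σ) : R := ZMod.castHom (dvd_refl p) R (s i)

/-- The product over the support. -/
noncomputable def hsAlpha : R := ∏ i ∈ Finset.univ.filter (fun i => s i ≠ 0), a i

/-- The product over the support without one index. -/
noncomputable def hsAlphaI (i : σ) : R := ∏ j ∈ (Finset.univ.filter (fun j => s j ≠ 0)).erase i, a j

/-- The invariant element. -/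
noncomputable def hsZ : 𝔸 :=
  ∑ i ∈ Finset.univ.filter (fun i => s i ≠ 0), algebraMap R 𝔸 (hsC p s i * hsAlphaI p a s i) * asVar p bA x i

/-- The constant of the equation of the invariant element. -/
noncomputable def hsXi : R :=
  ∑ i ∈ Finset.univ.filter (fun i => s i ≠ 0), hsC p s i * hsAlphaI p a s i ^ p * x i

lemma hs_alphaI_mul {i : σ} (hi : s i ≠ 0) : hsAlphaI p a s i * a i = hsAlpha p a s := by
  rw [mul_comm]
  exact Finset.mul_prod_erase _ a (Finset.mem_filter.mpr ⟨Finset.mem_univ i, hi⟩)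

lemma hsC_pow (i : σ) : hsC (R := R) p s i ^ p = hsC p s i := by
  rw [hsC, ← map_pow, ZMod.pow_card]

lemma as_module_free : Module.Free R 𝔸 := Module.Free.of_basis (asBasis p bA x)

theorem hsZ_pow : hsZ p x a μ s ^ p =
    algebraMap R 𝔸 ((μ * hsAlpha p a s) ^ (p - 1)) * hsZ p x a μ s + algebraMap R 𝔸 (hsXi p x a s) := by
  haveI := as_module_free p x a μ
  haveI : Nontrivial 𝔸 := (asBasis p bA x).repr.toEquiv.nontrivial
  haveI : CharP 𝔸 p := charP_of_injective_algebraMap (FaithfulSMul.algebraMap_injective R 𝔸) p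
  have hp : ∀ t : R, t ^ p = t ^ (p - 1) * t := fun t => (pow_sub_one_mul (Fact.out : p.Prime).ne_zero t).symm
  rw [hsZ, sum_pow_char, hsXi, map_sum, Finset.mul_sum, ← Finset.sum_add_distrib]
  refine Finset.sum_congr rfl fun i hi => ?_
  rw [mul_pow, ← map_pow, mul_pow, hsC_pow, asVar_pow, ← hs_alphaI_mul p a s (Finset.mem_filter.mp hi).2,
    hp (hsAlphaI p a s i)]
  simp only [map_mul, map_pow, mul_pow]
  ring

/-- The translation attached to a vector. -/
noncomputable def hsTr (ν : σ → ZMod p) : σ → R := fun j => ZMod.castHom (dvd_refl p) R (ν j) * (μ * a j)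

lemma hsTr_eqn (ν : σ → ZMod p) (j : σ) : hsTr p a μ ν j ^ p = bA j * hsTr p a μ ν j := by
  rw [hsTr, mul_pow, ← map_pow, ZMod.pow_card, ← pow_sub_one_mul (Fact.out : p.Prime).ne_zero (μ * a j)]
  ring

theorem hsTr_hsZ (ν : σ → ZMod p) :
    transHom p bA x _ (hsTr_eqn p a μ ν) (hsZ p x a μ s) =
      hsZ p x a μ s + algebraMap R 𝔸 (ZMod.castHom (dvd_refl p) R (∑ i, ν i * s i) * (μ * hsAlpha p a s)) := by
  rw [hsZ, map_sum (transHom p bA x _ (hsTr_eqn p a μ ν))]
  simp only [map_mul, AlgHom.commutes, transHom_var, mul_add, Finset.sum_add_distrib]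
  congr 1
  rw [← Finset.sum_filter_of_ne (s := Finset.univ) (f := fun i => ν i * s i) (p := fun i => s i ≠ 0)
    (fun i _ h => right_ne_zero_of_mul h), map_sum, map_sum, Finset.sum_mul]
  refine Finset.sum_congr rfl fun i hi => ?_
  rw [← hs_alphaI_mul p a s (Finset.mem_filter.mp hi).2, hsTr, hsC]
  simp only [map_mul]
  ring

variable (i₀ : σ)

local notation "bH" => (fun j : σ => if j = i₀ then (μ * hsAlpha p a s) ^ (p - 1) else (μ * a j) ^ (p - 1))
local notation "xH" => (fun j : σ => if j = i₀ then hsXi p x a s else x j)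
local notation "ℍ" => MvPolynomial σ R ⧸ asIdeal p (fun j : σ => if j = i₀ then (μ * hsAlpha p a s) ^ (p - 1) else (μ * a j) ^ (p - 1)) (fun j : σ => if j = i₀ then hsXi p x a s else x j)

theorem hsLift_eqns (j : σ) : (fun j : σ => if j = i₀ then hsZ p x a μ s else asVar p bA x j) j ^ p =
    algebraMap R 𝔸 (bH j) * (fun j : σ => if j = i₀ then hsZ p x a μ s else asVar p bA x j) j +
      algebraMap R 𝔸 (xH j) := by
  by_cases hj : j = i₀
  · simp only [if_pos hj]
    exact hsZ_pow p x a μ s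
  · simp only [if_neg hj]
    exact asVar_pow p bA x j

/-- The change of variables by the invariant element. -/
noncomputable def hsLift : ℍ →ₐ[R] 𝔸 := asLift p bH xH _ (hsLift_eqns p x a μ s i₀)

theorem hsLift_var_self : hsLift p x a μ s i₀ (asVar p bH xH i₀) = hsZ p x a μ s := by
  rw [hsLift, asLift_var, if_pos rfl]

theorem hsLift_var_ne {j : σ} (hj : j ≠ i₀) : hsLift p x a μ s i₀ (asVar p bH xH j) = asVar p bA x j := by
  rw [hsLift, asLift_var, if_neg hj]

lemma hs_smul_def (r : R) (t : 𝔸) : r • t = algebraMap R 𝔸 r * t := Algebra.smul_def r t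

theorem exists_pow_smul_mem_hsLift (hi₀ : s i₀ ≠ 0) (t : 𝔸) :
    (hsC p s i₀ * hsAlphaI p a s i₀) ^ (Fintype.card σ * p) • t ∈ (hsLift p x a μ s i₀).range := by
  refine pow_smul_mem p bA x _ _ (fun j => ?_) t
  by_cases hj : j = i₀
  · rw [hj, hs_smul_def p x a μ, show algebraMap R 𝔸 (hsC p s i₀ * hsAlphaI p a s i₀) * asVar p bA x i₀ =
      hsZ p x a μ s - ∑ i ∈ (Finset.univ.filter fun i => s i ≠ 0).erase i₀,
        algebraMap R 𝔸 (hsC p s i * hsAlphaI p a s i) * asVar p bA x i by
      rw [hsZ, ← Finset.add_sum_erase _ _ (Finset.mem_filter.mpr ⟨Finset.mem_univ i₀, hi₀⟩), add_sub_cancel_right]]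
    refine Subalgebra.sub_mem _ ((AlgHom.mem_range _).mpr ⟨_, hsLift_var_self p x a μ s i₀⟩)
      (Subalgebra.sum_mem _ fun i hi => Subalgebra.mul_mem _ (Subalgebra.algebraMap_mem _ _)
        ((AlgHom.mem_range _).mpr ⟨_, hsLift_var_ne p x a μ s i₀ (Finset.ne_of_mem_erase hi)⟩))
  · exact Subalgebra.smul_mem _ ((AlgHom.mem_range _).mpr ⟨_, hsLift_var_ne p x a μ s i₀ hj⟩) _

theorem hsLift_injective (hi₀ : s i₀ ≠ 0) (hd : hsC p s i₀ * hsAlphaI p a s i₀ ≠ 0) :
    Function.Injective (hsLift p x a μ s i₀) :=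
  asLift_injective p bA x _ _ (pow_ne_zero _ hd) fun _ => exists_pow_smul_mem_hsLift p x a μ s i₀ hi₀ _

/-- The coefficients of a polynomial in one variable of the family. -/
theorem repr_aeval_var (b' x' : σ → R) (i : σ) (q : Polynomial R) (hq : q.natDegree < p) (e : σ → Fin p) :
    (asBasis p b' x').repr (Polynomial.aeval (asVar p b' x' i) q) e =
      if ∀ j, j ≠ i → (e j : ℕ) = 0 then q.coeff (e i) else 0 := by
  have h := asBasis_repr_prod p b' x' (fun j => if j = i then q else 1) e
  have h1 : ∏ j, Polynomial.aeval (asVar p b' x' j) (if j = i then q else 1) = Polynomial.aeval (asVar p b' x' i) q := by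
    rw [Finset.prod_eq_single i (fun j _ hj => by rw [if_neg hj, map_one]) (fun h => absurd (Finset.mem_univ i) h),
      if_pos rfl]
  rw [h1] at h
  rw [h]
  have h2 : ∀ j, (if j = i then q else 1) %ₘ asPoly p b' x' j = if j = i then q else 1 := fun j => by
    refine modByMonic_eq_self_of_natDegree_lt p b' x' _ j ?_
    split_ifs
    · exact hq
    · rw [Polynomial.natDegree_one]; exact (Fact.out : p.Prime).pos
  simp only [h2]
  split_ifs with hall
  · rw [Finset.prod_eq_single i (fun j _ hj => by rw [if_neg hj, hall j hj, Polynomial.coeff_one_zero])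
      (fun h => absurd (Finset.mem_univ i) h), if_pos rfl]
  · push Not at hall
    obtain ⟨j, hj, hj'⟩ := hall
    refine Finset.prod_eq_zero (Finset.mem_univ j) ?_
    rw [if_neg hj, Polynomial.coeff_one, if_neg hj']

variable (hi₀ : s i₀ ≠ 0)

include hi₀ in
theorem hs_aeval_injective (hd : hsC p s i₀ * hsAlphaI p a s i₀ ≠ 0) (q : Polynomial R) (hq : q.natDegree < p)
    (h : Polynomial.aeval (hsZ p x a μ s) q = 0) : q = 0 := by
  have h1 : Polynomial.aeval (asVar p bH xH i₀) q = 0 := by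
    apply hsLift_injective p x a μ s i₀ hi₀ hd
    rw [map_zero, ← Polynomial.aeval_algHom_apply, hsLift_var_self, h]
  ext m
  rw [Polynomial.coeff_zero]
  rcases lt_or_ge m p with hm | hm
  · have h2 := repr_aeval_var p bH xH i₀ q hq (Function.update (fun _ => ⟨0, (Fact.out : p.Prime).pos⟩) i₀ ⟨m, hm⟩)
    rw [h1, if_pos (fun j hj => by rw [Function.update_of_ne hj]), Function.update_self, map_zero, Finsupp.zero_apply] at h2
    exact h2.symm
  · exact Polynomial.coeff_eq_zero_of_natDegree_lt (hq.trans_le hm)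

include hi₀ in
/-- Invariants are polynomials in the invariant element, up to a scalar. -/
theorem exists_smul_eq_aeval (hd : hsC p s i₀ * hsAlphaI p a s i₀ ≠ 0) (hμ : μ ≠ 0) (ha : ∀ i, a i ≠ 0) (t : 𝔸)
    (ht : ∀ ν : σ → ZMod p, ∑ i, ν i * s i = 0 → transHom p bA x _ (hsTr_eqn p a μ ν) t = t) :
    ∃ q : Polynomial R, q.natDegree < p ∧
      Polynomial.aeval (hsZ p x a μ s) q = (hsC p s i₀ * hsAlphaI p a s i₀) ^ (Fintype.card σ * p) • t := by
  obtain ⟨e, he⟩ := (AlgHom.mem_range _).mp (exists_pow_smul_mem_hsLift p x a μ s i₀ hi₀ t)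
  have hzero : ∀ j, j ≠ i₀ → ∀ f : σ → Fin p, 0 < (f j : ℕ) → (asBasis p bH xH).repr e f = 0 := by
    intro j hj
    have hdc : ∀ l, (Pi.single j (μ * a j) : σ → R) l ^ p = bH l * (Pi.single j (μ * a j) : σ → R) l := fun l => by
      by_cases hl : l = j
      · rw [hl, Pi.single_eq_same]
        simp only [if_neg hj]
        rw [pow_sub_one_mul (Fact.out : p.Prime).ne_zero]
      · rw [Pi.single_eq_of_ne hl, zero_pow (Fact.out : p.Prime).ne_zero, mul_zero]
    let ν : σ → ZMod p := Pi.single j 1 + Pi.single i₀ (-(s j / s i₀))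
    have hν : ∑ i, ν i * s i = 0 := by
      simp only [ν, Pi.add_apply, add_mul, Finset.sum_add_distrib]
      rw [Finset.sum_eq_single j (fun b _ hb => by rw [Pi.single_eq_of_ne hb, zero_mul]) (by simp),
        Finset.sum_eq_single i₀ (fun b _ hb => by rw [Pi.single_eq_of_ne hb, zero_mul]) (by simp),
        Pi.single_eq_same, Pi.single_eq_same, neg_mul, div_mul_cancel₀ _ hi₀]
      ring
    have hcomm : (transHom p bA x _ (hsTr_eqn p a μ ν)).comp (hsLift p x a μ s i₀) =
        (hsLift p x a μ s i₀).comp (transHom p bH xH _ hdc) := as_algHom_ext p bH xH fun l => by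
      rw [AlgHom.comp_apply, AlgHom.comp_apply, transHom_var, map_add, AlgHom.commutes]
      by_cases hl : l = i₀
      · rw [hl, hsLift_var_self, hsTr_hsZ, hν, map_zero, zero_mul, Pi.single_eq_of_ne (Ne.symm hj)]
      · rw [hsLift_var_ne p x a μ s i₀ hl, transHom_var]
        congr 2
        by_cases hlj : l = j
        · rw [hlj, Pi.single_eq_same]
          simp [hsTr, ν, hj]
        · rw [Pi.single_eq_of_ne hlj]
          simp [hsTr, ν, hl, hlj]
    have hfix : transHom p bH xH _ hdc e = e := by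
      apply hsLift_injective p x a μ s i₀ hi₀ hd
      have h1 := AlgHom.congr_fun hcomm e
      rw [AlgHom.comp_apply, AlgHom.comp_apply] at h1
      rw [← h1, he, hs_smul_def p x a μ, map_mul, AlgHom.commutes, ht ν hν]
    exact repr_eq_zero_of_transHom_fixed p bH xH j _ (mul_ne_zero hμ (ha j)) hdc e hfix
  let E : Fin p → σ → Fin p := fun m => Function.update (fun _ => ⟨0, (Fact.out : p.Prime).pos⟩) i₀ m
  let q : Polynomial R := ∑ m : Fin p, Polynomial.monomial (m : ℕ) ((asBasis p bH xH).repr e (E m))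
  have hq : q.natDegree < p := by
    have := (Fact.out : p.Prime).pos
    refine lt_of_le_of_lt (Polynomial.natDegree_sum_le_of_forall_le _ _ (n := p - 1) fun m _ => ?_) (by omega)
    refine (Polynomial.natDegree_monomial_le _).trans ?_
    have := m.isLt
    omega
  refine ⟨q, hq, ?_⟩
  rw [← he, ← hsLift_var_self p x a μ s i₀, Polynomial.aeval_algHom_apply]
  refine congrArg _ ((asBasis p bH xH).repr.injective (Finsupp.ext fun f => ?_))
  rw [repr_aeval_var p bH xH i₀ q hq]
  split_ifs with hall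
  · have hf : f = E (f i₀) := _root_.funext fun l => by
      by_cases hl : l = i₀
      · simp [E, hl]
      · simp only [E, Function.update_of_ne hl]
        exact Fin.ext (hall l hl)
    conv_rhs => rw [hf]
    simp only [q, Polynomial.finsetSum_coeff, Polynomial.coeff_monomial]
    rw [Finset.sum_eq_single (f i₀) (fun m _ hm => if_neg fun h => hm (Fin.ext h)) (by simp), if_pos rfl]
  · push Not at hall
    obtain ⟨l, hl, hl'⟩ := hall
    exact (hzero l hl f (Nat.pos_of_ne_zero hl')).symm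

theorem dvd_of_forall_dvd_mul [UniqueFactorizationMonoid R] (hs : s ≠ 0)
    (hcop : ∀ i j, i ≠ j → IsRelPrime (a i) (a j)) (D : R) (hD : D ≠ 0) :
    ∀ (r : R) (m : ℕ), (∀ i, s i ≠ 0 → D ∣ r * (hsC p s i * hsAlphaI p a s i) ^ m) → D ∣ r := by
  induction D using UniqueFactorizationMonoid.induction_on_prime with
  | h₁ => exact absurd rfl hD
  | h₂ y hy => exact fun r m _ => hy.dvd
  | h₃ y q hy hq ih =>
    intro r m h
    obtain ⟨i, hi, hiq⟩ : ∃ i, s i ≠ 0 ∧ ¬ q ∣ hsAlphaI p a s i := by
      obtain ⟨i₁, hi₁⟩ := Function.ne_iff.mp hs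
      by_cases h₁ : q ∣ hsAlphaI p a s i₁
      · obtain ⟨j, hj, hqj⟩ := hq.exists_mem_finset_dvd h₁
        refine ⟨j, (Finset.mem_filter.mp (Finset.mem_of_mem_erase hj)).2, fun h₂ => ?_⟩
        obtain ⟨l, hl, hql⟩ := hq.exists_mem_finset_dvd h₂
        exact hq.not_unit (hcop l j (Finset.ne_of_mem_erase hl) hql hqj)
      · exact ⟨i₁, hi₁, h₁⟩
    have hu : IsUnit (hsC (R := R) p s i) := (Ne.isUnit hi).map _
    have hqr : q ∣ r := by
      rcases hq.dvd_or_dvd ((dvd_mul_right q y).trans (h i hi)) with h1 | h1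
      · exact h1
      · rcases hq.dvd_or_dvd (hq.dvd_of_dvd_pow h1) with h2 | h2
        · exact absurd (isUnit_of_dvd_unit h2 hu) hq.not_unit
        · exact absurd h2 hiq
    obtain ⟨r', rfl⟩ := hqr
    refine mul_dvd_mul_left q (ih hy r' m fun l hl => ?_)
    have := h l hl
    rw [mul_assoc] at this
    exact (mul_dvd_mul_iff_left hq.ne_zero).mp this

theorem repr_pow_mul_fixed (i : σ) (d : R) (hd : d ≠ 0)
    (hdc : ∀ j, (Pi.single i d : σ → R) j ^ p = bA j * (Pi.single i d : σ → R) j) (w : 𝔸)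
    (hw : transHom p bA x (Pi.single i d) hdc w = w) (j : ℕ) (hj : j < p) (m : Fin p) :
    (asBasis p bA x).repr (asVar p bA x i ^ j * w) (Function.update (fun _ => ⟨0, (Fact.out : p.Prime).pos⟩) i m) =
      if j = m then (asBasis p bA x).repr w (fun _ => ⟨0, (Fact.out : p.Prime).pos⟩) else 0 := by
  let B := asBasis p bA x
  let z0 : σ → Fin p := fun _ => ⟨0, (Fact.out : p.Prime).pos⟩
  have hmul : ∀ e : σ → Fin p, (e i : ℕ) = 0 → asVar p bA x i ^ j * B e = B (Function.update e i ⟨j, hj⟩) := fun e he => by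
    rw [asBasis_apply, asBasis_apply, ← Finset.mul_prod_erase Finset.univ _ (Finset.mem_univ i),
      ← Finset.mul_prod_erase Finset.univ _ (Finset.mem_univ i)]
    rw [he, pow_zero, one_mul, Function.update_self]
    congr 1
    exact Finset.prod_congr rfl fun l hl => by rw [Function.update_of_ne (Finset.ne_of_mem_erase hl)]
  conv_lhs => rw [← B.sum_repr w]
  rw [Finset.mul_sum, map_sum, Finsupp.finsetSum_apply]
  rw [Finset.sum_eq_single z0]
  · rw [mul_smul_comm, hmul z0 rfl, map_smul, Finsupp.smul_apply, Module.Basis.repr_self, Finsupp.single_apply, smul_eq_mul]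
    by_cases hjm : j = (m : ℕ)
    · have hm : (⟨j, hj⟩ : Fin p) = m := Fin.ext hjm
      rw [hm, if_pos rfl, if_pos hjm, mul_one]
    · rw [if_neg, if_neg hjm, mul_zero]
      intro h
      exact hjm (by simpa using congrArg (fun g : σ → Fin p => (g i : ℕ)) h)
  · intro e _ he
    by_cases hei : (e i : ℕ) = 0
    · rw [mul_smul_comm, hmul e hei, map_smul, Finsupp.smul_apply, Module.Basis.repr_self, Finsupp.single_apply,
        if_neg, smul_zero]
      intro h
      refine he (_root_.funext fun l => ?_)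
      by_cases hl : l = i
      · rw [hl]; exact Fin.ext hei
      · have := congrFun h l
        simp only [Function.update_of_ne hl] at this
        exact this
    · rw [repr_eq_zero_of_transHom_fixed p bA x i d hd hdc w hw e (Nat.pos_of_ne_zero hei), zero_smul, mul_zero,
        map_zero, Finsupp.zero_apply]
  · intro h; exact absurd (Finset.mem_univ _) h

theorem dvd_leading_mul (hμ : μ ≠ 0) (ha : ∀ i, a i ≠ 0) (D : R) (t : 𝔸) (q : Polynomial R) (hq : q.natDegree < p)
    (h : Polynomial.aeval (hsZ p x a μ s) q = D • t) (i : σ) (hi : s i ≠ 0) :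
    D ∣ q.leadingCoeff * (hsC p s i * hsAlphaI p a s i) ^ q.natDegree := by
  let B := asBasis p bA x
  let f : σ → Fin p := Function.update (fun _ => ⟨0, (Fact.out : p.Prime).pos⟩) i ⟨q.natDegree, hq⟩
  have hdc : ∀ j, (Pi.single i (μ * a i) : σ → R) j ^ p = bA j * (Pi.single i (μ * a i) : σ → R) j := fun j => by
    by_cases hj : j = i
    · rw [hj, Pi.single_eq_same]
      show _ = (μ * a i) ^ (p - 1) * (μ * a i)
      rw [pow_sub_one_mul (Fact.out : p.Prime).ne_zero]
    · rw [Pi.single_eq_of_ne hj, zero_pow (Fact.out : p.Prime).ne_zero, mul_zero]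
  let g := transHom p bA x _ hdc
  let w := ∑ l ∈ (Finset.univ.filter fun l => s l ≠ 0).erase i, algebraMap R 𝔸 (hsC p s l * hsAlphaI p a s l) * asVar p bA x l
  have hz : hsZ p x a μ s = algebraMap R 𝔸 (hsC p s i * hsAlphaI p a s i) * asVar p bA x i + w :=
    (Finset.add_sum_erase _ _ (Finset.mem_filter.mpr ⟨Finset.mem_univ i, hi⟩)).symm
  have hw : g w = w := by
    rw [map_sum]
    refine Finset.sum_congr rfl fun l hl => ?_
    rw [map_mul, AlgHom.commutes, transHom_var, Pi.single_eq_of_ne (Finset.ne_of_mem_erase hl), map_zero, add_zero]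
  have hpow : ∀ l, l ≤ q.natDegree → B.repr (hsZ p x a μ s ^ l) f =
      if l = q.natDegree then (hsC p s i * hsAlphaI p a s i) ^ l else 0 := fun l hl => by
    rw [hz, add_pow, map_sum, Finsupp.finsetSum_apply, Finset.sum_eq_single l]
    · rw [Nat.sub_self, pow_zero, mul_one, Nat.choose_self, Nat.cast_one, mul_one, mul_pow, ← map_pow,
        ← hs_smul_def p x a μ, map_smul, Finsupp.smul_apply, smul_eq_mul, ← mul_one (asVar p bA x i ^ l),
        repr_pow_mul_fixed p x a μ i _ (mul_ne_zero hμ (ha i)) hdc 1 (map_one g) l (hl.trans_lt hq)]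
      have h1 : B.repr 1 (fun _ => ⟨0, (Fact.out : p.Prime).pos⟩) = 1 := by
        rw [show (1 : 𝔸) = B (fun _ => ⟨0, (Fact.out : p.Prime).pos⟩) by rw [asBasis_apply]; simp]
        rw [Module.Basis.repr_self, Finsupp.single_eq_same]
      rw [h1]
      split_ifs <;> simp
    · intro k hk hkl
      have hkl' : k < l := lt_of_le_of_ne (Nat.lt_succ_iff.mp (Finset.mem_range.mp hk)) hkl
      rw [mul_pow, ← map_pow, mul_assoc, mul_assoc, ← hs_smul_def p x a μ, map_smul, Finsupp.smul_apply,
        repr_pow_mul_fixed p x a μ i _ (mul_ne_zero hμ (ha i)) hdc _ (by rw [map_mul, map_pow, map_natCast]; exact congrArg (fun v => v ^ _ * _) hw) k (hkl'.trans_le hl |>.trans hq),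
        if_neg (fun h => by simp at h; omega), smul_zero]
    · intro h; exact absurd (Finset.mem_range.mpr (Nat.lt_succ_self l)) h
  have h1 := congrArg (fun v => B.repr v f) h
  simp only [Polynomial.aeval_eq_sum_range, map_sum, Finsupp.finsetSum_apply, map_smul, Finsupp.smul_apply] at h1
  rw [Finset.sum_eq_single q.natDegree (fun l hl hne => by
      rw [hpow l (Nat.lt_succ_iff.mp (Finset.mem_range.mp hl)), if_neg hne, smul_zero])
    (fun h => absurd (Finset.mem_range.mpr (Nat.lt_succ_self _)) h), hpow _ le_rfl, if_pos rfl, smul_eq_mul, smul_eq_mul] at h1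
  exact ⟨_, h1⟩

theorem exists_aeval_eq [UniqueFactorizationMonoid R] (hs : s ≠ 0) (hμ : μ ≠ 0) (ha : ∀ i, a i ≠ 0)
    (hcop : ∀ i j, i ≠ j → IsRelPrime (a i) (a j)) (D : R) (hD : D ≠ 0) :
    ∀ (n : ℕ) (q : Polynomial R) (t : 𝔸), q.natDegree = n → n < p → Polynomial.aeval (hsZ p x a μ s) q = D • t →
      ∃ q' : Polynomial R, Polynomial.aeval (hsZ p x a μ s) q' = t := by
  intro n
  induction n using Nat.strong_induction_on with
  | _ n ih =>
    intro q t hn hnp h
    obtain ⟨r, hr⟩ := dvd_of_forall_dvd_mul p a s hs hcop D hD q.leadingCoeff q.natDegree fun i hi =>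
      dvd_leading_mul p x a μ s hμ ha D t q (hn ▸ hnp) h i hi
    have h1 : Polynomial.aeval (hsZ p x a μ s) q.eraseLead = D • (t - r • hsZ p x a μ s ^ q.natDegree) := by
      rw [← Polynomial.self_sub_monomial_natDegree_leadingCoeff, map_sub, h, Polynomial.aeval_monomial, hr, map_mul,
        hs_smul_def p x a μ, hs_smul_def p x a μ, hs_smul_def p x a μ]
      ring
    rcases Polynomial.eraseLead_natDegree_lt_or_eraseLead_eq_zero q with hlt | h0
    · obtain ⟨q', hq'⟩ := ih _ (hn ▸ hlt) q.eraseLead _ rfl ((hn ▸ hlt).trans hnp) h1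
      refine ⟨q' + Polynomial.monomial q.natDegree r, ?_⟩
      rw [map_add, hq', Polynomial.aeval_monomial, hs_smul_def p x a μ, sub_add_cancel]
    · refine ⟨Polynomial.monomial q.natDegree r, ?_⟩
      rw [h0, map_zero] at h1
      have h2 : t - r • hsZ p x a μ s ^ q.natDegree = 0 := (asBasis p bA x).repr.map_eq_zero_iff.mp (Finsupp.ext fun f => by
        have h3 := congrArg (fun v => (asBasis p bA x).repr v f) h1
        simp only [map_zero, map_smul, Finsupp.zero_apply, Finsupp.smul_apply, smul_eq_mul] at h3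
        exact (mul_eq_zero.mp h3.symm).resolve_left hD)
      rw [Polynomial.aeval_monomial, ← hs_smul_def p x a μ]
      exact (sub_eq_zero.mp h2).symm

theorem list_prod_var (ι : Type) (L : List ι) (f : ι → (𝔸 ≃ₐ[R] 𝔸)) (δ : ι → σ → R)
    (h : ∀ l j, f l (asVar p bA x j) = asVar p bA x j + algebraMap R 𝔸 (δ l j)) (j : σ) :
    (L.map f).prod (asVar p bA x j) = asVar p bA x j + algebraMap R 𝔸 ((L.map fun l => δ l j).sum) := by
  induction L with
  | nil => simp
  | cons l L ih =>
    rw [List.map_cons, List.prod_cons, AlgEquiv.mul_apply, ih, map_add, AlgEquiv.commutes, h, List.map_cons,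
      List.sum_cons, map_add, add_assoc]

theorem pow_var (g : 𝔸 ≃ₐ[R] 𝔸) (δ : σ → R) (h : ∀ j, g (asVar p bA x j) = asVar p bA x j + algebraMap R 𝔸 (δ j))
    (m : ℕ) (j : σ) : (g ^ m) (asVar p bA x j) = asVar p bA x j + algebraMap R 𝔸 ((m : R) * δ j) := by
  induction m with
  | zero => simp
  | succ m ih =>
    rw [pow_succ', AlgEquiv.mul_apply, ih, map_add, AlgEquiv.commutes, h, Nat.cast_succ, add_mul, one_mul, map_add]
    ring

theorem modByMonic_aeval_eq (q : Polynomial R) :
    Polynomial.aeval (hsZ p x a μ s) (q %ₘ (Polynomial.X ^ p - Polynomial.C ((μ * hsAlpha p a s) ^ (p - 1)) * Polynomial.X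
        - Polynomial.C (hsXi p x a s))) = Polynomial.aeval (hsZ p x a μ s) q := by
  refine (Polynomial.aeval_modByMonic_eq_self_of_root ?_).trans rfl
  rw [map_sub, map_sub, map_pow, map_mul, Polynomial.aeval_X, Polynomial.aeval_C, Polynomial.aeval_C, hsZ_pow]
  ring

/-- The ring of invariants of a hyperplane of translations. -/
theorem hyperplane_invariants [UniqueFactorizationMonoid R] (hs : s ≠ 0) (hμ : μ ≠ 0) (ha : ∀ i, a i ≠ 0)
    (hcop : ∀ i j, i ≠ j → IsRelPrime (a i) (a j)) (t : 𝔸) :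
    (∀ ν : σ → ZMod p, ∑ i, ν i * s i = 0 → transHom p bA x _ (hsTr_eqn p a μ ν) t = t) ↔
      t ∈ (Polynomial.aeval (hsZ p x a μ s) : Polynomial R →ₐ[R] 𝔸).range := by
  constructor
  · intro ht
    obtain ⟨i₁, hi₁⟩ := Function.ne_iff.mp hs
    have hd : hsC (R := R) p s i₁ * hsAlphaI p a s i₁ ≠ 0 :=
      mul_ne_zero ((Ne.isUnit hi₁).map _).ne_zero (Finset.prod_ne_zero_iff.mpr fun j _ => ha j)
    obtain ⟨q, hq, hqt⟩ := exists_smul_eq_aeval p x a μ s i₁ hi₁ hd hμ ha t ht
    obtain ⟨q', hq'⟩ := exists_aeval_eq p x a μ s hs hμ ha hcop _ (pow_ne_zero _ hd) _ q t rfl hq hqt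
    exact (AlgHom.mem_range _).mpr ⟨q', hq'⟩
  · intro ht ν hν
    obtain ⟨q, rfl⟩ := (AlgHom.mem_range _).mp ht
    rw [← Polynomial.aeval_algHom_apply, hsTr_hsZ, hν, map_zero, zero_mul, map_zero, add_zero]

/-- The relations of the invariant element. -/
theorem hyperplane_ker (hs : s ≠ 0) (ha : ∀ i, a i ≠ 0) :
    RingHom.ker (Polynomial.aeval (hsZ p x a μ s) : Polynomial R →ₐ[R] 𝔸) =
      Ideal.span {Polynomial.X ^ p - Polynomial.C ((μ * hsAlpha p a s) ^ (p - 1)) * Polynomial.X
        - Polynomial.C (hsXi p x a s)} := by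
  have hp := (Fact.out : p.Prime)
  set F := Polynomial.X ^ p - Polynomial.C ((μ * hsAlpha p a s) ^ (p - 1)) * Polynomial.X
    - Polynomial.C (hsXi p x a s) with hF
  have hmonic : F.Monic := asPoly_monic p (fun _ : Unit => (μ * hsAlpha p a s) ^ (p - 1)) (fun _ => hsXi p x a s) ()
  have hdeg : F.natDegree = p := asPoly_natDegree p (fun _ : Unit => (μ * hsAlpha p a s) ^ (p - 1)) (fun _ => hsXi p x a s) ()
  refine le_antisymm (fun q hq => ?_) ((Ideal.span_singleton_le_iff_mem _).mpr ?_)
  · obtain ⟨i₁, hi₁⟩ := Function.ne_iff.mp hs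
    have hd : hsC (R := R) p s i₁ * hsAlphaI p a s i₁ ≠ 0 :=
      mul_ne_zero ((Ne.isUnit hi₁).map _).ne_zero (Finset.prod_ne_zero_iff.mpr fun j _ => ha j)
    rw [Ideal.mem_span_singleton, ← Polynomial.modByMonic_eq_zero_iff_dvd hmonic]
    refine hs_aeval_injective p x a μ s i₁ hi₁ hd _ ?_ ((modByMonic_aeval_eq p x a μ s q).trans hq)
    exact hdeg ▸ Polynomial.natDegree_modByMonic_lt q hmonic (fun h => by rw [h, Polynomial.natDegree_one] at hdeg; exact hp.ne_zero hdeg.symm)
  · rw [RingHom.mem_ker, hF, map_sub, map_sub, map_pow, map_mul, Polynomial.aeval_X, Polynomial.aeval_C,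
      Polynomial.aeval_C, hsZ_pow]
    ring

end Groth.Agent.WildQuot
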