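import Groth.Agent.WildQuot.Auts

/-!
# Changes of variables in Artin–Schreier families
-/

set_option autoImplicit false
set_option linter.unusedSectionVars false

universe u v

namespace Groth.Agent.WildQuot

open MvPolynomial

variable {R : Type u} [CommRing R] {σ : Type} [Fintype σ] [DecidableEq σ] (p : ℕ) (b x : σ → R)

/-- The homomorphism out of the family defined by a solution of its equations. -/
noncomputable def asLift {B : Type v} [CommRing B] [Algebra R B] (y : σ → B)
    (hy : ∀ i, y i ^ p = algebraMap R B (b i) * y i + algebraMap R B (x i)) :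
    (MvPolynomial σ R ⧸ asIdeal p b x) →ₐ[R] B :=
  Ideal.Quotient.liftₐ _ (MvPolynomial.aeval y) fun q hq => by
    suffices asIdeal p b x ≤ RingHom.ker (MvPolynomial.aeval y).toRingHom from this hq
    refine Ideal.span_le.mpr ?_
    rintro _ ⟨i, rfl⟩
    show MvPolynomial.aeval y _ = 0
    rw [map_sub, map_sub, map_pow, map_mul, aeval_X, aeval_C, aeval_C, hy]
    ring

lemma asLift_var {B : Type v} [CommRing B] [Algebra R B] (y : σ → B)
    (hy : ∀ i, y i ^ p = algebraMap R B (b i) * y i + algebraMap R B (x i)) (i : σ) :
    asLift p b x y hy (asVar p b x i) = y i := by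
  show MvPolynomial.aeval y (X i) = _
  rw [aeval_X]

lemma asLift_mk {B : Type v} [CommRing B] [Algebra R B] (y : σ → B)
    (hy : ∀ i, y i ^ p = algebraMap R B (b i) * y i + algebraMap R B (x i)) (q : MvPolynomial σ R) :
    asLift p b x y hy (Ideal.Quotient.mk _ q) = MvPolynomial.aeval y q := rfl

variable [IsDomain R] [Fact p.Prime]

/-- An algebra map between families that is surjective up to a scalar is injective. -/
theorem asLift_injective {b' x' : σ → R}
    (Φ : (MvPolynomial σ R ⧸ asIdeal p b' x') →ₐ[R] MvPolynomial σ R ⧸ asIdeal p b x) (D : R) (hD : D ≠ 0)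
    (h : ∀ e, D • asBasis p b x e ∈ Φ.range) : Function.Injective Φ := by
  classical
  let B := asBasis p b x
  let B' := asBasis p b' x'
  choose g hg using h
  let M := LinearMap.toMatrix B' B Φ.toLinearMap
  let Q := LinearMap.toMatrix B B' (B.constr R g)
  have hMQ : M * Q = D • (1 : Matrix (σ → Fin p) (σ → Fin p) R) := by
    have h1 : Φ.toLinearMap ∘ₗ B.constr R g = D • LinearMap.id := B.ext fun e => by
      rw [LinearMap.comp_apply, Module.Basis.constr_basis]
      exact hg e
    rw [← LinearMap.toMatrix_comp, h1, map_smul, LinearMap.toMatrix_id]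
  have hdet : M.det ≠ 0 := fun h0 => by
    have h1 := congrArg Matrix.det hMQ
    rw [Matrix.det_mul, h0, zero_mul, Matrix.det_smul, Matrix.det_one, mul_one] at h1
    exact pow_ne_zero _ hD h1.symm
  refine (injective_iff_map_eq_zero Φ).mpr fun t ht => ?_
  have h1 : M.mulVec (B'.repr t) = 0 := by
    rw [LinearMap.toMatrix_mulVec_repr]
    show ⇑(B.repr (Φ t)) = 0
    rw [ht, map_zero]
    rfl
  exact B'.repr.map_eq_zero_iff.mp (DFunLike.coe_injective (Matrix.eq_zero_of_mulVec_eq_zero hdet h1))

/-- If multiples of the variables lie in a subalgebra then so do multiples of everything. -/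
theorem pow_smul_mem (S : Subalgebra R (MvPolynomial σ R ⧸ asIdeal p b x)) (d : R)
    (h : ∀ i, d • asVar p b x i ∈ S) (t : MvPolynomial σ R ⧸ asIdeal p b x) :
    d ^ (Fintype.card σ * p) • t ∈ S := by
  have hb : ∀ e, d ^ (Fintype.card σ * p) • asBasis p b x e ∈ S := fun e => by
    have hle : ∑ i, (e i : ℕ) ≤ Fintype.card σ * p := by
      refine (Finset.sum_le_card_nsmul _ _ p fun i _ => (e i).isLt.le).trans ?_
      rw [Finset.card_univ, smul_eq_mul]
    have h1 : d ^ (∑ i, (e i : ℕ)) • asBasis p b x e ∈ S := by
      rw [asBasis_apply, ← Finset.prod_pow_eq_pow_sum, ← Finset.prod_smul]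
      refine Subalgebra.prod_mem S fun i _ => ?_
      rw [← smul_pow]
      exact Subalgebra.pow_mem S (h i) _
    obtain ⟨c, hc⟩ := Nat.exists_eq_add_of_le hle
    rw [hc, pow_add, mul_comm, mul_smul]
    exact Subalgebra.smul_mem S h1 _
  rw [← (asBasis p b x).sum_repr t, Finset.smul_sum]
  refine Subalgebra.sum_mem S fun e _ => ?_
  rw [smul_comm]
  exact Subalgebra.smul_mem S (hb e) _

variable [CharP R p]

/-- An element invariant under a translation of one variable has degree zero in it. -/
theorem repr_eq_zero_of_transHom_fixed (i : σ) (d : R) (hd : d ≠ 0) (hdc : ∀ j, (Pi.single i d : σ → R) j ^ p = b j * (Pi.single i d : σ → R) j)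
    (t : MvPolynomial σ R ⧸ asIdeal p b x) (ht : transHom p b x (Pi.single i d) hdc t = t) (e : σ → Fin p)
    (he : 0 < (e i : ℕ)) : (asBasis p b x).repr t e = 0 := by
  classical
  let B := asBasis p b x
  have hp := (Fact.out : p.Prime)
  induction hm : p - (e i : ℕ) using Nat.strong_induction_on generalizing e with
  | _ m ih =>
    let f : σ → Fin p := Function.update e i ⟨(e i : ℕ) - 1, by have := (e i).isLt; omega⟩
    have hfi : (f i : ℕ) = (e i : ℕ) - 1 := by simp [f]
    have hfj : ∀ j, j ≠ i → f j = e j := fun j hj => by simp [f, hj]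
    have hfe : f ≠ e := fun h' => by have := congrArg (fun g : σ → Fin p => (g i : ℕ)) h'; omega
    have key : ∀ e' : σ → Fin p, B.repr (transHom p b x (Pi.single i d) hdc (B e')) f =
        ∏ j, (Pi.single i d : σ → R) j ^ ((e' j : ℕ) - f j) * (((e' j : ℕ).choose (f j) : ℕ) : R) := fun e' => by
      rw [asBasis_apply, map_prod]
      simp only [map_pow, transHom_var]
      exact repr_monomial_translate p b x _ e' f
    have hsum : B.repr t f = ∑ e', B.repr t e' * ∏ j, (Pi.single i d : σ → R) j ^ ((e' j : ℕ) - f j) *
        (((e' j : ℕ).choose (f j) : ℕ) : R) := by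
      conv_lhs => rw [← ht, ← B.sum_repr t]
      rw [map_sum, map_sum, Finsupp.finsetSum_apply]
      refine Finset.sum_congr rfl fun e' _ => ?_
      rw [map_smul, map_smul, Finsupp.smul_apply, key, smul_eq_mul]
    rw [Finset.sum_eq_add f e hfe] at hsum
    · have hff : ∏ j, (Pi.single i d : σ → R) j ^ ((f j : ℕ) - f j) * (((f j : ℕ).choose (f j) : ℕ) : R) = 1 := by simp
      have hee : ∏ j, (Pi.single i d : σ → R) j ^ ((e j : ℕ) - f j) * (((e j : ℕ).choose (f j) : ℕ) : R) =
          d * (e i : ℕ) := by
        rw [Finset.prod_eq_single i]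
        · rw [Pi.single_eq_same, hfi, Nat.sub_sub_self he, pow_one,
            ← Nat.choose_symm (by omega : (e i : ℕ) - 1 ≤ e i), Nat.sub_sub_self he, Nat.choose_one_right]
        · intro j _ hj
          rw [hfj j hj]
          simp
        · simp
      rw [hff, hee, mul_one] at hsum
      have h0 : B.repr t e * (d * ((e i : ℕ) : R)) = 0 := by linear_combination -hsum
      have hcast : ((e i : ℕ) : R) ≠ 0 := fun h' => by
        have h1 := (CharP.cast_eq_zero_iff R p _).mp h'
        have h2 := Nat.le_of_dvd he h1
        have := (e i).isLt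
        omega
      exact (mul_eq_zero.mp h0).resolve_right (mul_ne_zero hd hcast)
    · intro e' _ hne
      by_contra hne0
      have hfac : ∀ j, (Pi.single i d : σ → R) j ^ ((e' j : ℕ) - f j) * (((e' j : ℕ).choose (f j) : ℕ) : R) ≠ 0 :=
        fun j => (Finset.prod_ne_zero_iff.mp (right_ne_zero_of_mul hne0)) j (Finset.mem_univ j)
      have hge : ∀ j, (f j : ℕ) ≤ e' j := fun j => by
        by_contra hlt
        exact hfac j (by rw [choose_eq_zero_of_lt (by omega), mul_zero])
      have heq : ∀ j, j ≠ i → e' j = e j := fun j hj => by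
        rw [← hfj j hj]
        refine Fin.ext (le_antisymm ?_ (hge j))
        by_contra hgt
        exact hfac j (by rw [Pi.single_eq_of_ne hj, zero_pow (by omega), zero_mul])
      have hi1 : (e i : ℕ) < e' i := by
        rcases lt_trichotomy (e i : ℕ) (e' i) with h' | h' | h'
        · exact h'
        · exact absurd (_root_.funext fun j => if hj : j = i then hj ▸ Fin.ext h'.symm else heq j hj) hne.2
        · refine absurd (_root_.funext fun j => ?_) hne.1
          rcases eq_or_ne j i with rfl | hj
          · refine Fin.ext ?_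
            have := hge j
            omega
          · rw [hfj j hj, heq j hj]
      have := (e' i).isLt
      exact left_ne_zero_of_mul hne0 (ih (p - (e' i : ℕ)) (by omega) e' (by omega) rfl)
    · intro h; exact absurd (Finset.mem_univ _) h
    · intro h; exact absurd (Finset.mem_univ _) h

end Groth.Agent.WildQuot
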