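import Groth.Agent.WildQuot.Lift

/-!
# The complete intersection of minor elements
-/

set_option autoImplicit false
set_option linter.unusedSectionVars false
set_option quotPrecheck false

universe u

namespace Groth.Agent.WildQuot

open MvPolynomial

variable {R : Type u} [CommRing R] [IsDomain R] {σ : Type} [Fintype σ] [DecidableEq σ] (p : ℕ) [Fact p.Prime]
  [CharP R p] (x a : σ → R) (μ : R) (i₀ : σ)

local notation "bA" => (fun i => (μ * a i) ^ (p - 1))
local notation "bB" => (fun j : {j : σ // j ≠ i₀} => (μ * a i₀ * a j.1) ^ (p - 1))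
local notation "xB" => (fun j : {j : σ // j ≠ i₀} => a i₀ ^ p * x j.1 - a j.1 ^ p * x i₀)
local notation "bE" => (fun j : σ => if j = i₀ then (μ * a i₀) ^ (p - 1) else (μ * a i₀ * a j) ^ (p - 1))
local notation "xE" => (fun j : σ => if j = i₀ then x i₀ else a i₀ ^ p * x j - a j ^ p * x i₀)
local notation "𝔸" => MvPolynomial σ R ⧸ asIdeal p (fun i => (μ * a i) ^ (p - 1)) x
local notation "𝔹" => MvPolynomial {j : σ // j ≠ i₀} R ⧸ asIdeal p (fun j : {j : σ // j ≠ i₀} => (μ * a i₀ * a j.1) ^ (p - 1)) (fun j : {j : σ // j ≠ i₀} => a i₀ ^ p * x j.1 - a j.1 ^ p * x i₀)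
local notation "𝔼" => MvPolynomial σ R ⧸ asIdeal p (fun j : σ => if j = i₀ then (μ * a i₀) ^ (p - 1) else (μ * a i₀ * a j) ^ (p - 1)) (fun j : σ => if j = i₀ then x i₀ else a i₀ ^ p * x j - a j ^ p * x i₀)

lemma as_smul_def (r : R) (t : 𝔸) : r • t = algebraMap R 𝔸 r * t := Algebra.smul_def r t

/-- A minor element. -/
noncomputable def minorVar (j : σ) : 𝔸 :=
  algebraMap R 𝔸 (a i₀) * asVar p bA x j - algebraMap R 𝔸 (a j) * asVar p bA x i₀

theorem minorVar_pow (j : σ) : minorVar p x a μ i₀ j ^ p =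
    algebraMap R 𝔸 ((μ * a i₀ * a j) ^ (p - 1)) * minorVar p x a μ i₀ j +
      algebraMap R 𝔸 (a i₀ ^ p * x j - a j ^ p * x i₀) := by
  haveI : Nontrivial 𝔸 := (asBasis p bA x).repr.toEquiv.nontrivial
  haveI : Module.Free R 𝔸 := Module.Free.of_basis (asBasis p bA x)
  haveI : CharP 𝔸 p := charP_of_injective_algebraMap (FaithfulSMul.algebraMap_injective R 𝔸) p
  rw [minorVar, sub_pow_char, mul_pow, mul_pow, asVar_pow, asVar_pow]
  simp only [map_sub, map_mul, map_pow, mul_pow]
  rw [← mul_pow_sub_one (Fact.out : p.Prime).ne_zero (algebraMap R 𝔸 (a i₀)),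
    ← mul_pow_sub_one (Fact.out : p.Prime).ne_zero (algebraMap R 𝔸 (a j))]
  ring

theorem minorLift_eqns (j : σ) : (fun j : σ => if j = i₀ then asVar p bA x i₀ else minorVar p x a μ i₀ j) j ^ p =
    algebraMap R 𝔸 (bE j) * (fun j : σ => if j = i₀ then asVar p bA x i₀ else minorVar p x a μ i₀ j) j +
      algebraMap R 𝔸 (xE j) := by
  rcases eq_or_ne j i₀ with rfl | hj
  · simp only [if_true]
    exact asVar_pow p bA x j
  · simp only [if_neg hj]
    exact minorVar_pow p x a μ i₀ j

/-- The change of variables by the minor elements. -/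
noncomputable def minorLift : 𝔼 →ₐ[R] 𝔸 := asLift p bE xE _ (minorLift_eqns p x a μ i₀)

/-- The map of the complete intersection. -/
noncomputable def minorB : 𝔹 →ₐ[R] 𝔸 :=
  asLift p bB xB (fun j => minorVar p x a μ i₀ j.1) fun j => minorVar_pow p x a μ i₀ j.1

/-- The inclusion of the complete intersection. -/
noncomputable def minorIncl : 𝔹 →ₐ[R] 𝔼 :=
  asLift p bB xB (fun j => asVar p bE xE j.1) fun j => by
    rw [asVar_pow, if_neg j.2, if_neg j.2]

theorem minorLift_comp : (minorLift p x a μ i₀).comp (minorIncl p x a μ i₀) = minorB p x a μ i₀ :=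
  as_algHom_ext p bB xB fun j => by
    rw [AlgHom.comp_apply, minorIncl, asLift_var, minorLift, asLift_var, minorB, asLift_var, if_neg j.2]

theorem exists_pow_smul_mem_minorLift (ha0 : a i₀ ≠ 0) (t : 𝔸) :
    a i₀ ^ (Fintype.card σ * p) • t ∈ (minorLift p x a μ i₀).range := by
  refine pow_smul_mem p bA x _ (a i₀) (fun j => ?_) t
  rcases eq_or_ne j i₀ with hj | hj
  · rw [hj]
    refine Subalgebra.smul_mem _ ((AlgHom.mem_range _).mpr ⟨asVar p bE xE i₀, ?_⟩) _
    rw [minorLift, asLift_var, if_pos rfl]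
  · rw [show a i₀ • asVar p bA x j = minorVar p x a μ i₀ j + a j • asVar p bA x i₀ by
      simp only [minorVar, as_smul_def p x a μ, sub_add_cancel]]
    refine Subalgebra.add_mem _ ((AlgHom.mem_range _).mpr ⟨asVar p bE xE j, ?_⟩)
      (Subalgebra.smul_mem _ ((AlgHom.mem_range _).mpr ⟨asVar p bE xE i₀, ?_⟩) _)
    · rw [minorLift, asLift_var, if_neg hj]
    · rw [minorLift, asLift_var, if_pos rfl]

theorem minorLift_injective (ha0 : a i₀ ≠ 0) : Function.Injective (minorLift p x a μ i₀) :=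
  asLift_injective p bA x _ _ (pow_ne_zero _ ha0) fun _ => exists_pow_smul_mem_minorLift p x a μ i₀ ha0 _

/-- The extension of exponents by zero. -/
def extExp (f : {j : σ // j ≠ i₀} → Fin p) : σ → Fin p :=
  fun j => if h : j = i₀ then ⟨0, (Fact.out : p.Prime).pos⟩ else f ⟨j, h⟩

theorem minorIncl_basis (f : {j : σ // j ≠ i₀} → Fin p) :
    minorIncl p x a μ i₀ (asBasis p bB xB f) = asBasis p bE xE (extExp p i₀ f) := by
  rw [asBasis_apply, asBasis_apply, map_prod]
  simp only [map_pow, minorIncl, asLift_var]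
  rw [← Finset.mul_prod_erase Finset.univ (fun i => asVar p bE xE i ^ (extExp p i₀ f i : ℕ)) (Finset.mem_univ i₀),
    show (extExp p i₀ f i₀ : ℕ) = 0 by simp [extExp], pow_zero, one_mul]
  rw [Finset.prod_subtype (Finset.univ.erase i₀) (p := fun j => j ≠ i₀) (by simp)
    (fun i => asVar p bE xE i ^ (extExp p i₀ f i : ℕ))]
  exact Finset.prod_congr rfl fun j _ => by simp [extExp, j.2]

theorem minorIncl_injective : Function.Injective (minorIncl p x a μ i₀) := by
  have hli : LinearIndependent R ((minorIncl p x a μ i₀).toLinearMap ∘ asBasis p bB xB) := by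
    have h : (minorIncl p x a μ i₀).toLinearMap ∘ asBasis p bB xB = asBasis p bE xE ∘ extExp p i₀ :=
      _root_.funext fun f => minorIncl_basis p x a μ i₀ f
    rw [h]
    exact (asBasis p bE xE).linearIndependent.comp _ fun f g hfg => _root_.funext fun j => by
      simpa [extExp, j.2] using congrFun hfg j.1
  refine (injective_iff_map_eq_zero (minorIncl p x a μ i₀)).mpr fun t ht => ?_
  rw [← (asBasis p bB xB).sum_repr t, map_sum] at ht
  simp only [map_smul] at ht
  refine (asBasis p bB xB).repr.map_eq_zero_iff.mp (Finsupp.ext fun f => ?_)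
  exact Fintype.linearIndependent_iff.mp hli _ ht f

theorem minorB_injective (ha0 : a i₀ ≠ 0) : Function.Injective (minorB p x a μ i₀) := by
  rw [← minorLift_comp]
  exact (minorLift_injective p x a μ i₀ ha0).comp (minorIncl_injective p x a μ i₀)

theorem minorB_range :
    (minorB p x a μ i₀).range = Algebra.adjoin R (Set.range fun j : {j : σ // j ≠ i₀} => minorVar p x a μ i₀ j.1) := by
  rw [Algebra.adjoin_range_eq_range_aeval]
  refine le_antisymm ?_ ?_
  · rintro _ ⟨t, rfl⟩
    obtain ⟨q, rfl⟩ := Ideal.Quotient.mk_surjective t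
    exact ⟨q, rfl⟩
  · rintro _ ⟨q, rfl⟩
    exact ⟨Ideal.Quotient.mk _ q, rfl⟩

/-- Invariants lie in the complete intersection up to powers of the scalar. -/
theorem exists_pow_smul_mem_minorB (hμ : μ ≠ 0) (ha0 : a i₀ ≠ 0) (g : 𝔸 →ₐ[R] 𝔸)
    (hg : ∀ i, g (asVar p bA x i) = asVar p bA x i + algebraMap R 𝔸 (μ * a i)) (t : 𝔸) (ht : g t = t) :
    a i₀ ^ (Fintype.card σ * p) • t ∈ (minorB p x a μ i₀).range := by
  obtain ⟨e, he⟩ := exists_pow_smul_mem_minorLift p x a μ i₀ ha0 t
  have hdc : ∀ j, (Pi.single i₀ (μ * a i₀) : σ → R) j ^ p = bE j * (Pi.single i₀ (μ * a i₀) : σ → R) j := fun j => by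
    rcases eq_or_ne j i₀ with rfl | hj
    · simp only [Pi.single_eq_same, ↓reduceIte, pow_sub_one_mul (Fact.out : p.Prime).ne_zero]
    · rw [Pi.single_eq_of_ne hj, zero_pow (Fact.out : p.Prime).ne_zero, mul_zero]
  have hcomm : g.comp (minorLift p x a μ i₀) = (minorLift p x a μ i₀).comp (transHom p bE xE _ hdc) :=
    as_algHom_ext p bE xE fun j => by
      rw [AlgHom.comp_apply, AlgHom.comp_apply, transHom_var, map_add, AlgHom.commutes, minorLift, asLift_var]
      rcases eq_or_ne j i₀ with rfl | hj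
      · rw [if_pos rfl, Pi.single_eq_same, hg]
      · rw [if_neg hj, Pi.single_eq_of_ne hj, map_zero, add_zero, minorVar, map_sub, map_mul, map_mul, AlgHom.commutes,
          AlgHom.commutes, hg, hg, map_mul, map_mul]
        ring
  have hfix : transHom p bE xE _ hdc e = e := by
    apply minorLift_injective p x a μ i₀ ha0
    have h1 := AlgHom.congr_fun hcomm e
    rw [AlgHom.comp_apply, AlgHom.comp_apply] at h1
    rw [← h1, show minorLift p x a μ i₀ e = a i₀ ^ (Fintype.card σ * p) • t from he, map_smul, ht]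
  have h0 := repr_eq_zero_of_transHom_fixed p bE xE i₀ _ (mul_ne_zero hμ ha0) hdc e hfix
  rw [← he]
  show minorLift p x a μ i₀ e ∈ (minorB p x a μ i₀).range
  rw [← (asBasis p bE xE).sum_repr e, map_sum]
  refine Subalgebra.sum_mem _ fun f _ => ?_
  rw [map_smul]
  by_cases hf : (f i₀ : ℕ) = 0
  · refine Subalgebra.smul_mem _ ((AlgHom.mem_range _).mpr ⟨asBasis p bB xB fun j => f j.1, ?_⟩) _
    rw [← minorLift_comp, AlgHom.comp_apply, minorIncl_basis]
    congr 2
    funext j
    unfold extExp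
    split_ifs with h
    · subst h
      exact Fin.ext hf.symm
    · rfl
  · rw [h0 f (Nat.pos_of_ne_zero hf), zero_smul]
    exact Subalgebra.zero_mem _

/-- The localised complete intersection is normal. -/
theorem minor_isIntegrallyClosed [IsDomain 𝔸] [IsIntegrallyClosed 𝔸] (hμ : μ ≠ 0) (ha0 : a i₀ ≠ 0) :
    IsIntegrallyClosed (Localization.Away (algebraMap R 𝔹 (μ * a i₀))) := by
  haveI : IsDomain 𝔹 := Function.Injective.isDomain (minorB p x a μ i₀).toRingHom (minorB_injective p x a μ i₀ ha0)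
  have hc0 : algebraMap R 𝔹 (μ * a i₀) ≠ 0 := fun h => by
    have h1 := congrArg (minorB p x a μ i₀) h
    rw [AlgHom.commutes, map_zero] at h1
    haveI : Nontrivial 𝔸 := (asBasis p bA x).repr.toEquiv.nontrivial
    haveI : Module.Free R 𝔸 := Module.Free.of_basis (asBasis p bA x)
    exact mul_ne_zero hμ ha0 ((map_eq_zero_iff _ (FaithfulSMul.algebraMap_injective R 𝔸)).mp h1)
  set c := algebraMap R 𝔹 (μ * a i₀) with hcdef
  haveI : IsDomain (Localization.Away c) :=
    IsLocalization.isDomain_localization (powers_le_nonZeroDivisors_of_noZeroDivisors hc0)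
  let L := FractionRing 𝔹
  have hunits : ∀ m : Submonoid.powers c, IsUnit (algebraMap 𝔹 L m) := fun m =>
    IsLocalization.map_units L (⟨m, powers_le_nonZeroDivisors_of_noZeroDivisors hc0 m.2⟩ : nonZeroDivisors 𝔹)
  letI : Algebra (Localization.Away c) L := (IsLocalization.lift hunits : Localization.Away c →+* L).toAlgebra
  haveI : IsScalarTower 𝔹 (Localization.Away c) L :=
    IsScalarTower.of_algebraMap_eq fun r => (IsLocalization.lift_eq hunits r).symm
  haveI : IsFractionRing (Localization.Away c) L :=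
    IsFractionRing.isFractionRing_of_isDomain_of_isLocalization (Submonoid.powers c) (Localization.Away c) L
  let θ : L →+* FractionRing 𝔸 :=
    IsFractionRing.map (A := 𝔹) (B := 𝔸) (K := L) (L := FractionRing 𝔸) (j := (minorB p x a μ i₀).toRingHom)
      (minorB_injective p x a μ i₀ ha0)
  have hθ : ∀ q : 𝔹, θ (algebraMap 𝔹 L q) = algebraMap 𝔸 (FractionRing 𝔸) (minorB p x a μ i₀ q) := fun q =>
    IsLocalization.map_eq (S := L) _ q
  refine (isIntegrallyClosed_iff L).mpr fun {y} hy => ?_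
  obtain ⟨⟨m, hm⟩, hym⟩ := IsIntegral.exists_multiple_integral_of_isLocalization (Submonoid.powers c) y hy
  rw [Submonoid.smul_def, Algebra.smul_def] at hym
  obtain ⟨P, hPm, hP⟩ := hym
  have hint : IsIntegral 𝔸 (θ (algebraMap 𝔹 L m * y)) := ⟨P.map (minorB p x a μ i₀).toRingHom, hPm.map _, by
    rw [Polynomial.eval₂_map,
      show (algebraMap 𝔸 (FractionRing 𝔸)).comp (minorB p x a μ i₀).toRingHom = θ.comp (algebraMap 𝔹 L) from
        RingHom.ext fun r => (hθ r).symm,
      ← Polynomial.hom_eval₂, hP, map_zero]⟩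
  obtain ⟨s, hs⟩ := IsIntegrallyClosed.isIntegral_iff.mp hint
  obtain ⟨q₁, q₂, hq₂, hq⟩ := IsFractionRing.div_surjective (A := 𝔹) (algebraMap 𝔹 L m * y)
  have hq₂0 : q₂ ≠ 0 := nonZeroDivisors.ne_zero hq₂
  have hq₂L : algebraMap 𝔹 L q₂ ≠ 0 := (map_ne_zero_iff _ (IsFractionRing.injective 𝔹 L)).mpr hq₂0
  rw [div_eq_iff hq₂L] at hq
  have hsq : s * minorB p x a μ i₀ q₂ = minorB p x a μ i₀ q₁ := by
    apply IsFractionRing.injective 𝔸 (FractionRing 𝔸)
    rw [map_mul, hs, ← hθ, ← hθ, ← map_mul, ← hq]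
  let cA : σ → R := fun i => μ * a i
  have hcA : ∀ i, cA i ^ p = bA i * cA i := fun i => (pow_sub_one_mul (Fact.out : p.Prime).ne_zero _).symm
  have hgB : (transHom p bA x cA hcA).comp (minorB p x a μ i₀) = minorB p x a μ i₀ :=
    as_algHom_ext p bB xB fun j => by
      rw [AlgHom.comp_apply, minorB, asLift_var, minorVar, map_sub, map_mul, map_mul, AlgHom.commutes, AlgHom.commutes,
        transHom_var, transHom_var]
      show algebraMap R 𝔸 (a i₀) * (_ + algebraMap R 𝔸 (μ * a j.1)) - algebraMap R 𝔸 (a j.1) * (_ + algebraMap R 𝔸 (μ * a i₀)) = _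
      rw [map_mul, map_mul]
      ring
  have hsfix : transHom p bA x cA hcA s = s := by
    refine mul_right_cancel₀ ((map_ne_zero_iff _ (minorB_injective p x a μ i₀ ha0)).mpr hq₂0) ?_
    rw [hsq]
    have h1 := AlgHom.congr_fun hgB q₂
    rw [AlgHom.comp_apply] at h1
    conv_lhs => rw [← h1, ← map_mul, hsq]
    exact AlgHom.congr_fun hgB q₁
  obtain ⟨q₃, hq₃⟩ := exists_pow_smul_mem_minorB p x a μ i₀ hμ ha0 _ (transHom_var p bA x cA hcA) s hsfix
  let N := Fintype.card σ * p
  have hq' : algebraMap R 𝔹 (μ ^ N) * q₃ * q₂ = c ^ N * q₁ := by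
    apply minorB_injective p x a μ i₀ ha0
    rw [map_mul, map_mul, map_mul, hcdef, map_pow (minorB p x a μ i₀) (algebraMap R 𝔹 (μ * a i₀)), AlgHom.commutes, AlgHom.commutes,
      show minorB p x a μ i₀ q₃ = a i₀ ^ N • s from hq₃, ← hsq]
    simp only [as_smul_def p x a μ, map_mul, mul_pow, map_pow]
    ring
  have hmul : algebraMap 𝔹 L (c ^ N * m) * y = algebraMap 𝔹 L (algebraMap R 𝔹 (μ ^ N) * q₃) := by
    refine mul_right_cancel₀ hq₂L ?_
    rw [← map_mul _ (algebraMap R 𝔹 (μ ^ N) * q₃) q₂, hq', map_mul, map_mul, hq]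
    ring
  have hu : IsUnit (algebraMap 𝔹 (Localization.Away c) (c ^ N * m)) :=
    IsLocalization.map_units (Localization.Away c)
      (⟨c ^ N * m, Submonoid.mul_mem _ (Submonoid.pow_mem _ (Submonoid.mem_powers c) N) hm⟩ : Submonoid.powers c)
  obtain ⟨w, hw⟩ := hu.exists_right_inv
  refine ⟨algebraMap 𝔹 (Localization.Away c) (algebraMap R 𝔹 (μ ^ N) * q₃) * w, ?_⟩
  rw [map_mul, ← IsScalarTower.algebraMap_apply, ← hmul, mul_comm _ y, mul_assoc,
    IsScalarTower.algebraMap_apply 𝔹 (Localization.Away c) L, ← map_mul, hw, map_one, mul_one]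

end Groth.Agent.WildQuot
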