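import Mathlib

/-!
# Quotient of a polynomial ring by one monic polynomial in each variable
-/

set_option autoImplicit false
set_option linter.unusedSectionVars false

universe u v

namespace Groth.Agent.WildQuot

open MvPolynomial

variable {R : Type u} [CommRing R] {σ : Type v} [Fintype σ] [DecidableEq σ] (g : σ → Polynomial R) (d : ℕ)

/-- The ideal of one polynomial in each variable. -/
noncomputable def sepIdeal : Ideal (MvPolynomial σ R) :=
  Ideal.span (Set.range fun i => Polynomial.aeval (X i : MvPolynomial σ R) (g i))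

/-- The normal form: reduce each variable separately. -/
noncomputable def normalForm : MvPolynomial σ R →ₗ[R] ((σ → Fin d) → R) :=
  (MvPolynomial.basisMonomials σ R).constr R fun m e => ∏ i, ((Polynomial.X ^ m i) %ₘ g i).coeff (e i)

lemma normalForm_monomial (m : σ →₀ ℕ) (c : R) (e : σ → Fin d) :
    normalForm g d (monomial m c) e = c * ∏ i, ((Polynomial.X ^ m i) %ₘ g i).coeff (e i) := by
  have h1 : normalForm g d (monomial m 1) = fun e => ∏ i, ((Polynomial.X ^ m i) %ₘ g i).coeff (e i) := by
    rw [show monomial m (1 : R) = MvPolynomial.basisMonomials σ R m by rw [coe_basisMonomials]]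
    exact Module.Basis.constr_basis _ _ _ _
  rw [show monomial m c = c • monomial m (1 : R) by rw [smul_monomial, smul_eq_mul, mul_one], map_smul, h1]
  rfl

variable {g d} (hm : ∀ i, (g i).Monic) (hd : ∀ i, (g i).natDegree = d)

include hm in
lemma normalForm_eq_zero {x : MvPolynomial σ R} (hx : x ∈ sepIdeal g) : normalForm g d x = 0 := by
  let S : Submodule R (MvPolynomial σ R) := LinearMap.ker (normalForm g d)
  suffices h : ∀ (i : σ) (m : σ →₀ ℕ), monomial m 1 * Polynomial.aeval (X i) (g i) ∈ S by
    induction hx using Submodule.span_induction with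
    | mem z hz =>
      obtain ⟨i, rfl⟩ := hz
      have := h i 0
      rwa [monomial_zero', C_1, one_mul] at this
    | zero => exact map_zero _
    | add a b _ _ ha hb => rw [map_add, ha, hb, add_zero]
    | smul a z hz hz' =>
      suffices ∀ (a : MvPolynomial σ R), ∀ z ∈ sepIdeal g, normalForm g d (a * z) = 0 from this a z hz
      clear hz' hz a z
      intro a z hz
      induction hz using Submodule.span_induction generalizing a with
      | mem z hz =>
        obtain ⟨i, rfl⟩ := hz
        induction a using MvPolynomial.induction_on' with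
        | monomial m c =>
          rw [show monomial m c = c • monomial m (1 : R) by rw [smul_monomial, smul_eq_mul, mul_one],
            smul_mul_assoc, map_smul, show normalForm g d _ = 0 from h i m, smul_zero]
        | add p q hp hq => rw [add_mul, map_add, hp, hq, add_zero]
      | zero => simp
      | add p q _ _ hp hq => rw [mul_add, map_add, hp a, hq a, add_zero]
      | smul b z _ hz => rw [smul_eq_mul, ← mul_assoc]; exact hz _
  intro i m
  refine funext fun e => ?_
  rw [Polynomial.aeval_eq_sum_range, Finset.mul_sum, map_sum, Finset.sum_apply]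
  simp only [Pi.zero_apply]
  let P : R := ∏ j ∈ Finset.univ.erase i, ((Polynomial.X ^ m j) %ₘ g j).coeff (e j)
  have key : ∀ t : ℕ, normalForm g d (monomial m 1 * ((g i).coeff t • (X i : MvPolynomial σ R) ^ t)) e =
      P * (((g i).coeff t • (Polynomial.X ^ (m i + t) %ₘ g i)).coeff (e i)) := fun t => by
    rw [X_pow_eq_monomial, smul_monomial, monomial_mul, normalForm_monomial, ← Finset.mul_prod_erase _ _ (Finset.mem_univ i)]
    rw [Polynomial.coeff_smul, smul_eq_mul, smul_eq_mul, one_mul, mul_one]
    have hP : ∏ j ∈ Finset.univ.erase i, ((Polynomial.X ^ (m + Finsupp.single i t) j) %ₘ g j).coeff (e j) = P := by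
      refine Finset.prod_congr rfl fun j hj => ?_
      rw [Finsupp.add_apply, Finsupp.single_eq_of_ne (Finset.ne_of_mem_erase hj), add_zero]
    rw [hP, Finsupp.add_apply, Finsupp.single_eq_same]
    ring
  simp only [key, ← Finset.mul_sum]
  rw [← Polynomial.finsetSum_coeff]
  have hz : ∑ t ∈ Finset.range ((g i).natDegree + 1), (g i).coeff t • (Polynomial.X ^ (m i + t) %ₘ g i) = 0 := by
    have h0 : (Polynomial.X ^ m i * g i) %ₘ g i = 0 :=
      (Polynomial.modByMonic_eq_zero_iff_dvd (hm i)).mpr (dvd_mul_left _ _)
    conv_rhs => rw [← h0]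
    conv_rhs => rw [← Polynomial.modByMonicHom_apply]; arg 2; arg 2; rw [(g i).as_sum_range_C_mul_X_pow]
    rw [Finset.mul_sum, map_sum]
    refine Finset.sum_congr rfl fun t _ => ?_
    rw [Polynomial.modByMonicHom_apply, ← Polynomial.smul_eq_C_mul, mul_smul_comm, ← pow_add,
      Polynomial.smul_modByMonic]
  rw [hz, Polynomial.coeff_zero, mul_zero]

/-- The monomial of bounded exponent. -/
noncomputable def boundedMon (g : σ → Polynomial R) (d : ℕ) (e : σ → Fin d) : MvPolynomial σ R ⧸ sepIdeal g :=
  Ideal.Quotient.mk _ (monomial (Finsupp.equivFunOnFinite.symm fun i => (e i : ℕ)) 1)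

include hm hd in
theorem boundedMon_linearIndependent : LinearIndependent R (boundedMon g d) := by
  rcases subsingleton_or_nontrivial R with hR | hR
  · exact linearIndependent_of_subsingleton
  let N : (MvPolynomial σ R ⧸ sepIdeal g) →ₗ[R] ((σ → Fin d) → R) :=
    (Submodule.liftQ ((sepIdeal g).restrictScalars R) (normalForm g d)
      fun x hx => LinearMap.mem_ker.mpr (normalForm_eq_zero hm hx)) ∘ₗ
      (Submodule.Quotient.restrictScalarsEquiv R (sepIdeal g)).symm.toLinearMap
  refine LinearIndependent.of_comp N ?_
  have : N ∘ boundedMon g d = fun e => Pi.single e (1 : R) := by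
    funext e e'
    show normalForm g d (monomial (Finsupp.equivFunOnFinite.symm fun i => (e i : ℕ)) 1) e' = _
    rw [normalForm_monomial, one_mul, Pi.single_apply]
    have hk : ∀ i, (Polynomial.X : Polynomial R) ^ ((Finsupp.equivFunOnFinite.symm fun i => (e i : ℕ)) i) %ₘ g i =
        Polynomial.X ^ (e i : ℕ) := fun i => by
      rw [Finsupp.coe_equivFunOnFinite_symm, (Polynomial.modByMonic_eq_self_iff (hm i))]
      rw [Polynomial.degree_X_pow, Polynomial.degree_eq_natDegree (hm i).ne_zero, hd i]
      exact_mod_cast (e i).isLt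
    simp only [hk, Polynomial.coeff_X_pow]
    split_ifs with h
    · subst h; simp
    · obtain ⟨i, hi⟩ := Function.ne_iff.mp h
      exact Finset.prod_eq_zero (Finset.mem_univ i) (if_neg fun h' => hi (Fin.ext h'))
  rw [this]
  exact Pi.linearIndependent_single_one (σ → Fin d) R

include hm hd in
theorem boundedMon_span (hd0 : 0 < d) : Submodule.span R (Set.range (boundedMon g d)) = ⊤ := by
  rcases subsingleton_or_nontrivial R with hR | hR
  · haveI : Subsingleton (MvPolynomial σ R ⧸ sepIdeal g) := Module.subsingleton R _
    exact Subsingleton.elim _ _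
  rw [eq_top_iff]
  rintro x -
  obtain ⟨a, rfl⟩ := Ideal.Quotient.mk_surjective x
  induction a using MvPolynomial.induction_on' with
  | add p q hp hq => rw [map_add]; exact Submodule.add_mem _ hp hq
  | monomial m c =>
    rw [show monomial m c = c • monomial m (1 : R) by rw [smul_monomial, smul_eq_mul, mul_one],
      ← Ideal.Quotient.mkₐ_eq_mk R, map_smul]
    refine Submodule.smul_mem _ c ?_
    let u : σ → MvPolynomial σ R ⧸ sepIdeal g := fun i => Ideal.Quotient.mkₐ R _ (X i)
    have hu : ∀ i, Polynomial.aeval (u i) (g i) = 0 := fun i => by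
      rw [Polynomial.aeval_algHom_apply]
      exact Ideal.Quotient.eq_zero_iff_mem.mpr (Ideal.subset_span ⟨i, rfl⟩)
    have hred : ∀ i t, u i ^ t = ∑ j : Fin d, ((Polynomial.X ^ t) %ₘ g i).coeff j • u i ^ (j : ℕ) := fun i t => by
      conv_lhs => rw [← Polynomial.aeval_X_pow (R := R) (u i), ← Polynomial.modByMonic_add_div (Polynomial.X ^ t) (g i),
        map_add, map_mul, hu i, zero_mul, add_zero]
      rw [Polynomial.aeval_eq_sum_range' (n := d) ?_, ← Fin.sum_univ_eq_sum_range
        (fun j => ((Polynomial.X ^ t) %ₘ g i).coeff j • u i ^ j)]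
      refine (Polynomial.natDegree_modByMonic_lt _ (hm i) ?_).trans_eq (hd i)
      intro hone
      have := hd i
      rw [hone, Polynomial.natDegree_one] at this
      omega
    have hmon : Ideal.Quotient.mkₐ R (sepIdeal g) (monomial m 1) = ∏ i, u i ^ m i := by
      rw [monomial_eq, C_1, one_mul, Finsupp.prod_fintype _ _ (fun i => pow_zero _), map_prod]
      simp [u]
    rw [hmon, Finset.prod_congr rfl (fun i _ => hred i (m i)), Finset.prod_univ_sum]
    refine Submodule.sum_mem _ fun e _ => ?_
    rw [Finset.prod_smul]
    refine Submodule.smul_mem _ _ (Submodule.subset_span ⟨e, ?_⟩)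
    rw [boundedMon, monomial_eq, C_1, one_mul, Finsupp.prod_fintype _ _ (fun i => pow_zero _), map_prod]
    simp [u]

/-- The basis of bounded monomials. -/
noncomputable def sepBasis (hd0 : 0 < d) : Module.Basis (σ → Fin d) R (MvPolynomial σ R ⧸ sepIdeal g) :=
  Module.Basis.mk (boundedMon_linearIndependent hm hd) (boundedMon_span hm hd hd0).ge

end Groth.Agent.WildQuot

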