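import Groth.Agent.WildQuot.Coeff

/-!
# Translations of the Artin–Schreier family
-/

set_option autoImplicit false
set_option linter.unusedSectionVars false

universe u

namespace Groth.Agent.WildQuot

open MvPolynomial

variable {R : Type u} [CommRing R] {σ : Type} [Fintype σ] [DecidableEq σ] (p : ℕ) [Fact p.Prime] [CharP R p]
  (b x : σ → R)

local notation "𝔸" => MvPolynomial σ R ⧸ asIdeal p b x

lemma as_algHom_ext {B : Type*} [Semiring B] [Algebra R B] {f g : 𝔸 →ₐ[R] B}
    (h : ∀ i, f (asVar p b x i) = g (asVar p b x i)) : f = g :=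
  Ideal.Quotient.algHom_ext _ (MvPolynomial.algHom_ext h)

/-- A translation of the variables. -/
noncomputable def transHom (c : σ → R) (hc : ∀ i, c i ^ p = b i * c i) : 𝔸 →ₐ[R] 𝔸 :=
  Ideal.Quotient.liftₐ _ (MvPolynomial.aeval fun i => asVar p b x i + algebraMap R 𝔸 (c i)) fun q hq => by
    suffices asIdeal p b x ≤ RingHom.ker
        (MvPolynomial.aeval fun i => asVar p b x i + algebraMap R 𝔸 (c i)).toRingHom from this hq
    refine Ideal.span_le.mpr ?_
    rintro _ ⟨i, rfl⟩
    show MvPolynomial.aeval (fun i => asVar p b x i + algebraMap R 𝔸 (c i)) _ = 0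
    have hpA : ((p : ℕ) : 𝔸) = 0 := by rw [← map_natCast (algebraMap R 𝔸) p, CharP.cast_eq_zero, map_zero]
    obtain ⟨r, hr⟩ := exists_add_pow_prime_eq (Fact.out : p.Prime) (asVar p b x i) (algebraMap R 𝔸 (c i))
    rw [map_sub, map_sub, map_pow, map_mul, aeval_X, aeval_C, aeval_C, hr, hpA, asVar_pow, ← map_pow, hc i, map_mul]
    ring

lemma transHom_var (c : σ → R) (hc : ∀ i, c i ^ p = b i * c i) (i : σ) :
    transHom p b x c hc (asVar p b x i) = asVar p b x i + algebraMap R 𝔸 (c i) := by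
  show MvPolynomial.aeval (fun i => asVar p b x i + algebraMap R 𝔸 (c i)) (X i) = _
  rw [aeval_X]

lemma hc_add {c d : σ → R} (hc : ∀ i, c i ^ p = b i * c i) (hd : ∀ i, d i ^ p = b i * d i) (i : σ) :
    (c + d) i ^ p = b i * (c + d) i := by
  rw [Pi.add_apply, add_pow_char, hc, hd, mul_add]

lemma hc_neg {c : σ → R} (hc : ∀ i, c i ^ p = b i * c i) (i : σ) : (-c) i ^ p = b i * (-c) i := by
  have h := add_pow_char (c i) (-c i) p
  rw [add_neg_cancel, zero_pow (Fact.out : p.Prime).ne_zero, hc] at h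
  rw [Pi.neg_apply, mul_neg]
  exact eq_neg_of_add_eq_zero_right h.symm

/-- A translation as an automorphism. -/
noncomputable def trans (c : σ → R) (hc : ∀ i, c i ^ p = b i * c i) : 𝔸 ≃ₐ[R] 𝔸 :=
  AlgEquiv.ofAlgHom (transHom p b x c hc) (transHom p b x (-c) (hc_neg p b hc))
    (as_algHom_ext p b x fun i => by simp [transHom_var])
    (as_algHom_ext p b x fun i => by simp [transHom_var])

lemma trans_var (c : σ → R) (hc : ∀ i, c i ^ p = b i * c i) (i : σ) :
    trans p b x c hc (asVar p b x i) = asVar p b x i + algebraMap R 𝔸 (c i) := transHom_var p b x c hc i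

lemma algEquiv_ext {f g : 𝔸 ≃ₐ[R] 𝔸} (h : ∀ i, f (asVar p b x i) = g (asVar p b x i)) : f = g :=
  AlgEquiv.coe_toAlgHom_injective (as_algHom_ext p b x h)

/-- The coefficients of a translated monomial. -/
lemma repr_monomial_translate [Nontrivial R] (c : σ → R) (e f : σ → Fin p) :
    (asBasis p b x).repr (∏ i, (asVar p b x i + algebraMap R 𝔸 (c i)) ^ (e i : ℕ)) f =
      ∏ i, c i ^ ((e i : ℕ) - f i) * ((e i : ℕ).choose (f i) : R) := by
  have h := asBasis_repr_prod p b x (fun i => (Polynomial.X + Polynomial.C (c i)) ^ (e i : ℕ)) f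
  simp only [map_pow, map_add, Polynomial.aeval_X, Polynomial.aeval_C] at h
  rw [h]
  refine Finset.prod_congr rfl fun i _ => ?_
  rw [modByMonic_eq_self_of_natDegree_lt p b x, Polynomial.coeff_X_add_C_pow]
  exact lt_of_le_of_lt ((Polynomial.natDegree_pow_le).trans (by rw [Polynomial.natDegree_X_add_C, mul_one])) (e i).isLt

lemma choose_eq_zero_of_lt {m k : ℕ} (h : m < k) : ((m.choose k : ℕ) : R) = 0 := by
  rw [Nat.choose_eq_zero_of_lt h, Nat.cast_zero]

end Groth.Agent.WildQuot
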